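/-
The quadratic space of minus type in dimension six over GF(2), split along a hyperbolic pair
(`v0`, `p0`) with orthogonal complement `U4` (helper22).

* `qm`, `decomp` : coordinates `cv`, `cp`, `pu`, embedding `io`
* facts on `U4` checked by evaluation: `witt_index`, `exists_move`, `stab_fix`, `exists_to_w0`,
  `exists_to_a0`, `sep`, `count_le`
-/
import Cfsg.Agent.Lib.Orth.Models
import Cfsg.Agent.Lib.Orth.Spinor
import Cfsg.Agent.Lib.Orth.Simple

set_option autoImplicit false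

namespace Cfsg.Agent.SuzType

open Cfsg.Agent.Orth
open QuadraticMap (polar)

/-- Indices. -/
abbrev J6 : Type := (Fin 2 ⊕ Fin 2) ⊕ Fin 2
/-- The six-dimensional space. -/
abbrev V6 : Type := J6 → ZMod 2
/-- The four-dimensional space. -/
abbrev U4 : Type := Fin 4 → ZMod 2

/-- The form on `V6`. -/
noncomputable abbrev qm : QuadraticForm (ZMod 2) V6 := quadMinus 2 (ZMod 2) (1 : ZMod 2) 1

theorem qm_apply (x : V6) : qm x = x (.inl (.inl 0)) * x (.inl (.inr 0)) + x (.inl (.inl 1)) * x (.inl (.inr 1))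
    + (x (.inr 0) * x (.inr 0) + x (.inr 0) * x (.inr 1) + x (.inr 1) * x (.inr 1)) := by
  show Cfsg.quadFormMinus 2 (ZMod 2) 1 1 x = _
  simp only [Cfsg.quadFormMinus, Fin.sum_univ_two, one_mul, mul_one]
  ring

/-- The form on `U4`. -/
def qU (a : U4) : ZMod 2 := a 0 * a 1 + (a 2 * a 2 + a 2 * a 3 + a 3 * a 3)

/-- Its polar form. -/
def bU (a b : U4) : ZMod 2 := a 0 * b 1 + a 1 * b 0 + a 2 * b 3 + a 3 * b 2

/-- Reflection in `U4`. -/
def rU (a u : U4) : U4 := u + bU a u • a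

/-- The singular vector. -/
def v0 : V6 := Pi.single (.inl (.inl 0)) 1
/-- Its partner. -/
def p0 : V6 := Pi.single (.inl (.inr 0)) 1

/-- The coordinate at `v0`. -/
def cv (x : V6) : ZMod 2 := x (.inl (.inl 0))
/-- The coordinate at `p0`. -/
def cp (x : V6) : ZMod 2 := x (.inl (.inr 0))
/-- The component in `U4`. -/
def pu (x : V6) : U4 := ![x (.inl (.inl 1)), x (.inl (.inr 1)), x (.inr 0), x (.inr 1)]
/-- The embedding of `U4`. -/
def io (u : U4) : V6 := fun j => match j with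
  | .inl (.inl i) => if i = 0 then 0 else u 0
  | .inl (.inr i) => if i = 0 then 0 else u 1
  | .inr i => if i = 0 then u 2 else u 3

theorem cv_add (x y : V6) : cv (x + y) = cv x + cv y := rfl
theorem cp_add (x y : V6) : cp (x + y) = cp x + cp y := rfl

theorem pu_add (x y : V6) : pu (x + y) = pu x + pu y := by
  funext i; fin_cases i <;> rfl

theorem io_add (u w : U4) : io (u + w) = io u + io w := by
  funext j
  rcases j with (i | i) | i <;> fin_cases i <;> simp [io]

theorem io_zero : io 0 = 0 := by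
  funext j
  rcases j with (i | i) | i <;> fin_cases i <;> simp [io]

theorem cv_io (u : U4) : cv (io u) = 0 := rfl
theorem cp_io (u : U4) : cp (io u) = 0 := rfl

theorem pu_io (u : U4) : pu (io u) = u := by
  funext i; fin_cases i <;> rfl

theorem cv_v0 : cv v0 = 1 := by simp [cv, v0]
theorem cp_v0 : cp v0 = 0 := by simp [cp, v0]
theorem pu_v0 : pu v0 = 0 := by funext i; fin_cases i <;> simp [pu, v0]
theorem cv_p0 : cv p0 = 0 := by simp [cv, p0]
theorem cp_p0 : cp p0 = 1 := by simp [cp, p0]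
theorem pu_p0 : pu p0 = 0 := by funext i; fin_cases i <;> simp [pu, p0]

theorem decomp (x : V6) : x = cv x • v0 + cp x • p0 + io (pu x) := by
  funext j
  rcases j with (i | i) | i <;> fin_cases i <;> simp [io, pu, cv, cp, v0, p0]

theorem ext3 {x y : V6} (h1 : cv x = cv y) (h2 : cp x = cp y) (h3 : pu x = pu y) : x = y := by
  rw [decomp x, decomp y, h1, h2, h3]

theorem qm_eq (x : V6) : qm x = cv x * cp x + qU (pu x) := by
  rw [qm_apply]; simp [qU, cv, cp, pu]; ring

theorem qU_add : ∀ a b : U4, qU (a + b) = qU a + qU b + bU a b := by decide +kernel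

theorem polar_eq (x y : V6) :
    polar ⇑qm x y = cv x * cp y + cp x * cv y + bU (pu x) (pu y) := by
  have h2 : ∀ t : ZMod 2, t + t = 0 := by decide
  rw [polar, qm_eq, qm_eq, qm_eq, cv_add, cp_add, pu_add, qU_add]
  ring

theorem bU_comm : ∀ a b : U4, bU a b = bU b a := by decide +kernel
theorem bU_self : ∀ a : U4, bU a a = 0 := by decide +kernel

theorem bU_add_left (a b c : U4) : bU (a + b) c = bU a c + bU b c := by simp [bU]; ring
theorem bU_add_right (a b c : U4) : bU a (b + c) = bU a b + bU a c := by simp [bU]; ring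
theorem bU_zero_left (a : U4) : bU 0 a = 0 := by simp [bU]
theorem bU_zero_right (a : U4) : bU a 0 = 0 := by simp [bU]
theorem qU_zero : qU 0 = 0 := by simp [qU]

theorem qm_v0 : qm v0 = 0 := by rw [qm_eq, cp_v0, pu_v0, qU_zero, mul_zero, add_zero]
theorem qm_io (u : U4) : qm (io u) = qU u := by rw [qm_eq, cv_io, pu_io, zero_mul, zero_add]
theorem polar_io (u : U4) (x : V6) : polar ⇑qm (io u) x = bU u (pu x) := by
  rw [polar_eq, cv_io, cp_io, pu_io]; ring
theorem polar_v0 (x : V6) : polar ⇑qm v0 x = cp x := by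
  rw [polar_eq, cv_v0, cp_v0, pu_v0, bU_zero_left]; ring

theorem v0_ne : v0 ≠ 0 := fun h => one_ne_zero (by rw [← cv_v0, h]; rfl : (1 : ZMod 2) = 0)

/-- Nondegeneracy of `bU`. -/
theorem bU_nd : ∀ a : U4, (∀ b : U4, bU a b = 0) → a = 0 := by decide +kernel

/-- No totally singular plane. -/
theorem witt_index : ∀ a w : U4, qU a = 0 → qU w = 0 → bU a w = 0 → a = 0 ∨ w = 0 ∨ a = w := by
  decide +kernel

/-- Singular points are moved. -/
theorem exists_move : ∀ e : U4, e ≠ 0 → qU e = 0 →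
    ∃ a b : U4, qU a = 1 ∧ qU b = 1 ∧ rU a (rU b e) ≠ e := by
  decide +kernel

/-- The fixed space of the stabilizer of a nonsingular vector. -/
theorem stab_fix (x f : U4) (hx : qU x = 1)
    (h : ∀ a b : U4, qU a = 1 → qU b = 1 → rU a (rU b x) = x → rU a (rU b f) = f) : f = 0 ∨ f = x := by
  have key : ∀ x : U4, qU x = 1 → ∀ f : U4, f = 0 ∨ f = x ∨
      ∃ a : U4, ∃ b : U4, qU a = 1 ∧ qU b = 1 ∧ rU a (rU b x) = x ∧ rU a (rU b f) ≠ f := by
    decide +kernel
  rcases key x hx f with e | e | ⟨a, b, ha, hb, hx', hf⟩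
  exacts [Or.inl e, Or.inr e, absurd (h a b ha hb hx') hf]

/-- The standard vectors. -/
def W0 : U4 := ![1, 1, 0, 0]
/-- The standard partner. -/
def A0 : U4 := ![0, 1, 1, 0]

theorem qU_W0 : qU W0 = 1 := by decide
theorem qU_A0 : qU A0 = 1 := by decide
theorem bU_A0_W0 : bU A0 W0 = 1 := by decide
theorem W0_ne : W0 ≠ 0 := by decide

theorem exists_to_w0 : ∀ x : U4, qU x = 1 →
    ∃ a b : U4, qU a = 1 ∧ qU b = 1 ∧ rU a (rU b x) = W0 := by
  decide +kernel

theorem exists_to_a0 : ∀ A : U4, qU A = 1 → bU A W0 = 1 →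
    ∃ a b : U4, qU a = 1 ∧ qU b = 1 ∧ rU a (rU b W0) = W0 ∧
      (rU a (rU b A) = A0 ∨ rU a (rU b (A + W0)) = A0) := by
  decide +kernel

theorem sep : ∀ α β : ZMod 2, ∃ s : U4, bU s (A0 + W0) = α ∧ bU s W0 = β := by decide +kernel

/-- The linear conditions cut out at most four pairs. -/
theorem count_le : (Finset.univ.filter fun p : U4 × U4 =>
    (∀ s : U4, bU s A0 = 0 → bU s W0 = 0 → bU s (p.1 + p.2) = 0 ∧ bU s p.2 = 0) ∧
      bU p.1 (A0 + W0) + bU A0 p.2 = 0 ∧
      bU p.1 W0 + bU A0 p.2 + bU p.2 W0 = 0).card ≤ 4 := by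
  decide +kernel

theorem good_qm : Good qm :=
  Good.of_card (quadMinus_nondeg 2 (fun z₁ z₂ => by revert z₁ z₂; decide)) (Or.inr (by simp))

theorem nd_qm : qm.polarBilin.Nondegenerate := good_qm.nd

theorem refl_io_ap (a : U4) (ha : qU a = 1) (x : V6) :
    ap (refl qm (io a)) x = x + bU a (pu x) • io a := by
  rw [refl_ap, qm_io, ha, inv_one, one_mul, polar_io, sub_eq_add_neg]
  congr 1
  exact ZModModule.neg_eq_self _

theorem pu_smul (c : ZMod 2) (x : V6) : pu (c • x) = c • pu x := by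
  funext i; fin_cases i <;> rfl

theorem pu_refl (a : U4) (ha : qU a = 1) (x : V6) :
    pu (ap (refl qm (io a)) x) = rU a (pu x) := by
  rw [refl_io_ap a ha, pu_add, pu_smul, pu_io]; rfl

theorem refl_fix (a : U4) (ha : qU a = 1) {x : V6} (hx : pu x = 0) :
    ap (refl qm (io a)) x = x := by
  rw [refl_io_ap a ha, hx, bU_zero_right, zero_smul, add_zero]

/-- The pair product `r_a r_b` lies in `Ω`. -/
theorem refl_mul_refl_mem {x y : V6} (hx : qm x ≠ 0) (hy : qm y ≠ 0) :
    refl qm x * refl qm y ∈ Cfsg.Omega (ZMod 2) ⇑qm := by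
  rw [mem_omega_iff good_qm, dick_mul good_qm, dick_refl good_qm.nd hx, dick_refl good_qm.nd hy,
    spin_eq_one_of_two good_qm (by decide)]
  exact ⟨by norm_num, rfl⟩

theorem refl_not_mem {x : V6} (hx : qm x ≠ 0) : refl qm x ∉ Cfsg.Omega (ZMod 2) ⇑qm := by
  rw [mem_omega_iff good_qm, dick_refl good_qm.nd hx]
  intro h
  norm_num at h

theorem v0_pair : HPair qm p0 v0 := by
  refine ⟨?_, qm_v0, ?_⟩
  · rw [qm_eq, cv_p0, pu_p0, qU_zero, zero_mul, add_zero]
  · rw [pl_comm, polar_v0, cp_p0]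

/-- `Ω` moves every nonzero singular vector to `v0`. -/
theorem exists_omega_to_v0 {x : V6} (hx0 : x ≠ 0) (hx : qm x = 0) :
    ∃ g ∈ Cfsg.Omega (ZMod 2) ⇑qm, ap g x = v0 := by
  have hn : 3 ≤ Fintype.card J6 := by simp
  obtain ⟨g, hg, c, hc, hgv⟩ := v0_pair.exists_move_singular nd_qm hn hx0 hx
  refine ⟨g, ((omega_eq_eichGen good_qm (by simp) (Or.inr (by simp))).ge) (eichPair_le p0 v0 hg), ?_⟩
  have hc1 : c = 1 := by
    have : ∀ t : ZMod 2, t ≠ 0 → t = 1 := by decide
    exact this c hc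
  obtain rfl := hc1
  rw [one_smul] at hgv
  exact hgv

end Cfsg.Agent.SuzType
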