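/-
The four group `⟨z, v⟩` for an involution `z` of Suzuki type and a conjugate `v` of `z` in the
radical of its centraliser (helper22).

* `A = C_Q(v)`, `B = C_P(z)` with `P` the radical at `v`; both map onto `U4` (`κ`, `θ`) with kernel
  `⟨z, v⟩`
* `comm_ba` : the commutator is `(z v) ^ bU (κ a) (θ b)`
* `sq_ab` : squares
-/
import Cfsg.Agent.Lib.SuzType.Coord
import Cfsg.Agent.Lib.LargeExtraspecial.FourGroup

set_option autoImplicit false
open scoped commutatorElement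

namespace Cfsg.Agent.SuzType

open Cfsg.Agent.Orth Cfsg.Agent.LargeExtraspecial Cfsg.Agent.LargeExtraspecial.Cfg
open QuadraticMap (polar)

theorem z2 : ∀ t : ZMod 2, t = 0 ∨ t = 1 := by decide

theorem smul_or (t : ZMod 2) (x : V6) : t • x = 0 ∨ t • x = x := by
  rcases z2 t with rfl | rfl <;> simp

theorem bU_rU : ∀ a u w : U4, qU a = 1 → bU (rU a u) (rU a w) = bU u w := by decide +kernel
theorem rU_rU : ∀ a u : U4, qU a = 1 → rU a (rU a u) = u := by decide +kernel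
theorem exists_ns_sum : ∀ x : U4, ∃ y : U4, qU y = 1 ∧ qU (x + y) = 1 := by decide +kernel
theorem bU_rep : ∀ e0 e1 e2 e3 : ZMod 2, ∀ w : U4,
    bU ![e1, e0, e3, e2] w = w 0 * e0 + w 1 * e1 + w 2 * e2 + w 3 * e3 := by decide +kernel

variable {G : Type*} [Group G]

theorem pw_sq {z : G} (hz : z * z = 1) (i : ZMod 2) : pw z i * pw z i = 1 := by
  rw [← pw_add hz, ZModModule.add_self, pw_zero]

theorem pw_inv {z : G} (hz : z * z = 1) (i : ZMod 2) : (pw z i)⁻¹ = pw z i :=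
  inv_eq_of_mul_eq_one_right (pw_sq hz i)

theorem pw_mem {z : G} {H : Subgroup G} (hz : z ∈ H) (i : ZMod 2) : pw z i ∈ H := by
  rcases z2 i with rfl | rfl <;> simp [hz]

theorem pw_map {z : G} (g : G) (i : ZMod 2) : g * pw z i * g⁻¹ = pw (g * z * g⁻¹) i := by
  rcases z2 i with rfl | rfl <;> simp

namespace Co

variable (T : Co G)

theorem Qz {q : G} (hq : q ∈ T.Q) : q * T.z = T.z * q := T.data.z_central q hq

theorem ρ_Q {q : G} (hq : q ∈ T.Q) : T.ρ q = 1 := (T.ρ_ker q (T.Qz hq)).2 hq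

theorem ρ_one : T.ρ 1 = 1 := T.ρ_Q (one_mem _)

theorem ρ_inv {g : G} (hg : g * T.z = T.z * g) : T.ρ g⁻¹ = (T.ρ g)⁻¹ := by
  have h := T.ρ_mul g⁻¹ g (Commute.inv_left hg).eq hg
  rw [inv_mul_cancel, ρ_one] at h
  exact eq_inv_of_mul_eq_one_left h.symm

theorem c_eq {x y : G} (hx : x ∈ T.Q) (hy : y ∈ T.Q) (h : T.c x = T.c y) :
    y = x ∨ y = x * T.z := by
  rcases T.c_ker (x⁻¹ * y) (mul_mem (inv_mem hx) hy) (by
    rw [T.c_mul _ (inv_mem hx) y hy, T.c_inv hx, h, ZModModule.add_self]) with e | e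
  · exact Or.inl (inv_mul_eq_one.mp e).symm
  · exact Or.inr (by rw [← e, mul_inv_cancel_left])

theorem inv_eq {x : G} (hx : x ∈ T.Q) : x⁻¹ = x * pw T.z (qm (T.c x)) := by
  refine inv_eq_of_mul_eq_one_right ?_
  rw [← mul_assoc, T.sq x hx, pw_sq T.z_sq]

theorem comm_Q {x y : G} (hx : x ∈ T.Q) (hy : y ∈ T.Q) :
    ⁅x, y⁆ = pw T.z (polar ⇑qm (T.c x) (T.c y)) := by
  have cz : ∀ g ∈ T.Q, ∀ i, g * pw T.z i = pw T.z i * g := fun g hg i => pw_comm g (T.Qz hg) i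
  have h := T.sq _ (mul_mem hx hy)
  rw [T.c_mul x hx y hy] at h
  rw [commutatorElement_def, T.inv_eq hx, T.inv_eq hy]
  calc x * y * (x * pw T.z (qm (T.c x))) * (y * pw T.z (qm (T.c y)))
      = x * y * x * (pw T.z (qm (T.c x)) * y) * pw T.z (qm (T.c y)) := by group
    _ = x * y * (x * y) * pw T.z (qm (T.c x)) * pw T.z (qm (T.c y)) := by
        rw [← cz y hy]; group
    _ = pw T.z (polar ⇑qm (T.c x) (T.c y)) := by
        rw [h, ← pw_add T.z_sq, ← pw_add T.z_sq]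
        congr 1
        rw [polar, sub_eq_add_neg, sub_eq_add_neg, ZModModule.neg_eq_self, ZModModule.neg_eq_self]

end Co

/-- Coordinates together with a conjugate of `z` at `v0`. -/
structure Fr (G : Type*) [Group G] where
  T : Co G
  h : G
  hv : h * T.z * h⁻¹ ∈ T.Q
  cv : T.c (h * T.z * h⁻¹) = v0

namespace Fr

variable (F : Fr G)

/-- The involution. -/
abbrev z : G := F.T.z
/-- The conjugate in the radical. -/
abbrev v : G := F.h * F.T.z * F.h⁻¹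
/-- The radical at `z`. -/
abbrev Q : Subgroup G := F.T.Q
/-- The radical at `v`. -/
abbrev P : Subgroup G := conjS F.h F.T.Q
/-- The component in `U4`. -/
noncomputable def κ (x : G) : U4 := pu (F.T.c x)
/-- The shift at `p0`. -/
noncomputable def θ (g : G) : U4 := pu (ap (F.T.ρ g) p0)

theorem z_sq : F.z * F.z = 1 := F.T.z_sq
theorem z_ne : F.z ≠ 1 := F.T.z_ne
theorem dP : Data F.P F.v := F.T.data.conjugate F.h
theorem v_sq : F.v * F.v = 1 := F.dP.z_sq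
theorem v_ne : F.v ≠ 1 := F.dP.z_ne
theorem v_ne_z : F.v ≠ F.z := fun e => v0_ne (by rw [← F.cv, ← F.T.c_z]; exact congrArg F.T.c e)

theorem cfg [Finite G] : Cfg F.Q F.P F.z F.v :=
  Cfg.of_conj F.T.data F.hv F.v_ne_z (by rw [F.T.card_Q]; norm_num)

theorem zv : F.z * F.v = F.v * F.z := (F.T.Qz F.hv).symm

theorem vz_inj {i j i' j' : ZMod 2} (h : pw F.z i * pw F.v j = pw F.z i' * pw F.v j') :
    i = i' ∧ j = j' := by
  have hc : ∀ i j, F.T.c (pw F.z i * pw F.v j) = j • v0 := by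
    intro i j
    rw [F.T.c_mul _ (pw_mem F.T.data.z_mem i) _ (pw_mem F.hv j)]
    have h1 : F.T.c (pw F.z i) = 0 := by
      rcases z2 i with rfl | rfl <;> simp [F.T.c_one, F.T.c_z]
    have h2 : F.T.c (pw F.v j) = j • v0 := by
      rcases z2 j with rfl | rfl
      · rw [pw_zero, zero_smul, F.T.c_one]
      · rw [pw_one, one_smul]; exact F.cv
    rw [h1, h2, zero_add]
  have hj : j = j' := by
    have e := congrArg F.T.c h
    rw [hc, hc] at e
    have e' := congrArg SuzType.cv e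
    simpa [SuzType.cv, v0] using e'
  subst hj
  exact ⟨pw_inj F.z_ne (mul_right_cancel h), rfl⟩

/-- Elements of the four group, by coordinates. -/
theorem inV {x : G} (hx : x ∈ F.Q) (hc : cp (F.T.c x) = 0) (hk : F.κ x = 0) :
    ∃ i j, x = pw F.z i * pw F.v j := by
  have e : F.T.c x = SuzType.cv (F.T.c x) • v0 := by
    conv_lhs => rw [decomp (F.T.c x)]
    rw [hc, show pu (F.T.c x) = 0 from hk, io_zero, zero_smul, add_zero, add_zero]
  rcases z2 (SuzType.cv (F.T.c x)) with h | h <;> rw [h] at e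
  · rw [zero_smul] at e
    rcases F.T.c_ker x hx e with rfl | rfl
    · exact ⟨0, 0, by simp⟩
    · exact ⟨1, 0, by simp⟩
  · rw [one_smul, ← F.cv] at e
    rcases F.T.c_eq F.hv hx e.symm with rfl | rfl
    · exact ⟨0, 1, by simp⟩
    · exact ⟨1, 1, by simp only [pw_one]; exact F.zv.symm⟩

/-- The centralizer of the four group. -/
def D : Subgroup G := Subgroup.centralizer ({F.z} : Set G) ⊓ Subgroup.centralizer ({F.v} : Set G)

theorem mem_D {g : G} : g ∈ F.D ↔ g * F.z = F.z * g ∧ g * F.v = F.v * g := by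
  rw [D, Subgroup.mem_inf, Subgroup.mem_centralizer_singleton_iff,
    Subgroup.mem_centralizer_singleton_iff]

theorem D_fix_V {g : G} (hg : g ∈ F.D) (i j : ZMod 2) :
    g * (pw F.z i * pw F.v j) = pw F.z i * pw F.v j * g := by
  rw [← mul_assoc, pw_comm g (F.mem_D.1 hg).1 i, mul_assoc, pw_comm g (F.mem_D.1 hg).2 j, mul_assoc]

theorem A_le_D {a : G} (ha : a ∈ A F.Q F.v) : a ∈ F.D :=
  F.mem_D.2 ⟨F.T.Qz (mem_A.mp ha).1, (mem_A.mp ha).2⟩

theorem B_le_D {b : G} (hb : b ∈ A F.P F.z) : b ∈ F.D :=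
  F.mem_D.2 ⟨(mem_A.mp hb).2, F.dP.z_central b (mem_A.mp hb).1⟩

theorem comm_v {x : G} (hx : x ∈ F.Q) : ⁅x, F.v⁆ = pw F.z (cp (F.T.c x)) := by
  rw [F.T.comm_Q hx F.hv]
  congr 1
  rw [show F.T.c (F.h * F.T.z * F.h⁻¹) = v0 from F.cv, polar_eq, cv_v0, cp_v0, pu_v0, bU_zero_right]
  ring

theorem mem_A_iff {x : G} : x ∈ A F.Q F.v ↔ x ∈ F.Q ∧ cp (F.T.c x) = 0 := by
  rw [mem_A]
  refine and_congr_right fun hx => ?_
  rw [← commutatorElement_eq_one_iff_mul_comm, F.comm_v hx]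
  constructor
  · intro h; exact pw_inj F.z_ne (h.trans (pw_zero _).symm)
  · intro h; rw [h, pw_zero]

theorem conj_p {q : G} (hq : q ∈ F.Q) (hc : F.T.c q = p0) : q * F.v * q⁻¹ = F.v * F.z := by
  have h := F.comm_v hq
  rw [hc, cp_p0, pw_one, commutatorElement_def] at h
  rw [← F.zv]
  exact mul_inv_eq_iff_eq_mul.mp h

/-- An element of `C(z)` whose action fixes `v0` may be corrected by the radical to fix `v`. -/
theorem exists_fix {g : G} (hg : g * F.z = F.z * g) (h0 : ap (F.T.ρ g) v0 = v0) :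
    ∃ d ∈ F.D, ∃ q ∈ F.Q, d = q * g ∧ F.T.ρ d = F.T.ρ g := by
  have hgQ := F.T.data.norm g hg _ F.hv
  have hc : F.T.c (g * F.v * g⁻¹) = F.T.c F.v := by
    rw [F.T.ρ_conj g hg _ F.hv, show F.T.c F.v = v0 from F.cv, h0]
  rcases F.T.c_eq F.hv hgQ hc.symm with e | e
  · exact ⟨g, F.mem_D.2 ⟨hg, mul_inv_eq_iff_eq_mul.mp e⟩, 1, one_mem _, by rw [one_mul], rfl⟩
  · obtain ⟨q, hq, hqc⟩ := F.T.c_surj p0
    have hqz := F.T.Qz hq
    have e1 : q * g * F.v * (q * g)⁻¹ = F.v := by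
      calc q * g * F.v * (q * g)⁻¹ = q * (g * F.v * g⁻¹) * q⁻¹ := by group
        _ = q * F.v * (F.z * q⁻¹) := by rw [e]; group
        _ = (q * F.v * q⁻¹) * F.z := by rw [← (Commute.inv_left hqz).eq]; group
        _ = F.v := by rw [F.conj_p hq hqc, mul_assoc, F.z_sq, mul_one]
    refine ⟨q * g, F.mem_D.2 ⟨(Commute.mul_left hqz hg).eq, mul_inv_eq_iff_eq_mul.mp e1⟩, q, hq, rfl, ?_⟩
    rw [F.T.ρ_mul q g hqz hg, F.T.ρ_Q hq, one_mul]

/-- Involutions of the radical other than `z` are conjugate to `v` in `C(z)`. -/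
theorem exists_conj_v {x : G} (hx : x ∈ F.Q) (h2 : x * x = 1) (h1 : x ≠ 1) (hz : x ≠ F.z) :
    ∃ g, g * F.z = F.z * g ∧ g * x * g⁻¹ = F.v := by
  have h0 : F.T.c x ≠ 0 := fun e => (F.T.c_ker x hx e).elim h1 hz
  have hq : qm (F.T.c x) = 0 := pw_inj F.z_ne (by rw [← F.T.sq x hx, h2, pw_zero])
  obtain ⟨ω, hω, hωv⟩ := exists_omega_to_v0 h0 hq
  obtain ⟨g, hg, hgρ⟩ := F.T.ρ_surj ω hω
  have hc : F.T.c (g * x * g⁻¹) = F.T.c F.v := by
    rw [F.T.ρ_conj g hg x hx, hgρ, hωv]; exact F.cv.symm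
  rcases F.T.c_eq F.hv (F.T.data.norm g hg x hx) hc.symm with e | e
  · exact ⟨g, hg, e⟩
  · obtain ⟨q, hq, hqc⟩ := F.T.c_surj p0
    have hqz := F.T.Qz hq
    refine ⟨q * g, (Commute.mul_left hqz hg).eq, ?_⟩
    calc q * g * x * (q * g)⁻¹ = q * (g * x * g⁻¹) * q⁻¹ := by group
      _ = q * F.v * (F.z * q⁻¹) := by rw [e]; group
      _ = (q * F.v * q⁻¹) * F.z := by rw [← (Commute.inv_left hqz).eq]; group
      _ = F.v := by rw [F.conj_p hq hqc, mul_assoc, F.z_sq, mul_one]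

theorem ρ_v0 {d : G} (hd : d ∈ F.D) : ap (F.T.ρ d) v0 = v0 := by
  rw [← F.cv, ← F.T.ρ_conj d (F.mem_D.1 hd).1 _ F.hv]
  congr 1
  exact mul_inv_eq_iff_eq_mul.mpr (F.mem_D.1 hd).2

theorem cp_ap {d : G} (hd : d ∈ F.D) (x : V6) : cp (ap (F.T.ρ d) x) = cp x := by
  have h := polar_ap (F.T.ρ d) v0 x
  rwa [F.ρ_v0 hd, polar_v0, polar_v0] at h

/-- Elements realising products of two reflections. -/
theorem exists_D {a b : U4} (ha : qU a = 1) (hb : qU b = 1) :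
    ∃ d ∈ F.D, F.T.ρ d = refl qm (io a) * refl qm (io b) := by
  obtain ⟨g, hg, hgρ⟩ := F.T.ρ_surj _ (refl_mul_refl_mem (x := io a) (y := io b)
    (by rw [qm_io, ha]; exact one_ne_zero) (by rw [qm_io, hb]; exact one_ne_zero))
  obtain ⟨d, hd, _, _, _, hdρ⟩ := F.exists_fix hg (by
    rw [hgρ, ap_mul, refl_fix b hb pu_v0, refl_fix a ha pu_v0])
  exact ⟨d, hd, hdρ.trans hgρ⟩

theorem κ_conj_D {a b : U4} (ha : qU a = 1) (hb : qU b = 1) {d : G} (hd : d ∈ F.D)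
    (hρ : F.T.ρ d = refl qm (io a) * refl qm (io b)) {x : G} (hx : x ∈ F.Q) :
    F.κ (d * x * d⁻¹) = rU a (rU b (F.κ x)) := by
  rw [κ, F.T.ρ_conj d (F.mem_D.1 hd).1 x hx, hρ, ap_mul, pu_refl a ha, pu_refl b hb]
  rfl

theorem κ_mul {x y : G} (hx : x ∈ F.Q) (hy : y ∈ F.Q) : F.κ (x * y) = F.κ x + F.κ y := by
  rw [κ, F.T.c_mul x hx y hy, pu_add]; rfl

theorem κ_surj (u : U4) : ∃ a ∈ A F.Q F.v, F.κ a = u := by
  obtain ⟨a, ha, hac⟩ := F.T.c_surj (io u)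
  exact ⟨a, F.mem_A_iff.2 ⟨ha, by rw [hac, cp_io]⟩, by rw [κ, hac, pu_io]⟩

variable [Finite G]

theorem A_norm {d a : G} (hd : d ∈ F.D) (ha : a ∈ A F.Q F.v) : d * a * d⁻¹ ∈ A F.Q F.v :=
  F.cfg.norm_A (F.mem_D.1 hd).1 (F.mem_D.1 hd).2 ha

theorem B_norm {d b : G} (hd : d ∈ F.D) (hb : b ∈ A F.P F.z) : d * b * d⁻¹ ∈ A F.P F.z :=
  F.cfg.symm.norm_A (F.mem_D.1 hd).2 (F.mem_D.1 hd).1 hb

/-- `Q ∩ P` is the four group. -/
theorem E_inV {e : G} (he : e ∈ F.Q ⊓ F.P) : ∃ i j, e = pw F.z i * pw F.v j := by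
  have hA : ∀ {e : G}, e ∈ F.Q ⊓ F.P → cp (F.T.c e) = 0 := fun he =>
    (F.mem_A_iff.1 (F.cfg.E_le_A he)).2
  refine F.inV he.1 (hA he) ?_
  by_contra hk
  have hq : ∀ {e : G}, e ∈ F.Q ⊓ F.P → qU (F.κ e) = 0 := by
    intro e he
    have h := F.T.sq e he.1
    rw [F.cfg.E_sq he, qm_eq, hA he, mul_zero, zero_add] at h
    exact pw_inj F.z_ne (h.symm.trans (pw_zero _).symm)
  obtain ⟨a, b, ha, hb, hne⟩ := exists_move _ hk (hq he)
  obtain ⟨d, hd, hρ⟩ := F.exists_D ha hb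
  have he' : d * e * d⁻¹ ∈ F.Q ⊓ F.P := F.cfg.norm_E (F.mem_D.1 hd).1 (F.mem_D.1 hd).2 he
  have hk' := F.κ_conj_D ha hb hd hρ he.1
  have h1 := hq (mul_mem he he')
  rw [F.κ_mul he.1 he'.1, qU_add, hq he, hq he', zero_add, zero_add] at h1
  rcases witt_index _ _ (hq he) (hq he') h1 with h | h | h
  · exact hk h
  · refine hk ?_
    rw [hk'] at h
    calc F.κ e = rU b (rU a (rU a (rU b (F.κ e)))) := by rw [rU_rU a _ ha, rU_rU b _ hb]
      _ = 0 := by rw [h]; simp [rU, bU]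
  · exact hne (hk'.symm.trans h.symm)

theorem V_fix {g : G} (hg : g ∈ F.D) {e : G} (he : e ∈ F.Q ⊓ F.P) : g * e = e * g := by
  obtain ⟨i, j, rfl⟩ := F.E_inV he
  exact F.D_fix_V hg i j

/-- `B` acts trivially on the middle layer. -/
theorem κ_conj_B {b x : G} (hb : b ∈ A F.P F.z) (hx : x ∈ A F.Q F.v) :
    F.κ (b * x * b⁻¹) = F.κ x := by
  have h := F.cfg.comm_mem hx hb
  rw [← inv_mem_iff (x := ⁅x, b⁆), commutatorElement_inv] at h
  obtain ⟨i, j, hij⟩ := F.E_inV h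
  have e : b * x * b⁻¹ = ⁅b, x⁆ * x := by rw [commutatorElement_def]; group
  rw [e, F.κ_mul h.1 (mem_A.mp hx).1, hij, F.κ_mul (pw_mem F.T.data.z_mem i) (pw_mem F.hv j)]
  have h1 : F.κ (pw F.z i) = 0 := by
    rcases z2 i with rfl | rfl <;> simp [κ, F.T.c_one, F.T.c_z, pu]
  have h2 : F.κ (pw F.v j) = 0 := by
    rcases z2 j with rfl | rfl
    · simp [κ, F.T.c_one, pu]
    · rw [pw_one, κ, show F.T.c F.v = v0 from F.cv, pu_v0]
  rw [h1, h2, zero_add, zero_add]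

/-- An element of `D` trivial on the middle layer. -/
theorem ap_unip {b : G} (hd : b ∈ F.D) (hfix : ∀ u : U4, pu (ap (F.T.ρ b) (io u)) = u) (x : V6) :
    ap (F.T.ρ b) x =
      x + cp x • io (F.θ b) + (cp x * qU (F.θ b) + bU (pu x) (F.θ b)) • v0 := by
  set w := ap (F.T.ρ b) p0 with hw
  have hwp : cp w = 1 := by rw [hw, F.cp_ap hd, cp_p0]
  have hwv : SuzType.cv w = qU (F.θ b) := by
    have h : qm w = qm p0 := Q_ap _ _
    rw [qm_eq, qm_eq, hwp, cv_p0, pu_p0, qU_zero, zero_mul, add_zero, mul_one] at h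
    exact add_eq_zero_iff_eq_neg.mp h |>.trans (ZModModule.neg_eq_self _)
  have hu : ∀ u : U4, ap (F.T.ρ b) (io u) = io u + bU u (F.θ b) • v0 := by
    intro u
    have hpu := hfix u
    have hcp : cp (ap (F.T.ρ b) (io u)) = 0 := by rw [F.cp_ap hd, cp_io]
    have hcv : SuzType.cv (ap (F.T.ρ b) (io u)) = bU u (F.θ b) := by
      have h := polar_ap (F.T.ρ b) (io u) p0
      rw [polar_eq, ← hw, hwp, hcp, hpu, mul_one, zero_mul, add_zero, polar_io, pu_p0,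
        bU_zero_right] at h
      exact add_eq_zero_iff_eq_neg.mp h |>.trans (ZModModule.neg_eq_self _)
    refine ext3 ?_ ?_ ?_
    · rw [hcv, cv_add, cv_io, zero_add]; simp [SuzType.cv, v0]
    · rw [hcp, cp_add, cp_io, zero_add]; simp [cp, v0]
    · rw [hpu, pu_add, pu_io, pu_smul, pu_v0, smul_zero, add_zero]
  have hp : ap (F.T.ρ b) p0 = p0 + io (F.θ b) + qU (F.θ b) • v0 := by
    rw [← hw]
    refine ext3 ?_ ?_ ?_
    · rw [hwv, cv_add, cv_add, cv_p0, cv_io, zero_add, zero_add]; simp [SuzType.cv, v0]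
    · rw [hwp, cp_add, cp_add, cp_p0, cp_io, add_zero]; simp [cp, v0]
    · rw [pu_add, pu_add, pu_p0, pu_io, pu_smul, pu_v0, smul_zero, zero_add, add_zero]; rfl
  conv_lhs => rw [decomp x]
  rw [map_add, map_add, map_smul, map_smul, F.ρ_v0 hd, hp, hu]
  conv_rhs => arg 1; arg 1; rw [decomp x]
  rw [add_smul, mul_smul, smul_add, smul_add]
  abel

/-- The action of `b ∈ B`. -/
theorem ap_B {b : G} (hb : b ∈ A F.P F.z) (x : V6) :
    ap (F.T.ρ b) x =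
      x + cp x • io (F.θ b) + (cp x * qU (F.θ b) + bU (pu x) (F.θ b)) • v0 := by
  have hd := F.B_le_D hb
  refine F.ap_unip hd (fun u => ?_) x
  obtain ⟨a, ha, hac⟩ := F.T.c_surj (io u)
  have haA : a ∈ A F.Q F.v := F.mem_A_iff.2 ⟨ha, by rw [hac, cp_io]⟩
  rw [← hac, ← F.T.ρ_conj b (F.mem_D.1 hd).1 a ha]
  show F.κ (b * a * b⁻¹) = u
  rw [F.κ_conj_B hb haA, κ, hac, pu_io]

theorem θ_mul {b b' : G} (hb : b ∈ A F.P F.z) (hb' : b' ∈ A F.P F.z) :
    F.θ (b * b') = F.θ b + F.θ b' := by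
  have hz := (mem_A.mp hb).2
  have hz' := (mem_A.mp hb').2
  rw [θ, F.T.ρ_mul b b' hz hz', ap_mul, F.ap_B hb' p0, cp_p0, pu_p0, bU_zero_left, one_smul,
    add_zero, one_mul, map_add, map_add, map_smul, F.ρ_v0 (F.B_le_D hb), pu_add, pu_add,
    pu_smul, pu_v0, smul_zero, add_zero, F.ap_B hb (io _), cp_io, pu_io, zero_smul, add_zero,
    zero_mul, zero_add, pu_add, pu_io, pu_smul, pu_v0, smul_zero, add_zero]
  rfl

theorem θ_one : F.θ 1 = 0 := by rw [θ, F.T.ρ_one, ap_one, pu_p0]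

theorem θ_inv {b : G} (hb : b ∈ A F.P F.z) : F.θ b⁻¹ = F.θ b := by
  have h := F.θ_mul hb (inv_mem hb)
  rw [mul_inv_cancel, θ_one] at h
  exact (eq_neg_of_add_eq_zero_right h.symm).trans (ZModModule.neg_eq_self _)

theorem θ_ker {b : G} (hb : b ∈ A F.P F.z) (h : F.θ b = 0) : b ∈ F.Q ⊓ F.P := by
  refine ⟨(F.T.ρ_ker b (mem_A.mp hb).2).1 (ext_ap fun x => ?_), (mem_A.mp hb).1⟩
  rw [F.ap_B hb, h, io_zero, qU_zero, bU_zero_right, smul_zero, mul_zero, add_zero, add_zero,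
    zero_smul, add_zero, ap_one]

theorem θ_conj {d b : G} (hd : d ∈ F.D) (hb : b ∈ A F.P F.z) {a a' : U4} (ha : qU a = 1)
    (ha' : qU a' = 1) (hρ : F.T.ρ d = refl qm (io a) * refl qm (io a')) :
    F.θ (d * b * d⁻¹) = rU a (rU a' (F.θ b)) := by
  have hdz := (F.mem_D.1 hd).1
  have hbz := (mem_A.mp hb).2
  have e : F.T.ρ (d * b * d⁻¹) = F.T.ρ d * F.T.ρ b * (F.T.ρ d)⁻¹ := by
    rw [F.T.ρ_mul _ _ (Commute.mul_left hdz hbz).eq (Commute.inv_left hdz).eq,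
      F.T.ρ_mul d b hdz hbz, F.T.ρ_inv hdz]
  have hp : ap (F.T.ρ d)⁻¹ p0 = p0 := by
    refine ap_inj (F.T.ρ d) ?_
    rw [ap_ap_inv, hρ, ap_mul, refl_fix a' ha' pu_p0, refl_fix a ha pu_p0]
  rw [θ, e, ap_mul, ap_mul, hp, hρ, ap_mul, pu_refl a ha, pu_refl a' ha']
  rfl

/-- `θ` is onto. -/
theorem θ_surj (w : U4) : ∃ b ∈ A F.P F.z, F.θ b = w := by
  -- the image
  have hadd : ∀ {u u' : U4}, (∃ b ∈ A F.P F.z, F.θ b = u) → (∃ b ∈ A F.P F.z, F.θ b = u') →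
      ∃ b ∈ A F.P F.z, F.θ b = u + u' := by
    rintro u u' ⟨b, hb, rfl⟩ ⟨b', hb', rfl⟩
    exact ⟨b * b', mul_mem hb hb', F.θ_mul hb hb'⟩
  have hmv : ∀ {u a a' : U4}, qU a = 1 → qU a' = 1 → (∃ b ∈ A F.P F.z, F.θ b = u) →
      ∃ b ∈ A F.P F.z, F.θ b = rU a (rU a' u) := by
    rintro u a a' ha ha' ⟨b, hb, rfl⟩
    obtain ⟨d, hd, hρ⟩ := F.exists_D ha ha'
    exact ⟨d * b * d⁻¹, F.B_norm hd hb, F.θ_conj hd hb ha ha' hρ⟩
  -- a nontrivial value
  obtain ⟨u0, hu0, hu0v⟩ : ∃ u : U4, u ≠ 0 ∧ ∃ b ∈ A F.P F.z, F.θ b = u := by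
    obtain ⟨a, ha, haz, b, hb, hbz, hab⟩ := F.dP.exists_noncomm F.cfg.z_mem F.z_ne F.v_ne_z.symm
      (by rw [show F.P = conjS F.h F.T.Q from rfl, Subgroup.card_map_of_injective
        (MulAut.conj F.h).injective, F.T.card_Q]; norm_num)
    by_contra! hcon
    have h0 : ∀ x, x ∈ F.P → x * F.z = F.z * x → x ∈ F.Q ⊓ F.P := fun x hx hxz =>
      F.θ_ker (mem_A.mpr ⟨hx, hxz⟩) (by
        by_contra hne
        exact hcon _ hne x (mem_A.mpr ⟨hx, hxz⟩) rfl)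
    have hcomm := F.V_fix (F.B_le_D (mem_A.mpr ⟨ha, haz⟩)) (h0 b hb hbz)
    rw [← commutatorElement_eq_one_iff_mul_comm, hab] at hcomm
    exact F.v_ne hcomm
  obtain ⟨u1, hu1, hu1v⟩ : ∃ u : U4, qU u = 1 ∧ ∃ b ∈ A F.P F.z, F.θ b = u := by
    rcases z2 (qU u0) with h | h
    · obtain ⟨a, a', ha, ha', hne⟩ := exists_move u0 hu0 h
      have h' := hmv ha ha' hu0v
      rcases z2 (qU (rU a (rU a' u0))) with g | g
      · refine ⟨u0 + rU a (rU a' u0), ?_, hadd hu0v h'⟩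
        rw [qU_add, h, g, zero_add, zero_add]
        rcases z2 (bU u0 (rU a (rU a' u0))) with k | k
        · rcases witt_index _ _ h g k with e | e | e
          · exact absurd e hu0
          · exact absurd (by
              calc u0 = rU a' (rU a (rU a (rU a' u0))) := by rw [rU_rU a _ ha, rU_rU a' _ ha']
                _ = 0 := by rw [e]; simp [rU, bU]) hu0
          · exact absurd e.symm hne
        · exact k
      · exact ⟨_, g, h'⟩
    · exact ⟨u0, h, hu0v⟩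
  have hns : ∀ x : U4, qU x = 1 → ∃ b ∈ A F.P F.z, F.θ b = x := by
    intro x hx
    obtain ⟨a, a', ha, ha', e⟩ := exists_to_w0 u1 hu1
    obtain ⟨c, c', hc, hc', e'⟩ := exists_to_w0 x hx
    have h := hmv hc' hc (hmv ha ha' hu1v)
    rwa [e, ← e', rU_rU c _ hc, rU_rU c' _ hc'] at h
  obtain ⟨y, hy, hy'⟩ := exists_ns_sum w
  have h := hadd (hns _ hy') (hns y hy)
  rwa [add_assoc, ZModModule.add_self, add_zero] at h

end Fr

end Cfsg.Agent.SuzType
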