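/-
The commutator between the two halves `A`, `B` of the centraliser of the four group `⟨z, v⟩` and
the squares of their products (helper22).

* `swap` : an element exchanging `z` and `v`
* `comm_ba` : `⁅b, a⁆ = (z v) ^ bU (κ a) (θ b)`
* `sq_B`, `sq_AB` : squares; `eq_AB` : uniqueness of the parameters
-/
import Cfsg.Agent.Lib.SuzType.Frame

set_option autoImplicit false
open scoped commutatorElement

namespace Cfsg.Agent.SuzType

open Cfsg.Agent.Orth Cfsg.Agent.LargeExtraspecial Cfsg.Agent.LargeExtraspecial.Cfg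
open QuadraticMap (polar)

theorem bU_W0_A0 : bU W0 A0 = 1 := by decide

theorem bU_ext (f g : U4) (h : ∀ w, bU f w = bU g w) : f = g := by
  have h' : f + g = 0 := bU_nd _ fun w => by rw [bU_add_left, h, ZModModule.add_self]
  exact (add_eq_zero_iff_eq_neg.mp h').trans (ZModModule.neg_eq_self _)

theorem bU_pair (a b u w : U4) (ha : qU a = 1) (hb : qU b = 1) :
    bU (rU a (rU b u)) (rU a (rU b w)) = bU u w := by
  rw [bU_rU a _ _ ha, bU_rU b _ _ hb]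

/-- A biadditive form invariant under pairs of reflections is a multiple of `bU`. -/
theorem eq_bU (β : U4 → U4 → ZMod 2) (hl : ∀ u u' w, β (u + u') w = β u w + β u' w)
    (hr : ∀ u w w', β u (w + w') = β u w + β u w')
    (hinv : ∀ a b u w, qU a = 1 → qU b = 1 → β (rU a (rU b u)) (rU a (rU b w)) = β u w) :
    ∃ c : ZMod 2, ∀ u w, β u w = c * bU u w := by
  have hr0 : ∀ u, β u 0 = 0 := fun u => by
    have h := hr u 0 0
    rw [add_zero] at h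
    exact add_eq_left.mp h.symm
  have hsm : ∀ u (c : ZMod 2) e, β u (c • e) = c * β u e := by
    intro u c e
    rcases z2 c with rfl | rfl <;> simp [hr0]
  -- the representing vector
  have rep : ∀ u, ∃ f, ∀ w, β u w = bU f w := by
    intro u
    refine ⟨![β u ![0, 1, 0, 0], β u ![1, 0, 0, 0], β u ![0, 0, 0, 1], β u ![0, 0, 1, 0]],
      fun w => ?_⟩
    rw [bU_rep]
    have e : w = w 0 • ![1, 0, 0, 0] + w 1 • ![0, 1, 0, 0] + w 2 • ![0, 0, 1, 0]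
        + w 3 • (![0, 0, 0, 1] : U4) := by
      funext i; fin_cases i <;> simp
    conv_lhs => rw [e]
    simp only [hr, hsm]
  have one : ∀ x, qU x = 1 → ∃ c : ZMod 2, ∀ w, β x w = c * bU x w := by
    intro x hx
    obtain ⟨f, hf⟩ := rep x
    have hfix : ∀ a b, qU a = 1 → qU b = 1 → rU a (rU b x) = x → rU a (rU b f) = f := by
      intro a b ha hb hfx
      refine bU_ext _ _ fun w' => ?_
      have e : rU a (rU b (rU b (rU a w'))) = w' := by rw [rU_rU b _ hb, rU_rU a _ ha]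
      calc bU (rU a (rU b f)) w'
          = bU (rU a (rU b f)) (rU a (rU b (rU b (rU a w')))) := by rw [e]
        _ = β x (rU b (rU a w')) := by rw [bU_pair _ _ _ _ ha hb, hf]
        _ = β (rU a (rU b x)) (rU a (rU b (rU b (rU a w')))) := (hinv a b _ _ ha hb).symm
        _ = bU f w' := by rw [hfx, e, hf]
    rcases stab_fix x f hx hfix with h | h
    · exact ⟨0, fun w => by rw [hf, h, bU_zero_left, zero_mul]⟩
    · exact ⟨1, fun w => by rw [hf, h, one_mul]⟩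
  obtain ⟨c0, hc0⟩ := one W0 qU_W0
  have all1 : ∀ x, qU x = 1 → ∀ w, β x w = c0 * bU x w := by
    intro x hx w
    obtain ⟨a, b, ha, hb, e⟩ := exists_to_w0 x hx
    rw [← hinv a b x w ha hb, e, hc0, ← e, bU_pair _ _ _ _ ha hb]
  refine ⟨c0, fun u w => ?_⟩
  obtain ⟨y, hy, hy'⟩ := exists_ns_sum u
  have h : u = (u + y) + y := by rw [add_assoc, ZModModule.add_self, add_zero]
  rw [h, hl, all1 _ hy', all1 y hy, ← mul_add, ← bU_add_left]

variable {G : Type*} [Group G]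

namespace Fr

variable (F : Fr G) [Finite G]

theorem z_mem_A : F.z ∈ A F.Q F.v := F.cfg.E_le_A F.cfg.z_mem_E
theorem v_mem_A : F.v ∈ A F.Q F.v := F.cfg.E_le_A F.cfg.s_mem_E
theorem v_mem_B : F.v ∈ A F.P F.z := mem_A.mpr ⟨F.dP.z_mem, F.zv.symm⟩
theorem z_mem_B : F.z ∈ A F.P F.z := mem_A.mpr ⟨F.cfg.z_mem, rfl⟩

/-- An element exchanging `z` and `v`. -/
theorem swap : ∃ g : G, g * F.z * g⁻¹ = F.v ∧ g * F.v * g⁻¹ = F.z := by
  have hx : F.h⁻¹ * F.z * F.h ∈ F.Q := mem_conjS.1 F.cfg.z_mem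
  obtain ⟨g, hg, hgx⟩ := F.exists_conj_v hx
    (by calc F.h⁻¹ * F.z * F.h * (F.h⁻¹ * F.z * F.h) = F.h⁻¹ * (F.z * F.z) * F.h := by group
          _ = 1 := by rw [F.z_sq]; group)
    (fun e => F.z_ne (by
      calc F.z = F.h * (F.h⁻¹ * F.z * F.h) * F.h⁻¹ := by group
        _ = 1 := by rw [e]; group))
    (fun e => F.v_ne_z (by
      calc F.v = F.h * (F.h⁻¹ * F.z * F.h) * F.h⁻¹ := by rw [e]
        _ = F.z := by group))
  refine ⟨F.h * g⁻¹, ?_, ?_⟩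
  · calc F.h * g⁻¹ * F.z * (F.h * g⁻¹)⁻¹ = F.h * (g⁻¹ * (F.z * g)) * F.h⁻¹ := by group
      _ = F.v := by rw [← hg]; simp only [Fr.v, Fr.z]; group
  · calc F.h * g⁻¹ * F.v * (F.h * g⁻¹)⁻¹ = F.h * (g⁻¹ * (g * (F.h⁻¹ * F.z * F.h) * g⁻¹) * g) * F.h⁻¹ := by
          rw [hgx]; group
      _ = F.z := by group

theorem swap_maps {g : G} (h1 : g * F.z * g⁻¹ = F.v) (h2 : g * F.v * g⁻¹ = F.z) :
    (∀ a ∈ A F.Q F.v, g * a * g⁻¹ ∈ A F.P F.z) ∧ ∀ b ∈ A F.P F.z, g * b * g⁻¹ ∈ A F.Q F.v := by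
  have hP : conjS g F.Q = F.P := F.T.data.conjS_eq_of_conj_eq h1
  have hQ : conjS (g * F.h) F.Q = conjS 1 F.Q := F.T.data.conjS_eq_of_conj_eq (by
    rw [show g * F.h * F.T.z * (g * F.h)⁻¹ = g * F.v * g⁻¹ by simp only [Fr.v]; group, h2]; group)
  constructor
  · intro a ha
    refine mem_A.mpr ⟨hP ▸ ⟨a, (mem_A.mp ha).1, rfl⟩, ?_⟩
    rw [← h2]
    calc g * a * g⁻¹ * (g * F.v * g⁻¹) = g * (a * F.v) * g⁻¹ := by group
      _ = _ := by rw [(mem_A.mp ha).2]; group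
  · intro b hb
    refine mem_A.mpr ⟨?_, ?_⟩
    · have hm : g * b * g⁻¹ ∈ conjS (g * F.h) F.Q := mem_conjS.2 (by
        have := mem_conjS.1 (mem_A.mp hb).1
        simpa [mul_assoc] using this)
      rw [hQ, mem_conjS] at hm
      simpa using hm
    · rw [← h1]
      calc g * b * g⁻¹ * (g * F.z * g⁻¹) = g * (b * F.z) * g⁻¹ := by group
        _ = _ := by rw [(mem_A.mp hb).2]; group

theorem comm_ba_mem {a b : G} (ha : a ∈ A F.Q F.v) (hb : b ∈ A F.P F.z) :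
    ⁅b, a⁆ ∈ F.Q ⊓ F.P := by
  rw [← commutatorElement_inv]; exact inv_mem (F.cfg.comm_mem ha hb)

theorem comm_ba_c {a b : G} (ha : a ∈ A F.Q F.v) (hb : b ∈ A F.P F.z) :
    F.T.c ⁅b, a⁆ = bU (F.κ a) (F.θ b) • v0 := by
  have haQ := (mem_A.mp ha).1
  have hbz := (mem_A.mp hb).2
  have e : ⁅b, a⁆ = b * a * b⁻¹ * a⁻¹ := by rw [commutatorElement_def]
  rw [e, F.T.c_mul _ (F.T.data.norm b hbz a haQ) _ (inv_mem haQ), F.T.c_inv haQ,
    F.T.ρ_conj b hbz a haQ, F.ap_B hb, (F.mem_A_iff.1 ha).2, zero_smul, add_zero, zero_mul, zero_add,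
    add_comm (F.T.c a), add_assoc, ZModModule.add_self, add_zero]
  rfl

theorem comm_B_mul {a b b' : G} (ha : a ∈ A F.Q F.v) (hb : b ∈ A F.P F.z) (hb' : b' ∈ A F.P F.z) :
    ⁅b * b', a⁆ = ⁅b', a⁆ * ⁅b, a⁆ := by
  have h := F.V_fix (F.B_le_D hb) (F.comm_ba_mem ha hb')
  calc ⁅b * b', a⁆ = b * ⁅b', a⁆ * b⁻¹ * ⁅b, a⁆ := by simp only [commutatorElement_def]; group
    _ = _ := by rw [h]; group

theorem comm_A_mul {a a' b : G} (ha : a ∈ A F.Q F.v) (ha' : a' ∈ A F.Q F.v) (hb : b ∈ A F.P F.z) :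
    ⁅b, a * a'⁆ = ⁅b, a⁆ * ⁅b, a'⁆ := by
  have h := F.V_fix (F.A_le_D ha) (F.comm_ba_mem ha' hb)
  calc ⁅b, a * a'⁆ = ⁅b, a⁆ * (a * ⁅b, a'⁆ * a⁻¹) := by simp only [commutatorElement_def]; group
    _ = _ := by rw [h, mul_inv_cancel_right]

theorem ker_κ {a : G} (ha : a ∈ A F.Q F.v) (h : F.κ a = 0) : a ∈ F.Q ⊓ F.P := by
  obtain ⟨i, j, rfl⟩ := F.inV (mem_A.mp ha).1 (F.mem_A_iff.1 ha).2 h
  exact mul_mem (pw_mem F.cfg.z_mem_E i) (pw_mem F.cfg.s_mem_E j)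

theorem κ_inv {a : G} (ha : a ∈ F.Q) : F.κ a⁻¹ = F.κ a := by
  rw [κ, F.T.c_inv ha]; rfl

theorem θ_pw_mul {e : G} (he : e ∈ F.Q ⊓ F.P) : F.θ e = 0 := by
  rw [θ, F.T.ρ_Q he.1, ap_one, pu_p0]

theorem comm_congr {a a' b b' : G} (ha : a ∈ A F.Q F.v) (ha' : a' ∈ A F.Q F.v) (hb : b ∈ A F.P F.z)
    (hb' : b' ∈ A F.P F.z) (hκ : F.κ a = F.κ a') (hθ : F.θ b = F.θ b') : ⁅b, a⁆ = ⁅b', a'⁆ := by
  have h1 : a⁻¹ * a' ∈ F.Q ⊓ F.P := F.ker_κ (mul_mem (inv_mem ha) ha') (by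
    rw [F.κ_mul (inv_mem (mem_A.mp ha).1) (mem_A.mp ha').1, F.κ_inv (mem_A.mp ha).1, hκ,
      ZModModule.add_self])
  have h2 : b⁻¹ * b' ∈ F.Q ⊓ F.P := F.θ_ker (mul_mem (inv_mem hb) hb') (by
    rw [F.θ_mul (inv_mem hb) hb', F.θ_inv hb, hθ, ZModModule.add_self])
  have hA : ∀ {e : G}, e ∈ F.Q ⊓ F.P → e ∈ A F.Q F.v := fun he => F.cfg.E_le_A he
  have hB : ∀ {e : G}, e ∈ F.Q ⊓ F.P → e ∈ A F.P F.z := fun he =>
    F.cfg.symm.E_le_A (by rwa [inf_comm])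
  have e1 : ⁅b', a⁻¹ * a'⁆ = 1 :=
    commutatorElement_eq_one_iff_mul_comm.mpr (F.V_fix (F.B_le_D hb') h1)
  have e2 : ⁅b⁻¹ * b', a⁆ = 1 :=
    commutatorElement_eq_one_iff_mul_comm.mpr (F.V_fix (F.A_le_D ha) h2).symm
  calc ⁅b, a⁆ = ⁅b * (b⁻¹ * b'), a⁆ := by rw [F.comm_B_mul ha hb (hB h2), e2, one_mul]
    _ = ⁅b', a⁆ := by rw [mul_inv_cancel_left]
    _ = ⁅b', a * (a⁻¹ * a')⁆ := by rw [F.comm_A_mul ha (hA h1) hb', e1, mul_one]
    _ = ⁅b', a'⁆ := by rw [mul_inv_cancel_left]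

theorem comm_ba {a b : G} (ha : a ∈ A F.Q F.v) (hb : b ∈ A F.P F.z) :
    ⁅b, a⁆ = pw F.z (bU (F.κ a) (F.θ b)) * pw F.v (bU (F.κ a) (F.θ b)) := by
  have hv2 : ∀ i j i' j', pw F.z i * pw F.v j * (pw F.z i' * pw F.v j') =
      pw F.z (i + i') * pw F.v (j + j') := by
    intro i j i' j'
    have h : Commute (pw F.v j) (pw F.z i') := (pw_comm (pw F.v j) (F.T.Qz (pw_mem F.hv j)) i')
    rw [pw_add F.z_sq, pw_add F.v_sq, mul_assoc, ← mul_assoc (pw F.v j), h.eq]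
    group
  have hex : ∀ {a b : G}, a ∈ A F.Q F.v → b ∈ A F.P F.z →
      ∃ i, ⁅b, a⁆ = pw F.z i * pw F.v (bU (F.κ a) (F.θ b)) := by
    intro a b ha hb
    obtain ⟨i, j, h⟩ := F.E_inV (F.comm_ba_mem ha hb)
    refine ⟨i, ?_⟩
    have hc := F.comm_ba_c ha hb
    rw [h, F.T.c_mul _ (pw_mem F.T.data.z_mem i) _ (pw_mem F.hv j)] at hc
    have h1 : F.T.c (pw F.z i) = 0 := by
      rcases z2 i with rfl | rfl <;> simp [F.T.c_one, F.T.c_z]
    have h2 : F.T.c (pw F.v j) = j • v0 := by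
      rcases z2 j with rfl | rfl
      · rw [pw_zero, zero_smul, F.T.c_one]
      · rw [pw_one, one_smul]; exact F.cv
    rw [h1, h2, zero_add] at hc
    have hj := congrArg SuzType.cv hc
    simp [SuzType.cv, v0] at hj
    rw [h, hj]
  choose aL haL hκL using F.κ_surj
  choose bL hbL hθL using F.θ_surj
  choose β hβ using fun u w => hex (haL u) (hbL w)
  simp only [hκL, hθL] at hβ
  have hrep : ∀ {a b : G}, a ∈ A F.Q F.v → b ∈ A F.P F.z →
      ⁅b, a⁆ = pw F.z (β (F.κ a) (F.θ b)) * pw F.v (bU (F.κ a) (F.θ b)) := by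
    intro a b ha hb
    rw [← hβ]
    exact F.comm_congr ha (haL _) hb (hbL _) (hκL _).symm (hθL _).symm
  have hl : ∀ u u' w, β (u + u') w = β u w + β u' w := by
    intro u u' w
    have h := F.comm_A_mul (haL u) (haL u') (hbL w)
    rw [hrep (mul_mem (haL u) (haL u')) (hbL w), hβ, hβ, hv2,
      F.κ_mul (mem_A.mp (haL u)).1 (mem_A.mp (haL u')).1, hκL, hκL, hθL] at h
    exact (F.vz_inj h).1
  have hr : ∀ u w w', β u (w + w') = β u w + β u w' := by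
    intro u w w'
    have h := F.comm_B_mul (haL u) (hbL w) (hbL w')
    rw [hrep (haL u) (mul_mem (hbL w) (hbL w')), hβ, hβ, hv2, F.θ_mul (hbL w) (hbL w'),
      hθL, hθL, hκL] at h
    rw [(F.vz_inj h).1, add_comm]
  have hinv : ∀ x y u w, qU x = 1 → qU y = 1 →
      β (rU x (rU y u)) (rU x (rU y w)) = β u w := by
    intro x y u w hx hy
    obtain ⟨d, hd, hρ⟩ := F.exists_D hx hy
    have h : ⁅d * bL w * d⁻¹, d * aL u * d⁻¹⁆ = ⁅bL w, aL u⁆ := by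
      have hf := F.V_fix hd (F.comm_ba_mem (haL u) (hbL w))
      calc ⁅d * bL w * d⁻¹, d * aL u * d⁻¹⁆ = d * ⁅bL w, aL u⁆ * d⁻¹ := by
            simp only [commutatorElement_def]; group
        _ = _ := by rw [hf, mul_inv_cancel_right]
    rw [hrep (F.A_norm hd (haL u)) (F.B_norm hd (hbL w)), hβ,
      F.κ_conj_D hx hy hd hρ (mem_A.mp (haL u)).1, F.θ_conj hd (hbL w) hx hy hρ, hκL, hθL] at h
    exact (F.vz_inj h).1
  obtain ⟨c, hc⟩ := eq_bU β hl hr hinv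
  have hc1 : c = 1 := by
    rcases z2 c with rfl | rfl
    · exfalso
      obtain ⟨g, g1, g2⟩ := F.swap
      obtain ⟨hgA, hgB⟩ := F.swap_maps g1 g2
      obtain ⟨a, ha, hκa⟩ := F.κ_surj A0
      obtain ⟨b, hb, hθb⟩ := F.θ_surj W0
      have h := hrep ha hb
      rw [hc, zero_mul, pw_zero, one_mul, hκa, hθb, bU_A0_W0, pw_one] at h
      have h' := hrep (hgB b hb) (hgA a ha)
      rw [hc, zero_mul, pw_zero, one_mul] at h'
      have e : ⁅g * a * g⁻¹, g * b * g⁻¹⁆ = F.z := by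
        calc ⁅g * a * g⁻¹, g * b * g⁻¹⁆ = (g * ⁅b, a⁆ * g⁻¹)⁻¹ := by
              simp only [commutatorElement_def]; group
          _ = F.z := by rw [h, g2, inv_eq_of_mul_eq_one_right F.z_sq]
      rw [e] at h'
      have h'' : pw F.z 1 * pw F.v 0 = pw F.z 0 * pw F.v (bU (F.κ (g * b * g⁻¹)) (F.θ (g * a * g⁻¹))) := by
        rw [pw_one, pw_zero, pw_zero, mul_one, one_mul]; exact h'
      exact one_ne_zero (F.vz_inj h'').1
    · rfl
  rw [hrep ha hb, hc, hc1, one_mul]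

theorem sq_B {b : G} (hb : b ∈ A F.P F.z) : b * b = pw F.v (qU (F.θ b)) := by
  obtain ⟨p, hp, hpc⟩ := F.T.c_surj p0
  have hbz := (mem_A.mp hb).2
  have hpQ := F.T.data.norm b hbz p hp
  set x := p⁻¹ * (b * p * b⁻¹) with hx
  have hxQ : x ∈ F.Q := mul_mem (inv_mem hp) hpQ
  have hxc : F.T.c x = io (F.θ b) + qU (F.θ b) • v0 := by
    rw [hx, F.T.c_mul _ (inv_mem hp) _ hpQ, F.T.c_inv hp, F.T.ρ_conj b hbz p hp, hpc, F.ap_B hb,
      cp_p0, pu_p0, bU_zero_left, one_smul, one_mul, add_zero, ← add_assoc, ← add_assoc,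
      ZModModule.add_self, zero_add]
  have hxA : x ∈ A F.Q F.v := F.mem_A_iff.2 ⟨hxQ, by
    rw [hxc, cp_add, cp_io, zero_add]; simp [cp, v0]⟩
  have hκx : F.κ x = F.θ b := by
    rw [κ, hxc, pu_add, pu_io, pu_smul, pu_v0, smul_zero, add_zero]
  have hcomm : ⁅b, x⁆ = 1 := by
    rw [F.comm_ba hxA hb, hκx, bU_self, pw_zero, pw_zero, one_mul]
  have hbx : b * x * b⁻¹ = x := by
    rw [mul_inv_eq_iff_eq_mul]; exact commutatorElement_eq_one_iff_mul_comm.mp hcomm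
  have hsq : x * x = pw F.z (qU (F.θ b)) := by
    rw [F.T.sq x hxQ]
    congr 1
    rw [qm_eq, (F.mem_A_iff.1 hxA).2, mul_zero, zero_add]
    exact congrArg qU hκx
  have key : (b * b) * p * (b * b)⁻¹ = p * pw F.z (qU (F.θ b)) := by
    rw [← hsq]
    calc (b * b) * p * (b * b)⁻¹ = (b * p * b⁻¹) * (b * (p⁻¹ * (b * p * b⁻¹)) * b⁻¹) := by group
      _ = p * x * x := by rw [← hx, hbx, hx]; group
      _ = _ := by rw [mul_assoc]
  rcases F.dP.sq (mem_A.mp hb).1 with h | h <;> rw [h] at key ⊢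
  · have h0 : pw F.z (qU (F.θ b)) = 1 := by
      rw [one_mul, inv_one, mul_one] at key
      exact (mul_eq_left.mp key.symm)
    rw [pw_inj F.z_ne (h0.trans (pw_zero _).symm), pw_zero]
  · have hpv : F.v * p * F.v⁻¹ = p * F.z := by
      have e := F.conj_p hp hpc
      have e' : p * F.v = F.v * F.z * p := mul_inv_eq_iff_eq_mul.mp e
      rw [inv_eq_of_mul_eq_one_right F.v_sq]
      calc F.v * p * F.v = F.v * (p * F.v) := by group
        _ = (F.v * F.v) * (F.z * p) := by rw [e']; group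
        _ = p * F.z := by rw [F.v_sq, one_mul, ← F.T.Qz hp]
    rw [hpv] at key
    rw [pw_inj F.z_ne ((pw_one _).trans (mul_left_cancel key)).symm, pw_one]

theorem sq_A {a : G} (ha : a ∈ A F.Q F.v) : a * a = pw F.z (qU (F.κ a)) := by
  rw [F.T.sq a (mem_A.mp ha).1, qm_eq, (F.mem_A_iff.1 ha).2, mul_zero, zero_add]
  rfl

theorem sq_AB {a b : G} (ha : a ∈ A F.Q F.v) (hb : b ∈ A F.P F.z) :
    a * b * (a * b) = pw F.z (qU (F.κ a) + bU (F.κ a) (F.θ b)) *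
      pw F.v (qU (F.θ b) + bU (F.κ a) (F.θ b)) := by
  have hc := F.comm_ba ha hb
  have hf := F.V_fix (F.A_le_D ha) (F.comm_ba_mem ha hb)
  rw [pw_add F.z_sq, pw_add F.v_sq]
  calc a * b * (a * b) = a * ⁅b, a⁆ * a * (b * b) := by simp only [commutatorElement_def]; group
    _ = ⁅b, a⁆ * (a * a) * (b * b) := by rw [hf, mul_assoc ⁅b, a⁆ a a]
    _ = _ := by
      rw [hc, F.sq_A ha, F.sq_B hb]
      have e1 : Commute (pw F.v (bU (F.κ a) (F.θ b))) (pw F.z (qU (F.κ a))) :=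
        pw_comm _ (F.T.Qz (pw_mem F.hv _)) _
      have e2 : Commute (pw F.v (bU (F.κ a) (F.θ b))) (pw F.v (qU (F.θ b))) :=
        pw_comm _ (pw_comm _ rfl _).symm _
      have e3 : Commute (pw F.z (bU (F.κ a) (F.θ b))) (pw F.z (qU (F.κ a))) :=
        pw_comm _ (pw_comm _ rfl _).symm _
      calc pw F.z (bU (F.κ a) (F.θ b)) * pw F.v (bU (F.κ a) (F.θ b)) * pw F.z (qU (F.κ a)) *
            pw F.v (qU (F.θ b))
          = pw F.z (bU (F.κ a) (F.θ b)) * (pw F.v (bU (F.κ a) (F.θ b)) * pw F.z (qU (F.κ a))) *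
            pw F.v (qU (F.θ b)) := by group
        _ = (pw F.z (bU (F.κ a) (F.θ b)) * pw F.z (qU (F.κ a))) *
            (pw F.v (bU (F.κ a) (F.θ b)) * pw F.v (qU (F.θ b))) := by rw [e1.eq]; group
        _ = _ := by rw [e2.eq, e3.eq]

theorem eq_AB {a a' b b' : G} (ha : a ∈ A F.Q F.v) (ha' : a' ∈ A F.Q F.v) (hb : b ∈ A F.P F.z)
    (hb' : b' ∈ A F.P F.z) (h : a * b = a' * b') : F.κ a = F.κ a' ∧ F.θ b = F.θ b' := by
  have e : a⁻¹ * a' = b * b'⁻¹ := by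
    calc a⁻¹ * a' = a⁻¹ * (a' * b') * b'⁻¹ := by group
      _ = b * b'⁻¹ := by rw [← h]; group
  have hm : a⁻¹ * a' ∈ F.Q ⊓ F.P :=
    Subgroup.mem_inf.mpr ⟨mul_mem (inv_mem (mem_A.mp ha).1) (mem_A.mp ha').1,
      e ▸ mul_mem (mem_A.mp hb).1 (inv_mem (mem_A.mp hb').1)⟩
  obtain ⟨i, j, hij⟩ := F.E_inV hm
  constructor
  · have h1 := F.κ_mul (inv_mem (mem_A.mp ha).1) (mem_A.mp ha').1
    have h0 : F.κ (a⁻¹ * a') = 0 := by
      rw [hij, F.κ_mul (pw_mem F.T.data.z_mem i) (pw_mem F.hv j)]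
      have k1 : F.κ (pw F.z i) = 0 := by
        rcases z2 i with rfl | rfl <;> simp [κ, F.T.c_one, F.T.c_z, pu]
      have k2 : F.κ (pw F.v j) = 0 := by
        rcases z2 j with rfl | rfl
        · simp [κ, F.T.c_one, pu]
        · rw [pw_one, κ, show F.T.c F.v = v0 from F.cv, pu_v0]
      rw [k1, k2, add_zero]
    rw [h0, F.κ_inv (mem_A.mp ha).1] at h1
    exact (add_eq_zero_iff_eq_neg.mp h1.symm).trans (ZModModule.neg_eq_self _)
  · have h1 := F.θ_mul hb (inv_mem hb')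
    rw [← e, F.θ_pw_mul hm, F.θ_inv hb'] at h1
    exact (add_eq_zero_iff_eq_neg.mp h1.symm).trans (ZModModule.neg_eq_self _)

end Fr

end Cfsg.Agent.SuzType
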