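/-
Involutions of the centraliser of `z` outside the radical (helper22).

* `TypB` : the standard shape `a b` with parameters (`A0`, `W0`)
* `classify` : up to conjugacy in `C(z)` such an involution lies in `P` or has standard shape
* `typB_conj`, `exists_typB` : the standard shape forms one nonempty class
-/
import Cfsg.Agent.Lib.SuzType.Comm

set_option autoImplicit false
open scoped commutatorElement

namespace Cfsg.Agent.SuzType

open Cfsg.Agent.Orth Cfsg.Agent.LargeExtraspecial Cfsg.Agent.LargeExtraspecial.Cfg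
open QuadraticMap (polar)

theorem qU_rU : ∀ a u : U4, qU a = 1 → qU (rU a u) = qU u := by decide +kernel

theorem rU_add (a u w : U4) : rU a (u + w) = rU a u + rU a w := by
  simp only [rU, bU_add_right, add_smul]
  abel

theorem bU_smul_left (c : ZMod 2) (a b : U4) : bU (c • a) b = c * bU a b := by
  rcases z2 c with rfl | rfl <;> simp [bU]

theorem qU_A0_W0 : qU A0 + bU A0 W0 = 0 ∧ qU W0 + bU A0 W0 = 0 := by decide

theorem add_eq_zero_z2 {a b : ZMod 2} (h : a + b = 0) : a = b :=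
  (add_eq_zero_iff_eq_neg.mp h).trans (ZModModule.neg_eq_self _)

theorem add_eq_zero_v {a b : V6} (h : a + b = 0) : a = b :=
  (add_eq_zero_iff_eq_neg.mp h).trans (ZModModule.neg_eq_self _)

section inv

variable {ρ : IsoGrp qm}

/-- The map `g + 1` of an involution. -/
theorem inv_sing (x : V6) :
    qm (ap ρ x + x) = polar ⇑qm x (ap ρ x + x) := by
  have h : qm (ap ρ x + x + x) = qm x := by
    rw [add_assoc, ZModModule.add_self, add_zero, Q_ap]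
  rw [Q_add, pl_comm] at h
  refine add_eq_zero_z2 ?_
  linear_combination h

theorem inv_orth (h2 : ρ * ρ = 1) (x y : V6) :
    polar ⇑qm (ap ρ x + x) (ap ρ y + y) = 0 := by
  have h : polar ⇑qm (ap ρ x) y = polar ⇑qm x (ap ρ y) := by
    calc polar ⇑qm (ap ρ x) y = polar ⇑qm (ap ρ (ap ρ x)) (ap ρ y) := (polar_ap ρ _ _).symm
      _ = _ := by rw [← ap_mul, h2, ap_one]
  rw [pl_add_left, pl_add_right, pl_add_right, polar_ap, h]
  have : ∀ s t : ZMod 2, s + t + (t + s) = 0 := by decide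
  exact this _ _

theorem inv_adj (h2 : ρ * ρ = 1) (x y : V6) :
    polar ⇑qm (ap ρ x + x) y = polar ⇑qm x (ap ρ y + y) := by
  have h : polar ⇑qm (ap ρ x) y = polar ⇑qm x (ap ρ y) := by
    calc polar ⇑qm (ap ρ x) y = polar ⇑qm (ap ρ (ap ρ x)) (ap ρ y) := (polar_ap ρ _ _).symm
      _ = _ := by rw [← ap_mul, h2, ap_one]
  rw [pl_add_left, pl_add_right, h]

theorem exists_sing (h2 : ρ * ρ = 1) (h1 : ρ ≠ 1) (hΩ : ρ ∈ Cfsg.Omega (ZMod 2) ⇑qm) :
    ∃ x, ap ρ x + x ≠ 0 ∧ qm (ap ρ x + x) = 0 := by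
  obtain ⟨x1, hx1⟩ : ∃ x, ap ρ x + x ≠ 0 := by
    by_contra! h
    exact h1 (ext_ap fun x => by rw [ap_one]; exact add_eq_zero_v (h x))
  rcases z2 (qm (ap ρ x1 + x1)) with hq | hq
  · exact ⟨x1, hx1, hq⟩
  set w := ap ρ x1 + x1 with hw
  by_cases hall : ∀ x, ap ρ x + x = 0 ∨ ap ρ x + x = w
  · exfalso
    refine refl_not_mem (x := w) (by rw [hq]; exact one_ne_zero) ?_
    convert hΩ using 1
    refine ext_ap fun x => ?_
    rw [refl_ap, hq, inv_one, one_mul, sub_eq_add_neg, ZModModule.neg_eq_self]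
    rcases hall x with h | h
    · have e : polar ⇑qm w x = 0 := by
        rw [hw, inv_adj h2, h]
        simp [polar]
      rw [e, zero_smul, add_zero]
      exact (add_eq_zero_v h).symm
    · have e : polar ⇑qm w x = 1 := by
        rw [pl_comm, ← h, ← inv_sing, h, hq]
      rw [e, one_smul, ← h, add_left_comm, ZModModule.add_self, add_zero]
  · push Not at hall
    obtain ⟨x2, hx2, hx2'⟩ := hall
    rcases z2 (qm (ap ρ x2 + x2)) with hq' | hq'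
    · exact ⟨x2, hx2, hq'⟩
    · refine ⟨x1 + x2, ?_, ?_⟩
      · rw [map_add (ap ρ), add_add_add_comm, ← hw]
        exact fun h => hx2' (add_eq_zero_v h).symm
      · rw [map_add (ap ρ), add_add_add_comm, ← hw, Q_add, hq, hq', hw, inv_orth h2]
        decide

/-- At most two dimensions. -/
theorem inv_span (h2 : ρ * ρ = 1) (hΩ : ρ ∈ Cfsg.Omega (ZMod 2) ⇑qm) {x y : V6}
    (h0 : ap ρ x + x ≠ 0) (h0' : ap ρ y + y ≠ 0) (hne : ap ρ x + x ≠ ap ρ y + y) (t : V6) :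
    ∃ c d : ZMod 2, c • (ap ρ x + x) + d • (ap ρ y + y) = ap ρ t + t := by
  have hsub : ∀ u : V6, ap ρ u - u = ap ρ u + u := fun u => by
    rw [sub_eq_add_neg, ZModModule.neg_eq_self]
  have hW : ∀ u : V6, ap ρ u + u ∈ resSpace ρ := fun u => hsub u ▸ sub_mem_resSpace ρ u
  have heven : Even (Module.finrank (ZMod 2) (resSpace ρ)) := by
    have h := ((mem_omega_iff good_qm ρ).1 hΩ).1
    rw [dick] at h
    exact (neg_one_pow_eq_one_iff_even (by norm_num : (-1 : ℤ) ≠ 1)).1 h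
  have hle : resSpace ρ ≤ LinearMap.BilinForm.orthogonal qm.polarBilin (resSpace ρ) := by
    rintro w hw u hu
    obtain ⟨a, rfl⟩ := mem_resSpace.1 hw
    obtain ⟨b, rfl⟩ := mem_resSpace.1 hu
    show polar ⇑qm _ _ = 0
    rw [hsub, hsub]
    exact inv_orth h2 _ _
  have h3 := Submodule.finrank_mono hle
  rw [LinearMap.BilinForm.finrank_orthogonal nd_qm] at h3
  have h6 : Module.finrank (ZMod 2) V6 = 6 := by
    simp [Module.finrank_fintype_fun_eq_card]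
  rw [h6] at h3
  have hli : LinearIndependent (ZMod 2) ![ap ρ x + x, ap ρ y + y] := by
    rw [LinearIndependent.pair_iff]
    intro s s' hs
    rcases z2 s with rfl | rfl <;> rcases z2 s' with rfl | rfl <;> simp at hs ⊢
    · exact h0' hs
    · exact h0 hs
    · exact hne (add_eq_zero_v hs)
  have hsp := finrank_span_eq_card hli
  rw [Fintype.card_fin] at hsp
  have hspan : Submodule.span (ZMod 2) (Set.range ![ap ρ x + x, ap ρ y + y]) ≤ resSpace ρ := by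
    rw [Submodule.span_le]
    rintro _ ⟨i, rfl⟩
    fin_cases i
    exacts [hW x, hW y]
  have h4 := Submodule.finrank_mono hspan
  obtain ⟨k, hk⟩ := heven
  have hle3 : Module.finrank (ZMod 2) (resSpace ρ) ≤ 2 := by
    have e1 : Module.finrank (ZMod 2) (resSpace ρ) + Module.finrank (ZMod 2) (resSpace ρ) ≤ 6 :=
      Nat.add_le_of_le_sub (le_trans (Submodule.finrank_le _) (le_of_eq h6)) h3
    omega
  have heq := Submodule.eq_of_le_of_finrank_le hspan (le_trans hle3 (le_of_eq hsp.symm))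
  have hm : ap ρ t + t ∈ Submodule.span (ZMod 2) (Set.range ![ap ρ x + x, ap ρ y + y]) := by
    rw [heq]; exact hW t
  rw [Matrix.range_cons_cons_empty] at hm
  exact Submodule.mem_span_pair.1 hm

end inv

variable {G : Type*} [Group G]

namespace Fr

variable (F : Fr G) [Finite G]

/-- The standard shape. -/
def TypB (u : G) : Prop :=
  ∃ a ∈ A F.Q F.v, ∃ b ∈ A F.P F.z, u = a * b ∧ F.κ a = A0 ∧ F.θ b = W0

theorem conj_to_fix {u : G} (hu : u * F.z = F.z * u) (h2 : u * u = 1) (hQ : u ∉ F.Q) :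
    ∃ g, g * F.z = F.z * g ∧ g * u * g⁻¹ ∈ F.D ∧
      ∃ x, ap (F.T.ρ (g * u * g⁻¹)) x + x = v0 := by
  have hρ2 : F.T.ρ u * F.T.ρ u = 1 := by rw [← F.T.ρ_mul u u hu hu, h2, F.T.ρ_one]
  have hρ1 : F.T.ρ u ≠ 1 := fun e => hQ ((F.T.ρ_ker u hu).1 e)
  obtain ⟨x, hx0, hxq⟩ := exists_sing hρ2 hρ1 (F.T.ρ_mem u hu)
  obtain ⟨q, hq, hqc⟩ := F.T.c_surj x
  have hq' := F.T.data.norm u hu q hq
  set v' := u * q * u⁻¹ * q⁻¹ with hv'
  have hv'Q : v' ∈ F.Q := mul_mem hq' (inv_mem hq)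
  have hv'c : F.T.c v' = ap (F.T.ρ u) x + x := by
    rw [hv', F.T.c_mul _ hq' _ (inv_mem hq), F.T.c_inv hq, F.T.ρ_conj u hu q hq, hqc]
  have hv'2 : v' * v' = 1 := by rw [F.T.sq v' hv'Q, hv'c, hxq, pw_zero]
  have hne1 : v' ≠ 1 := fun e => hx0 (by rw [← hv'c, e, F.T.c_one])
  have hnez : v' ≠ F.z := fun e => hx0 (by rw [← hv'c, e]; exact F.T.c_z)
  have huinv : u⁻¹ = u := inv_eq_of_mul_eq_one_right h2
  have hcomm : u * v' = v' * u := by
    have e : u * v' * u⁻¹ = v'⁻¹ := by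
      calc u * v' * u⁻¹ = (u * u) * q * (u * u)⁻¹ * (u * q⁻¹ * u⁻¹) := by rw [hv']; group
        _ = v'⁻¹ := by rw [h2, hv']; group
    rw [inv_eq_of_mul_eq_one_right hv'2] at e
    exact mul_inv_eq_iff_eq_mul.mp e
  obtain ⟨g, hg, hgv⟩ := F.exists_conj_v hv'Q hv'2 hne1 hnez
  have hz : g * u * g⁻¹ * F.z = F.z * (g * u * g⁻¹) :=
    ((Commute.mul_left hg hu).mul_left (Commute.inv_left hg)).eq
  refine ⟨g, hg, F.mem_D.2 ⟨hz, ?_⟩, ap (F.T.ρ g) x, ?_⟩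
  · rw [← hgv]
    calc g * u * g⁻¹ * (g * v' * g⁻¹) = g * (u * v') * g⁻¹ := by group
      _ = _ := by rw [hcomm]; group
  · rw [← hqc, ← F.T.ρ_conj g hg q hq, ← F.T.ρ_conj _ hz _ (F.T.data.norm g hg q hq)]
    have hqg := F.T.data.norm g hg q hq
    have hm := F.T.data.norm _ hz _ hqg
    conv_lhs => arg 2; rw [← F.T.c_inv hqg]
    rw [← F.T.c_mul _ hm _ (inv_mem hqg)]
    rw [show g * u * g⁻¹ * (g * q * g⁻¹) * (g * u * g⁻¹)⁻¹ * (g * q * g⁻¹)⁻¹ = g * v' * g⁻¹ by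
      rw [hv']; group, hgv]
    exact F.cv

/-- An element of `D` trivial on the middle layer lies in `A B`. -/
theorem mem_AB_of_fix {u : G} (hu : u ∈ F.D) (hfix : ∀ t : U4, pu (ap (F.T.ρ u) (io t)) = t) :
    ∃ a ∈ A F.Q F.v, ∃ b ∈ A F.P F.z, u = a * b := by
  have huz := (F.mem_D.1 hu).1
  obtain ⟨b, hb, hbθ⟩ := F.θ_surj (F.θ u)
  have hρ : F.T.ρ u = F.T.ρ b := ext_ap fun x => by
    rw [F.ap_unip hu hfix, F.ap_B hb, hbθ]
  have hbz := (mem_A.mp hb).2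
  have hm : u * b⁻¹ ∈ F.Q := by
    refine (F.T.ρ_ker _ (Commute.mul_left huz (Commute.inv_left hbz)).eq).1 ?_
    rw [F.T.ρ_mul u b⁻¹ huz (Commute.inv_left hbz).eq, F.T.ρ_inv hbz, hρ, mul_inv_cancel]
  refine ⟨u * b⁻¹, mem_A.mpr ⟨hm, ?_⟩, b, hb, by group⟩
  exact (F.mem_D.1 (mul_mem hu (inv_mem (F.B_le_D hb)))).2

/-- An involution of `D` moving something onto `v0` lies in `A B`. -/
theorem mem_AB {u : G} (hu : u ∈ F.D) (h2 : u * u = 1) {x' : V6}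
    (hx' : ap (F.T.ρ u) x' + x' = v0) :
    ∃ a ∈ A F.Q F.v, ∃ b ∈ A F.P F.z, u = a * b := by
  have huz := (F.mem_D.1 hu).1
  have hρ2 : F.T.ρ u * F.T.ρ u = 1 := by rw [← F.T.ρ_mul u u huz huz, h2, F.T.ρ_one]
  have hperp : ∀ y, cp y = 0 → ap (F.T.ρ u) y + y = 0 ∨ ap (F.T.ρ u) y + y = v0 := by
    intro y hy
    by_contra! hcon
    obtain ⟨h0, hne⟩ := hcon
    have hy' : polar ⇑qm x' (ap (F.T.ρ u) y + y) = 0 := by
      rw [← inv_adj hρ2, hx', polar_v0, hy]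
    have hv : polar ⇑qm x' v0 = 0 := by
      rw [← hx', ← inv_sing, hx', qm_v0]
    have hall : ∀ t, polar ⇑qm v0 t = 0 := by
      intro t
      rw [← hx', inv_adj hρ2]
      obtain ⟨c, d, hcd⟩ := inv_span hρ2 (F.T.ρ_mem u huz) (x := x') (y := y)
        (by rw [hx']; exact v0_ne) h0 (by rw [hx']; exact hne.symm) t
      rw [← hcd, pl_add_right, pl_smul_right, pl_smul_right, hx', hv, hy', mul_zero, mul_zero,
        add_zero]
    have := hall p0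
    rw [polar_v0, cp_p0] at this
    exact one_ne_zero this
  have hfix : ∀ t : U4, pu (ap (F.T.ρ u) (io t)) = t := by
    intro t
    rcases hperp (io t) (cp_io t) with e | e
    · rw [add_eq_zero_v e, pu_io]
    · have e' : ap (F.T.ρ u) (io t) = v0 + io t := by
        rw [← e, add_assoc, ZModModule.add_self, add_zero]
      rw [e', pu_add, pu_v0, pu_io, zero_add]
  exact F.mem_AB_of_fix hu hfix

/-- Conjugation by a preimage of `p0` adds `θ` to `κ`. -/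
theorem shift {a b : G} (ha : a ∈ A F.Q F.v) (hb : b ∈ A F.P F.z) :
    ∃ g, g * F.z = F.z * g ∧ ∃ a' ∈ A F.Q F.v, g * (a * b) * g⁻¹ = a' * b ∧
      F.κ a' = F.κ a + F.θ b := by
  obtain ⟨p, hp, hpc⟩ := F.T.c_surj p0
  have hbz := (mem_A.mp hb).2
  have haQ := (mem_A.mp ha).1
  have hy : p * (b * p⁻¹ * b⁻¹) ∈ F.Q := mul_mem hp (F.T.data.norm b hbz _ (inv_mem hp))
  have hyc : F.T.c (p * (b * p⁻¹ * b⁻¹)) = io (F.θ b) + qU (F.θ b) • v0 := by
    rw [F.T.c_mul _ hp _ (F.T.data.norm b hbz _ (inv_mem hp)), F.T.ρ_conj b hbz _ (inv_mem hp),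
      F.T.c_inv hp, hpc, F.ap_B hb, cp_p0, pu_p0, bU_zero_left, one_smul, one_mul, add_zero,
      ← add_assoc, ← add_assoc, ZModModule.add_self, zero_add]
  have hpa := mul_mem (mul_mem hp haQ) (inv_mem hp)
  have hpac : F.T.c (p * a * p⁻¹) = F.T.c a := by
    rw [F.T.c_mul _ (mul_mem hp haQ) _ (inv_mem hp), F.T.c_mul p hp a haQ, F.T.c_inv hp,
      add_comm (F.T.c p), add_assoc, ZModModule.add_self, add_zero]
  refine ⟨p, F.T.Qz hp, p * a * p⁻¹ * (p * (b * p⁻¹ * b⁻¹)), ?_, by group, ?_⟩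
  · refine F.mem_A_iff.2 ⟨mul_mem hpa hy, ?_⟩
    rw [F.T.c_mul _ hpa _ hy, hpac, hyc, cp_add, (F.mem_A_iff.1 ha).2, cp_add, cp_io]
    simp [cp, v0]
  · rw [F.κ_mul hpa hy, κ, hpac, κ, hyc, pu_add, pu_io, pu_smul, pu_v0, smul_zero, add_zero]
    rfl

theorem move_AB {a b : G} (ha : a ∈ A F.Q F.v) (hb : b ∈ A F.P F.z) {x y : U4} (hx : qU x = 1)
    (hy : qU y = 1) : ∃ g, g * F.z = F.z * g ∧ ∃ a' ∈ A F.Q F.v, ∃ b' ∈ A F.P F.z,
      g * (a * b) * g⁻¹ = a' * b' ∧ F.κ a' = rU x (rU y (F.κ a)) ∧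
      F.θ b' = rU x (rU y (F.θ b)) := by
  obtain ⟨d, hd, hρ⟩ := F.exists_D hx hy
  exact ⟨d, (F.mem_D.1 hd).1, d * a * d⁻¹, F.A_norm hd ha, d * b * d⁻¹, F.B_norm hd hb, by group,
    F.κ_conj_D hx hy hd hρ (mem_A.mp ha).1, F.θ_conj hd hb hx hy hρ⟩

theorem classify {u : G} (hu : u * F.z = F.z * u) (h2 : u * u = 1) (hQ : u ∉ F.Q) :
    ∃ g, g * F.z = F.z * g ∧ (g * u * g⁻¹ ∈ F.P ∨ F.TypB (g * u * g⁻¹)) := by
  obtain ⟨g0, hg0, hD, x', hx'⟩ := F.conj_to_fix hu h2 hQ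
  have h2' : g0 * u * g0⁻¹ * (g0 * u * g0⁻¹) = 1 := by
    calc g0 * u * g0⁻¹ * (g0 * u * g0⁻¹) = g0 * (u * u) * g0⁻¹ := by group
      _ = 1 := by rw [h2]; group
  obtain ⟨a, ha, b, hb, hab⟩ := F.mem_AB hD h2' hx'
  have hθ : F.θ b ≠ 0 := fun e => hQ <| (F.T.data.norm_iff g0 hg0 u).1 (by
    rw [hab]; exact mul_mem (mem_A.mp ha).1 (F.θ_ker hb e).1)
  have hsq := F.sq_AB ha hb
  rw [← hab, h2'] at hsq
  obtain ⟨e1, e2⟩ := F.vz_inj (i := 0) (j := 0) (by rw [← hsq]; simp)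
  have k1 : qU (F.κ a) = bU (F.κ a) (F.θ b) := add_eq_zero_z2 e1.symm
  have k2 : qU (F.θ b) = bU (F.κ a) (F.θ b) := add_eq_zero_z2 e2.symm
  have hconj : ∀ {g : G}, g * (a * b) * g⁻¹ = g * g0 * u * (g * g0)⁻¹ := by
    intro g; rw [← hab]; group
  have hinP : ∀ {g a' b' : G}, a' ∈ A F.Q F.v → b' ∈ A F.P F.z → F.κ a' = 0 →
      g * (a * b) * g⁻¹ = a' * b' → g * g0 * u * (g * g0)⁻¹ ∈ F.P := by
    intro g a' b' ha' hb' hk hg
    rw [← hconj, hg]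
    exact mul_mem (F.ker_κ ha' hk).2 (mem_A.mp hb').1
  rcases z2 (bU (F.κ a) (F.θ b)) with hk | hk <;> rw [hk] at k1 k2
  · rcases witt_index _ _ k1 k2 hk with h | h | h
    · exact ⟨1 * g0, (Commute.mul_left (Commute.one_left _) hg0).eq,
        Or.inl (hinP ha hb h (by group))⟩
    · exact absurd h hθ
    · obtain ⟨g, hg, a', ha', he, hκ⟩ := F.shift ha hb
      exact ⟨g * g0, (Commute.mul_left hg hg0).eq,
        Or.inl (hinP ha' hb (by rw [hκ, h, ZModModule.add_self]) he)⟩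
  · obtain ⟨x, y, hx, hy, hw⟩ := exists_to_w0 _ k2
    obtain ⟨g1, hg1, a1, ha1, b1, hb1, he1, hκ1, hθ1⟩ := F.move_AB ha hb hx hy
    rw [hw] at hθ1
    have hqa1 : qU (F.κ a1) = 1 := by rw [hκ1, qU_rU x _ hx, qU_rU y _ hy, k1]
    have hk1 : bU (F.κ a1) W0 = 1 := by rw [hκ1, ← hw, bU_pair _ _ _ _ hx hy, hk]
    obtain ⟨s, t, hs, ht, hfix, hA⟩ := exists_to_a0 _ hqa1 hk1
    obtain ⟨g2, hg2, a2, ha2, b2, hb2, he2, hκ2, hθ2⟩ := F.move_AB ha1 hb1 hs ht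
    rw [hθ1, hfix] at hθ2
    have he21 : g2 * g1 * (a * b) * (g2 * g1)⁻¹ = a2 * b2 := by
      rw [← he2, ← he1]; group
    rcases hA with hA | hA
    · refine ⟨g2 * g1 * g0, (Commute.mul_left (Commute.mul_left hg2 hg1) hg0).eq,
        Or.inr ⟨a2, ha2, b2, hb2, ?_, hκ2.trans hA, hθ2⟩⟩
      rw [← hconj, he21]
    · obtain ⟨g3, hg3, a3, ha3, he3, hκ3⟩ := F.shift ha2 hb2
      refine ⟨g3 * (g2 * g1) * g0,
        (Commute.mul_left (Commute.mul_left hg3 (Commute.mul_left hg2 hg1)) hg0).eq,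
        Or.inr ⟨a3, ha3, b2, hb2, ?_, ?_, hθ2⟩⟩
      · rw [← hconj, ← he3, ← he21]; group
      · rw [hκ3, hκ2, hθ2, ← hA, rU_add t, rU_add s, hfix]

theorem typB_inv {u : G} (h : F.TypB u) : u * u = 1 ∧ u ∉ F.Q ∧ u ∈ F.D := by
  obtain ⟨a, ha, b, hb, rfl, hκ, hθ⟩ := h
  refine ⟨?_, fun hm => ?_, mul_mem (F.A_le_D ha) (F.B_le_D hb)⟩
  · rw [F.sq_AB ha hb, hκ, hθ, qU_A0_W0.1, qU_A0_W0.2, pw_zero, pw_zero, one_mul]
  · have hbQ : b ∈ F.Q := by simpa using mul_mem (inv_mem (mem_A.mp ha).1) hm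
    have : F.θ b = 0 := F.θ_pw_mul ⟨hbQ, (mem_A.mp hb).1⟩
    exact W0_ne (hθ.symm.trans this)

theorem exists_typB : ∃ u, F.TypB u := by
  obtain ⟨a, ha, hκ⟩ := F.κ_surj A0
  obtain ⟨b, hb, hθ⟩ := F.θ_surj W0
  exact ⟨a * b, a, ha, b, hb, rfl, hκ, hθ⟩

/-- Commutator of an element of `A` with a product. -/
theorem conj_A {s a b : G} (hs : s ∈ A F.Q F.v) (ha : a ∈ A F.Q F.v) (hb : b ∈ A F.P F.z) :
    s * (a * b) * s⁻¹ =
      a * b * (pw F.z (bU (F.κ s) (F.κ a + F.θ b)) * pw F.v (bU (F.κ s) (F.θ b))) := by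
  have h1 : ⁅s, a⁆ = pw F.z (bU (F.κ s) (F.κ a)) := by
    rw [F.T.comm_Q (mem_A.mp hs).1 (mem_A.mp ha).1, polar_eq, (F.mem_A_iff.1 hs).2,
      (F.mem_A_iff.1 ha).2, mul_zero, zero_mul, add_zero, zero_add]
    rfl
  have h2 : ⁅s, b⁆ = pw F.z (bU (F.κ s) (F.θ b)) * pw F.v (bU (F.κ s) (F.θ b)) := by
    rw [← commutatorElement_inv, F.comm_ba hs hb, mul_inv_rev, pw_inv F.z_sq, pw_inv F.v_sq]
    exact (pw_comm _ (F.T.Qz (pw_mem F.hv _)) _)
  have hd := mul_mem (F.A_le_D ha) (F.B_le_D hb)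
  rw [F.D_fix_V hd, bU_add_right, pw_add F.z_sq, mul_assoc (pw F.z _), ← h2, ← h1]
  have hf : a * ⁅s, b⁆ = ⁅s, b⁆ * a :=
    F.V_fix (F.A_le_D ha) (by
      rw [← commutatorElement_inv]; exact inv_mem (F.comm_ba_mem hs hb))
  calc s * (a * b) * s⁻¹ = ⁅s, a⁆ * (a * ⁅s, b⁆) * b := by simp only [commutatorElement_def]; group
    _ = _ := by rw [hf]; group

theorem typB_conj {u u' : G} (h : F.TypB u) (h' : F.TypB u') :
    ∃ g, g * F.z = F.z * g ∧ g * u * g⁻¹ = u' := by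
  obtain ⟨a, ha, b, hb, rfl, hκ, hθ⟩ := h
  obtain ⟨a', ha', b', hb', rfl, hκ', hθ'⟩ := h'
  have m1 : a⁻¹ * a' ∈ F.Q ⊓ F.P := F.ker_κ (mul_mem (inv_mem ha) ha') (by
    rw [F.κ_mul (inv_mem (mem_A.mp ha).1) (mem_A.mp ha').1, F.κ_inv (mem_A.mp ha).1, hκ, hκ',
      ZModModule.add_self])
  have m2 : b⁻¹ * b' ∈ F.Q ⊓ F.P := F.θ_ker (mul_mem (inv_mem hb) hb') (by
    rw [F.θ_mul (inv_mem hb) hb', F.θ_inv hb, hθ, hθ', ZModModule.add_self])
  obtain ⟨i, j, hij⟩ := F.E_inV (mul_mem m2 m1)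
  have e : a' * b' = a * b * (pw F.z i * pw F.v j) := by
    rw [← hij]
    have hf := F.V_fix (F.B_le_D hb') m1
    calc a' * b' = a * ((a⁻¹ * a') * b') := by group
      _ = a * (b' * (a⁻¹ * a')) := by rw [hf]
      _ = _ := by group
  obtain ⟨w, hw1, hw2⟩ := sep i j
  obtain ⟨s, hs, hsκ⟩ := F.κ_surj w
  refine ⟨s, F.T.Qz (mem_A.mp hs).1, ?_⟩
  rw [F.conj_A hs ha hb, hsκ, hκ, hθ, hw1, hw2, e]

end Fr

end Cfsg.Agent.SuzType
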