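/-
An involution of the standard shape is not conjugate to `z` (helper22).

* `Sing` : all squares `⁅u, x⁆ ^ 2`, `x ∈ Q`, trivial; true inside `P`, false for the standard shape
* `typB_not_conj` : the counting argument with `Q ∩ C(u)` and its transport
-/
import Cfsg.Agent.Lib.SuzType.Classify

set_option autoImplicit false
open scoped commutatorElement

namespace Cfsg.Agent.SuzType

open Cfsg.Agent.Orth Cfsg.Agent.LargeExtraspecial Cfsg.Agent.LargeExtraspecial.Cfg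
open QuadraticMap (polar)

theorem perp_card : (Finset.univ.filter fun s : U4 => bU s A0 = 0 ∧ bU s W0 = 0).card = 4 := by
  decide +kernel

theorem perp_decomp : ∀ t : U4, ∃ i j : ZMod 2,
    bU (t + i • A0 + j • W0) A0 = 0 ∧ bU (t + i • A0 + j • W0) W0 = 0 := by
  decide +kernel

variable {G : Type*} [Group G]

namespace Fr

variable (F : Fr G) [Finite G]

/-- All `⁅u, x⁆` for `x` in the radical square to one. -/
def Sing (u : G) : Prop := ∀ x ∈ F.Q, ⁅u, x⁆ * ⁅u, x⁆ = 1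

theorem sing_conj {g u : G} (hg : g * F.z = F.z * g) (h : F.Sing (g * u * g⁻¹)) : F.Sing u := by
  intro x hx
  have h' := h _ (F.T.data.norm g hg x hx)
  have e : ⁅g * u * g⁻¹, g * x * g⁻¹⁆ = g * ⁅u, x⁆ * g⁻¹ := by
    simp only [commutatorElement_def]; group
  rw [e] at h'
  refine conj_eq_one_iff.mp (?_ : g * (⁅u, x⁆ * ⁅u, x⁆) * g⁻¹ = 1)
  rw [← h']; group

theorem sq_comm {u x : G} (hu : u * F.z = F.z * u) (hx : x ∈ F.Q) :
    ⁅u, x⁆ * ⁅u, x⁆ = pw F.z (qm (ap (F.T.ρ u) (F.T.c x) + F.T.c x)) := by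
  have h := F.T.data.norm u hu x hx
  rw [commutatorElement_def, F.T.sq _ (mul_mem h (inv_mem hx)), F.T.c_mul _ h _ (inv_mem hx),
    F.T.c_inv hx, F.T.ρ_conj u hu x hx]

theorem sing_of_mem {u : G} (hu : u ∈ F.P) (huz : u * F.z = F.z * u) (h2 : u * u = 1) :
    F.Sing u := by
  intro x hx
  have hb : u ∈ A F.P F.z := mem_A.mpr ⟨hu, huz⟩
  have hq : qU (F.θ u) = 0 := by
    have h := F.sq_B hb
    rw [h2] at h
    exact pw_inj F.v_ne (h.symm.trans (pw_zero _).symm)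
  rw [F.sq_comm huz hx, F.ap_B hb]
  have e : qm (F.T.c x + cp (F.T.c x) • io (F.θ u)
      + (cp (F.T.c x) * qU (F.θ u) + bU (pu (F.T.c x)) (F.θ u)) • v0 + F.T.c x) = 0 := by
    rw [add_comm _ (F.T.c x), ← add_assoc, ← add_assoc, ZModModule.add_self, zero_add]
    rcases z2 (cp (F.T.c x)) with k | k <;> rw [k]
    · rw [zero_smul, zero_add, zero_mul, zero_add, qm_eq, pu_smul, pu_v0, smul_zero, qU_zero]
      simp [cp, v0]
    · rw [one_smul, qm_eq, cp_add, cp_io, pu_add, pu_io, pu_smul, pu_v0, smul_zero, add_zero, hq]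
      simp [cp, v0]
  rw [e, pw_zero]

theorem not_sing {u : G} (h : F.TypB u) : ¬ F.Sing u := by
  obtain ⟨a, ha, b, hb, rfl, hκ, hθ⟩ := h
  intro hs
  obtain ⟨p, hp, hpc⟩ := F.T.c_surj p0
  have haQ := (mem_A.mp ha).1
  have hz := (F.mem_D.1 (mul_mem (F.A_le_D ha) (F.B_le_D hb))).1
  have h := hs p hp
  rw [F.sq_comm hz hp, F.T.ρ_mul a b (F.T.Qz haQ) (mem_A.mp hb).2, F.T.ρ_Q haQ, one_mul, hpc,
    F.ap_B hb, hθ, cp_p0, pu_p0, bU_zero_left, qU_W0, one_smul, one_mul, add_zero, one_smul] at h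
  have e : qm (p0 + io W0 + v0 + p0) = 1 := by
    rw [add_comm _ p0, ← add_assoc, ← add_assoc, ZModModule.add_self, zero_add, qm_eq, cp_add,
      cp_io, cp_v0, pu_add, pu_io, pu_v0, add_zero, add_zero, mul_zero, zero_add, qU_W0]
  rw [e, pw_one] at h
  exact F.z_ne h

/-- An involution sharing a radical with `z` behaves like an element of `P`. -/
theorem sing_of_conjS {u k : G} (hu : u * F.z = F.z * u) (h2 : u * u = 1)
    (hz : F.z ∈ conjS k F.Q) (huk : u ∈ conjS k F.Q) (hne : k * F.z * k⁻¹ ≠ F.z) : F.Sing u := by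
  have hy : k * F.z * k⁻¹ ∈ F.Q := by
    have h1 : k⁻¹ * F.z * k⁻¹⁻¹ ∈ F.Q := by rw [inv_inv]; exact mem_conjS.1 hz
    have h1' : k⁻¹ * F.z * k⁻¹⁻¹ ≠ F.z := fun e => hne (by
      conv_lhs => rw [← e]
      group)
    have h := mem_conjS.1 (F.T.data.mem_conj h1 h1' (by rw [F.T.card_Q]; norm_num))
    rwa [inv_inv] at h
  obtain ⟨g, hg, hgy⟩ := F.exists_conj_v hy
    (by calc k * F.z * k⁻¹ * (k * F.z * k⁻¹) = k * (F.z * F.z) * k⁻¹ := by group
          _ = 1 := by rw [F.z_sq]; group)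
    (fun e => F.z_ne (conj_eq_one_iff.mp e)) hne
  have hP : conjS (g * k) F.Q = F.P := F.T.data.conjS_eq_of_conj_eq (by
    rw [← show g * (k * F.z * k⁻¹) * g⁻¹ = g * k * F.T.z * (g * k)⁻¹ by simp only [Fr.z]; group]
    exact hgy)
  refine F.sing_conj hg (F.sing_of_mem ?_ ?_ ?_)
  · rw [← hP, mem_conjS]
    have := mem_conjS.1 huk
    simpa [mul_assoc] using this
  · exact ((Commute.mul_left hg hu).mul_left (Commute.inv_left hg)).eq
  · calc g * u * g⁻¹ * (g * u * g⁻¹) = g * (u * u) * g⁻¹ := by group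
      _ = 1 := by rw [h2]; group

theorem θ_conj_D {x b : G} (hx : x ∈ F.D) (hb : b ∈ A F.P F.z) :
    F.θ (x * b * x⁻¹) = pu (ap (F.T.ρ x) (io (F.θ b))) := by
  have hxz := (F.mem_D.1 hx).1
  have hbz := (mem_A.mp hb).2
  have e : F.T.ρ (x * b * x⁻¹) = F.T.ρ x * F.T.ρ b * (F.T.ρ x)⁻¹ := by
    rw [F.T.ρ_mul _ _ (Commute.mul_left hxz hbz).eq (Commute.inv_left hxz).eq,
      F.T.ρ_mul x b hxz hbz, F.T.ρ_inv hxz]
  have hy : cp (ap (F.T.ρ x)⁻¹ p0) = 1 := by
    rw [← F.cp_ap hx, ap_ap_inv, cp_p0]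
  rw [θ, e, ap_mul, ap_mul, F.ap_B hb, hy, one_smul, one_mul, map_add, map_add, ap_ap_inv, map_smul,
    F.ρ_v0 hx, pu_add, pu_add, pu_p0, pu_smul, pu_v0, smul_zero, zero_add, add_zero]

theorem κ_conj_io {x a : G} (hx : x ∈ F.D) (ha : a ∈ A F.Q F.v) :
    F.κ (x * a * x⁻¹) = pu (ap (F.T.ρ x) (io (F.κ a))) := by
  rw [κ, F.T.ρ_conj x (F.mem_D.1 hx).1 a (mem_A.mp ha).1]
  conv_lhs => rw [decomp (F.T.c a)]
  rw [(F.mem_A_iff.1 ha).2, zero_smul, add_zero, map_add, map_smul, F.ρ_v0 hx, pu_add, pu_smul,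
    pu_v0, smul_zero, zero_add]
  rfl

theorem four_mem (i j : ZMod 2) : pw F.z i * pw F.v j ∈ A F.Q F.v :=
  mul_mem (pw_mem F.z_mem_A i) (pw_mem F.v_mem_A j)

theorem κ_four (i j : ZMod 2) : F.κ (pw F.z i * pw F.v j) = 0 := by
  rw [F.κ_mul (pw_mem F.T.data.z_mem i) (pw_mem F.hv j)]
  have k1 : F.κ (pw F.z i) = 0 := by
    rcases z2 i with rfl | rfl <;> simp [κ, F.T.c_one, F.T.c_z, pu]
  have k2 : F.κ (pw F.v j) = 0 := by
    rcases z2 j with rfl | rfl
    · simp [κ, F.T.c_one, pu]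
    · rw [pw_one, κ, show F.T.c F.v = v0 from F.cv, pu_v0]
  rw [k1, k2, add_zero]

/-- At least sixteen elements of the radical centralize a standard involution. -/
theorem card_cent {u : G} (h : F.TypB u) :
    16 ≤ Nat.card ↥(F.Q ⊓ Subgroup.centralizer ({u} : Set G)) := by
  classical
  obtain ⟨a, ha, b, hb, rfl, hκ, hθ⟩ := h
  choose aL haL hκL using F.κ_surj
  let U := {s : U4 // s ∈ Finset.univ.filter fun s : U4 => bU s A0 = 0 ∧ bU s W0 = 0}
  have hA : ∀ (s : U) (i j : ZMod 2), aL s.1 * (pw F.z i * pw F.v j) ∈ A F.Q F.v ∧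
      F.κ (aL s.1 * (pw F.z i * pw F.v j)) = s.1 := by
    intro s i j
    refine ⟨mul_mem (haL _) (F.four_mem i j), ?_⟩
    rw [F.κ_mul (mem_A.mp (haL _)).1 (mem_A.mp (F.four_mem i j)).1, hκL, F.κ_four, add_zero]
  let f : U × ZMod 2 × ZMod 2 → ↥(F.Q ⊓ Subgroup.centralizer ({a * b} : Set G)) := fun p =>
    ⟨aL p.1.1 * (pw F.z p.2.1 * pw F.v p.2.2), by
      obtain ⟨h1, h2⟩ := hA p.1 p.2.1 p.2.2
      refine Subgroup.mem_inf.mpr ⟨(mem_A.mp h1).1, Subgroup.mem_centralizer_singleton_iff.2 ?_⟩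
      have hc := F.conj_A h1 ha hb
      have hp := p.1.2
      simp only [Finset.mem_filter, Finset.mem_univ, true_and] at hp
      rw [h2, hκ, hθ, bU_add_right, hp.1, hp.2, add_zero, pw_zero, pw_zero, one_mul, mul_one] at hc
      exact mul_inv_eq_iff_eq_mul.mp hc⟩
  have hf : Function.Injective f := by
    rintro ⟨s, i, j⟩ ⟨s', i', j'⟩ he
    have he' := congrArg Subtype.val he
    simp only [f] at he'
    have hs : s = s' := Subtype.ext (by rw [← (hA s i j).2, he', (hA s' i' j').2])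
    subst hs
    obtain ⟨rfl, rfl⟩ := F.vz_inj (mul_left_cancel he')
    rfl
  have hc := Nat.card_le_card_of_injective f hf
  rw [Nat.card_prod, Nat.card_prod, Nat.card_eq_fintype_card, Fintype.card_coe, perp_card,
    Nat.card_zmod] at hc
  simpa using hc

/-- The radical of a standard involution meets `Q` trivially. -/
theorem meet_trivial {u h : G} (hu : F.TypB u) (hh : h * F.z * h⁻¹ = u)
    (hu' : F.TypB (h⁻¹ * F.z * h)) {y : G} (hy : y ∈ F.Q) (hy' : y ∈ conjS h F.Q) : y = 1 := by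
  obtain ⟨hu2, huQ, huD⟩ := F.typB_inv hu
  have hnz : F.z ∉ conjS h F.Q := fun e => (F.typB_inv hu').2.1 (mem_conjS.1 e)
  have hDu : Data (conjS h F.Q) u := by
    rw [← hh]; exact F.T.data.conjugate h
  by_contra hy1
  rcases F.T.data.sq hy with hy2 | hy2
  · have hyz : y ≠ F.z := fun e => hnz (e ▸ hy')
    obtain ⟨g, hg, hgy⟩ := F.exists_conj_v hy hy2 hy1 hyz
    have hky : g⁻¹ * F.h * F.z * (g⁻¹ * F.h)⁻¹ = y := by
      calc g⁻¹ * F.h * F.z * (g⁻¹ * F.h)⁻¹ = g⁻¹ * F.v * g := by simp only [Fr.v, Fr.z]; group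
        _ = y := by rw [← hgy]; group
    have hzk : F.z ∈ conjS (g⁻¹ * F.h) F.Q := by
      rw [mem_conjS]
      have := mem_conjS.1 F.cfg.z_mem
      have e : (g⁻¹ * F.h)⁻¹ * F.z * (g⁻¹ * F.h) = F.h⁻¹ * F.z * F.h := by
        calc (g⁻¹ * F.h)⁻¹ * F.z * (g⁻¹ * F.h) = F.h⁻¹ * ((g * F.z) * g⁻¹) * F.h := by group
          _ = _ := by rw [hg]; group
      rwa [e]
    have hm : h⁻¹ * (g⁻¹ * F.h) * F.z * (h⁻¹ * (g⁻¹ * F.h))⁻¹ ∈ F.Q := by
      rw [show h⁻¹ * (g⁻¹ * F.h) * F.z * (h⁻¹ * (g⁻¹ * F.h))⁻¹ = h⁻¹ * y * h by rw [← hky]; group]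
      exact mem_conjS.1 hy'
    have hne : h⁻¹ * (g⁻¹ * F.h) * F.z * (h⁻¹ * (g⁻¹ * F.h))⁻¹ ≠ F.z := by
      rw [show h⁻¹ * (g⁻¹ * F.h) * F.z * (h⁻¹ * (g⁻¹ * F.h))⁻¹ = h⁻¹ * y * h by rw [← hky]; group]
      intro e
      refine huQ ?_
      rw [← hh, ← e]
      rwa [show h * (h⁻¹ * y * h) * h⁻¹ = y by group]
    have huk : u ∈ conjS (g⁻¹ * F.h) F.Q := by
      have h3 := mem_conjS.1 (F.T.data.mem_conj hm hne (by rw [F.T.card_Q]; norm_num))
      rw [mem_conjS, ← hh]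
      simpa [mul_assoc] using h3
    exact F.not_sing hu
      (F.sing_of_conjS (F.mem_D.1 huD).1 hu2 hzk huk (by rw [hky]; exact hyz))
  · rcases hDu.sq hy' with e | e
    · exact F.z_ne (hy2.symm.trans e)
    · exact huQ (by rw [← e, hy2]; exact F.T.data.z_mem)

/-- Two standard involutions are never interchanged with `z`. -/
theorem count_contra {u h : G} (hu : F.TypB u) (hh : h * F.z * h⁻¹ = u)
    (hu' : F.TypB (h⁻¹ * F.z * h)) : False := by
  classical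
  obtain ⟨hu2, huQ, huD⟩ := F.typB_inv hu
  have hDu : Data (conjS h F.Q) u := by
    rw [← hh]; exact F.T.data.conjugate h
  have hI := fun y => F.meet_trivial hu hh hu' (y := y)
  let K := conjS h (F.Q ⊓ Subgroup.centralizer ({h⁻¹ * F.z * h} : Set G))
  have hK : 16 ≤ Nat.card K := by
    rw [Subgroup.card_map_of_injective (MulAut.conj h).injective]
    exact F.card_cent hu'
  have hKm : ∀ x ∈ K, x ∈ conjS h F.Q ∧ x * F.z = F.z * x ∧ x * u = u * x := by
    intro x hx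
    obtain ⟨h1, h2⟩ := Subgroup.mem_inf.mp (mem_conjS.1 hx)
    refine ⟨mem_conjS.2 h1, ?_, hDu.z_central x (mem_conjS.2 h1)⟩
    have h3 := congrArg (fun t => h * t * h⁻¹) (Subgroup.mem_centralizer_singleton_iff.1 h2)
    simpa [mul_assoc] using h3
  have hcom : ∀ x ∈ K, ∀ f ∈ F.Q, f * u = u * f → x * f = f * x := by
    intro x hx f hf hfu
    obtain ⟨hx1, hxz, hxu⟩ := hKm x hx
    rw [← commutatorElement_eq_one_iff_mul_comm]
    refine hI _ ?_ ?_
    · rw [commutatorElement_def]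
      exact mul_mem (F.T.data.norm x hxz f hf) (inv_mem hf)
    · rw [commutatorElement_def, mul_assoc x f, mul_assoc x]
      exact mul_mem hx1 (hDu.norm f hfu _ (inv_mem hx1))
  obtain ⟨a, ha, b, hb, huab, hκ, hθ⟩ := hu
  have hvu : F.v * u = u * F.v := ((F.mem_D.1 huD).2).symm
  -- the parameters of an element of K
  have hpar : ∀ x ∈ K, ∃ a' ∈ A F.Q F.v, ∃ b' ∈ A F.P F.z, x = a' * b' ∧
      (F.κ a', F.θ b') ∈ Finset.univ.filter fun p : U4 × U4 =>
        (∀ s : U4, bU s A0 = 0 → bU s W0 = 0 → bU s (p.1 + p.2) = 0 ∧ bU s p.2 = 0) ∧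
          bU p.1 (A0 + W0) + bU A0 p.2 = 0 ∧
          bU p.1 W0 + bU A0 p.2 + bU p.2 W0 = 0 := by
    intro x hx
    obtain ⟨hx1, hxz, hxu⟩ := hKm x hx
    have hxD : x ∈ F.D := F.mem_D.2 ⟨hxz, hcom x hx F.v F.hv hvu⟩
    have hperp : ∀ s : U4, bU s A0 = 0 → bU s W0 = 0 →
        ∃ c ∈ A F.Q F.v, F.κ c = s ∧ x * c = c * x := by
      intro s h1 h2
      obtain ⟨c, hc, hcκ⟩ := F.κ_surj s
      refine ⟨c, hc, hcκ, hcom x hx c (mem_A.mp hc).1 ?_⟩
      have e := F.conj_A hc ha hb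
      rw [hcκ, hκ, hθ, bU_add_right, h1, h2, add_zero, pw_zero, pw_zero, one_mul, mul_one, ← huab] at e
      exact mul_inv_eq_iff_eq_mul.mp e
    have hab : x * a * x⁻¹ * (x * b * x⁻¹) = a * b := by
      rw [← huab]
      calc x * a * x⁻¹ * (x * b * x⁻¹) = x * u * x⁻¹ := by rw [huab]; group
        _ = u := by rw [hxu, mul_inv_cancel_right]
    obtain ⟨e1, e2⟩ := F.eq_AB (F.A_norm hxD ha) ha (F.B_norm hxD hb) hb hab
    rw [F.κ_conj_io hxD ha, hκ] at e1
    rw [F.θ_conj_D hxD hb, hθ] at e2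
    have hfix : ∀ t : U4, pu (ap (F.T.ρ x) (io t)) = t := by
      have hlin : ∀ t t' : U4, pu (ap (F.T.ρ x) (io (t + t'))) =
          pu (ap (F.T.ρ x) (io t)) + pu (ap (F.T.ρ x) (io t')) := fun t t' => by
        rw [io_add, map_add, pu_add]
      have hsm : ∀ (i : ZMod 2) (t : U4), pu (ap (F.T.ρ x) (io t)) = t →
          pu (ap (F.T.ρ x) (io (i • t))) = i • t := by
        intro i t ht
        rcases z2 i with rfl | rfl
        · rw [zero_smul, io_zero, map_zero]; funext k; fin_cases k <;> rfl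
        · rw [one_smul, ht]
      intro t
      obtain ⟨i, j, hs1, hs2⟩ := perp_decomp t
      set s := t + i • A0 + j • W0 with hs
      obtain ⟨c, hc, hcκ, hcx⟩ := hperp s hs1 hs2
      have hfs : pu (ap (F.T.ρ x) (io s)) = s := by
        rw [← hcκ, ← F.κ_conj_io hxD hc, hcx, mul_inv_cancel_right]
      have et : t = s + i • A0 + j • W0 := by
        rw [hs]
        calc t = t + (i • A0 + i • A0) + (j • W0 + j • W0) := by
              rw [ZModModule.add_self, ZModModule.add_self, add_zero, add_zero]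
          _ = _ := by abel
      rw [et, hlin, hlin, hfs, hsm i A0 e1, hsm j W0 e2]
    obtain ⟨a', ha', b', hb', hxab⟩ := F.mem_AB_of_fix hxD hfix
    refine ⟨a', ha', b', hb', hxab, ?_⟩
    simp only [Finset.mem_filter, Finset.mem_univ, true_and]
    refine ⟨fun s h1 h2 => ?_, ?_⟩
    · obtain ⟨c, hc, hcκ, hcx⟩ := hperp s h1 h2
      have e := F.conj_A hc ha' hb'
      rw [← hxab, ← hcx, mul_inv_cancel_right, hcκ] at e
      obtain ⟨k1, k2⟩ := F.vz_inj (i' := 0) (j' := 0)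
        ((mul_eq_left.mp e.symm).trans (by simp))
      exact ⟨k1, k2⟩
    · -- (x u)² = x²
      have hf1 := F.V_fix (F.B_le_D hb) (F.comm_ba_mem ha hb')
      have hC := F.comm_ba_mem ha hb'
      have hAB := mul_mem (mul_mem (F.A_le_D ha') (F.A_le_D ha))
        (mul_mem (F.B_le_D hb') (F.B_le_D hb))
      have hCc := F.V_fix hAB hC
      have exu : x * u = a' * a * (b' * b) * ⁅b', a⁆ := by
        rw [hCc, hxab, huab]
        calc a' * b' * (a * b) = a' * (⁅b', a⁆ * a) * (b' * b) := by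
              simp only [commutatorElement_def]; group
          _ = _ := by
            rw [← F.V_fix (F.A_le_D ha) hC, ← mul_assoc a', mul_assoc (a' * a),
              ← F.V_fix (mul_mem (F.B_le_D hb') (F.B_le_D hb)) hC, ← mul_assoc, hCc]
      have hC2 : ⁅b', a⁆ * ⁅b', a⁆ = 1 := F.cfg.E_sq hC
      have hsq : x * u * (x * u) = x * x := by
        calc x * u * (x * u) = x * (u * x) * u := by group
          _ = x * (x * u) * u := by rw [hxu]
          _ = x * x * (u * u) := by group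
          _ = x * x := by rw [hu2, mul_one]
      rw [exu, hxab] at hsq
      have e3 : a' * a * (b' * b) * ⁅b', a⁆ * (a' * a * (b' * b) * ⁅b', a⁆) =
          a' * a * (b' * b) * (a' * a * (b' * b)) := by
        calc a' * a * (b' * b) * ⁅b', a⁆ * (a' * a * (b' * b) * ⁅b', a⁆)
            = a' * a * (b' * b) * (⁅b', a⁆ * (a' * a * (b' * b))) * ⁅b', a⁆ := by group
          _ = a' * a * (b' * b) * (a' * a * (b' * b)) * (⁅b', a⁆ * ⁅b', a⁆) := by rw [← hCc]; group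
          _ = _ := by rw [hC2, mul_one]
      rw [e3, F.sq_AB (mul_mem ha' ha) (mul_mem hb' hb), F.sq_AB ha' hb',
        F.κ_mul (mem_A.mp ha').1 (mem_A.mp ha).1, F.θ_mul hb' hb, hκ, hθ] at hsq
      obtain ⟨k1, k2⟩ := F.vz_inj hsq
      simp only [qU_add, bU_add_left, bU_add_right, qU_A0, qU_W0, bU_A0_W0] at k1 k2 ⊢
      have h2 : (2 : ZMod 2) = 0 := by decide
      exact ⟨by linear_combination k1 - h2,
        by linear_combination k2 - h2⟩
  choose pa hpa pb hpb hpx hpm using hpar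
  let φ : K → ↥(Finset.univ.filter fun p : U4 × U4 =>
        (∀ s : U4, bU s A0 = 0 → bU s W0 = 0 → bU s (p.1 + p.2) = 0 ∧ bU s p.2 = 0) ∧
          bU p.1 (A0 + W0) + bU A0 p.2 = 0 ∧
          bU p.1 W0 + bU A0 p.2 + bU p.2 W0 = 0) := fun x => ⟨_, hpm x.1 x.2⟩
  have hφ : Function.Injective φ := by
    rintro ⟨x, hx⟩ ⟨y, hy⟩ he
    have he' := congrArg Subtype.val he
    simp only [φ, Prod.mk.injEq] at he'
    obtain ⟨he1, he2⟩ := he'
    have m1 : (pa x hx)⁻¹ * pa y hy ∈ F.Q ⊓ F.P := F.ker_κ (mul_mem (inv_mem (hpa x hx)) (hpa y hy)) (by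
      rw [F.κ_mul (inv_mem (mem_A.mp (hpa x hx)).1) (mem_A.mp (hpa y hy)).1,
        F.κ_inv (mem_A.mp (hpa x hx)).1, he1, ZModModule.add_self])
    have m2 : (pb x hx)⁻¹ * pb y hy ∈ F.Q ⊓ F.P :=
      F.θ_ker (mul_mem (inv_mem (hpb x hx)) (hpb y hy)) (by
        rw [F.θ_mul (inv_mem (hpb x hx)) (hpb y hy), F.θ_inv (hpb x hx), he2, ZModModule.add_self])
    have hm : x⁻¹ * y ∈ F.Q := by
      have e : x⁻¹ * y = ((pb x hx)⁻¹ * pb y hy) * ((pa x hx)⁻¹ * pa y hy) := by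
        calc x⁻¹ * y = (pb x hx)⁻¹ * (((pa x hx)⁻¹ * pa y hy) * pb y hy) := by
              conv_lhs => rw [hpx x hx, hpx y hy]
              group
          _ = _ := by rw [← F.V_fix (F.B_le_D (hpb y hy)) m1]; group
      rw [e]; exact mul_mem m2.1 m1.1
    exact Subtype.ext (inv_mul_eq_one.mp
      (hI _ hm (mul_mem (inv_mem (hKm x hx).1) (hKm y hy).1)))
  have hle := Nat.card_le_card_of_injective φ hφ
  rw [Nat.card_eq_fintype_card (α := ↥(Finset.univ.filter _)), Fintype.card_coe] at hle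
  have := count_le
  omega

theorem typB_not_conj {u : G} (hu : F.TypB u) : ¬ IsConj F.z u := by
  intro hc
  obtain ⟨h, hh⟩ := isConj_iff.mp hc
  obtain ⟨hu2, huQ, huD⟩ := F.typB_inv hu
  have huz := (F.mem_D.1 huD).1
  have hu'z : h⁻¹ * F.z * h * F.z = F.z * (h⁻¹ * F.z * h) := by
    calc h⁻¹ * F.z * h * F.z = h⁻¹ * (F.z * (h * F.z * h⁻¹)) * h := by group
      _ = h⁻¹ * ((h * F.z * h⁻¹) * F.z) * h := by rw [hh, huz]
      _ = _ := by group
  have hu'2 : h⁻¹ * F.z * h * (h⁻¹ * F.z * h) = 1 := by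
    calc h⁻¹ * F.z * h * (h⁻¹ * F.z * h) = h⁻¹ * (F.z * F.z) * h := by group
      _ = 1 := by rw [F.z_sq]; group
  by_cases hQ : h⁻¹ * F.z * h ∈ F.Q
  · refine F.not_sing hu (F.sing_of_conjS huz hu2 (mem_conjS.2 hQ) ⟨F.z, F.T.data.z_mem, by
      simpa [MulAut.conj_apply] using hh⟩ ?_)
    rw [hh]; exact fun e => huQ (e ▸ F.T.data.z_mem)
  obtain ⟨g, hg, hP | hB⟩ := F.classify hu'z hu'2 hQ
  · have hgz : g * F.z * g⁻¹ = F.z := mul_inv_eq_iff_eq_mul.mpr hg
    refine F.not_sing hu (F.sing_of_conjS (k := h * g⁻¹ * F.h) huz hu2 ?_ ?_ ?_)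
    · rw [mem_conjS]
      have := mem_conjS.1 hP
      simpa [mul_assoc] using this
    · rw [mem_conjS, ← hh]
      have h1 := mem_conjS.1 F.cfg.z_mem
      rw [show (h * g⁻¹ * F.h)⁻¹ * (h * F.z * h⁻¹) * (h * g⁻¹ * F.h) = F.h⁻¹ * (g * F.z * g⁻¹) * F.h by
        group, hgz]
      exact h1
    · intro e
      apply hQ
      have e' : g⁻¹ * F.v * g = h⁻¹ * F.z * h := by
        calc g⁻¹ * F.v * g = h⁻¹ * (h * g⁻¹ * F.h * F.z * (h * g⁻¹ * F.h)⁻¹) * h := by
              simp only [Fr.v, Fr.z]; group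
          _ = _ := by rw [e]
      rw [← e']
      have := F.T.data.norm g⁻¹ (Commute.inv_left hg).eq _ F.hv
      simpa using this
  · refine F.count_contra hu (h := h * g⁻¹) ?_ ?_
    · calc h * g⁻¹ * F.z * (h * g⁻¹)⁻¹ = h * (g⁻¹ * (F.z * g)) * h⁻¹ := by group
        _ = u := by rw [← hg, ← hh]; group
    · rwa [show (h * g⁻¹)⁻¹ * F.z * (h * g⁻¹) = g * (h⁻¹ * F.z * h) * g⁻¹ by group]

end Fr

end Cfsg.Agent.SuzType
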