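/-
Two classes of involutions in a group of Suzuki type (helper22).
-/
import Cfsg.Agent.Lib.SuzType.Separate

set_option autoImplicit false

namespace Cfsg.Agent.SuzType

open Cfsg.Agent.Orth Cfsg.Agent.LargeExtraspecial

variable {G : Type*} [Group G]

/-- Every element of order two commutes with a conjugate of `z`. -/
theorem Co.exists_conj_comm [Finite G] (T : Co G) {x : G} (hx : orderOf x = 2) :
    ∃ g : G, g * x * g⁻¹ * T.z = T.z * (g * x * g⁻¹) := by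
  haveI : Fact (Nat.Prime 2) := ⟨Nat.prime_two⟩
  obtain ⟨S, hS⟩ := (IsPGroup.of_card T.card_Q).exists_le_sylow
  haveI : Nontrivial S :=
    ⟨⟨⟨T.z, hS T.data.z_mem⟩, 1, fun h => T.z_ne (by simpa using congrArg Subtype.val h)⟩⟩
  obtain ⟨w, hw, hw1⟩ := (Subgroup.center (S : Subgroup G)).nontrivial_iff_exists_ne_one.mp
    S.2.center_nontrivial
  have hzS : ∀ s ∈ (S : Subgroup G), s * T.z = T.z * s := by
    rcases T.data.cent (w : G) (fun q hq =>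
      congrArg Subtype.val (Subgroup.mem_center_iff.mp hw ⟨q, hS hq⟩)) with e | e
    · exact absurd (Subtype.ext e) hw1
    · intro s hs
      rw [← e]
      exact congrArg Subtype.val (Subgroup.mem_center_iff.mp hw ⟨s, hs⟩)
  have hp : IsPGroup 2 (Subgroup.zpowers x) := IsPGroup.of_card (n := 1) (by
    rw [Nat.card_zpowers, hx, pow_one])
  obtain ⟨S', hS'⟩ := hp.exists_le_sylow
  obtain ⟨g, hg⟩ := MulAction.exists_smul_eq G S' S
  refine ⟨g, hzS _ ?_⟩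
  rw [← hg]
  exact ⟨x, hS' (Subgroup.mem_zpowers x), rfl⟩

theorem two_classes [Finite G] (T : Co G) :
    ∃ a b : G, orderOf a = 2 ∧ orderOf b = 2 ∧ ¬ IsConj a b ∧
      ∀ x : G, orderOf x = 2 → IsConj x a ∨ IsConj x b := by
  obtain ⟨T', -, -, h, hQ, hc⟩ := T.exists_normalised
  let F : Fr G := ⟨T', h, hQ, hc⟩
  obtain ⟨u, hu⟩ := F.exists_typB
  obtain ⟨hu2, huQ, -⟩ := F.typB_inv hu
  refine ⟨F.z, u, orderOf_eq_prime (by rw [sq]; exact F.z_sq) F.z_ne,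
    orderOf_eq_prime (by rw [sq]; exact hu2) (fun e => huQ (e ▸ one_mem _)),
    F.typB_not_conj hu, fun x hx => ?_⟩
  have hx2 : x * x = 1 := by rw [← sq, ← hx, pow_orderOf_eq_one]
  have hx1 : x ≠ 1 := fun e => by simp [e] at hx
  obtain ⟨g, hg⟩ := T'.exists_conj_comm hx
  have hgx : IsConj x (g * x * g⁻¹) := isConj_iff.2 ⟨g, rfl⟩
  have hg2 : g * x * g⁻¹ * (g * x * g⁻¹) = 1 := by
    calc g * x * g⁻¹ * (g * x * g⁻¹) = g * (x * x) * g⁻¹ := by group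
      _ = 1 := by rw [hx2]; group
  have hg1 : g * x * g⁻¹ ≠ 1 := fun e => hx1 (conj_eq_one_iff.mp e)
  have hvz : IsConj F.v F.z := (isConj_iff.2 ⟨F.h, rfl⟩ : IsConj F.z F.v).symm
  have inQ : ∀ y ∈ F.Q, y * y = 1 → y ≠ 1 → IsConj y F.z := by
    intro y hy hy2 hy1
    by_cases hyz : y = F.z
    · rw [hyz]
    · obtain ⟨k, -, hk⟩ := F.exists_conj_v hy hy2 hy1 hyz
      exact (isConj_iff.2 ⟨k, hk⟩).trans hvz
  by_cases hQ' : g * x * g⁻¹ ∈ F.Q
  · exact Or.inl (hgx.trans (inQ _ hQ' hg2 hg1))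
  obtain ⟨k, hk, hP | hB⟩ := F.classify hg hg2 hQ'
  · left
    set w := k * (g * x * g⁻¹) * k⁻¹ with hw
    have hw2 : F.h⁻¹ * w * F.h * (F.h⁻¹ * w * F.h) = 1 := by
      calc F.h⁻¹ * w * F.h * (F.h⁻¹ * w * F.h)
          = F.h⁻¹ * k * ((g * x * g⁻¹) * (g * x * g⁻¹)) * k⁻¹ * F.h := by rw [hw]; group
        _ = 1 := by rw [hg2]; group
    have hw1 : F.h⁻¹ * w * F.h ≠ 1 := fun e => hg1 (by
      calc g * x * g⁻¹ = k⁻¹ * F.h * (F.h⁻¹ * w * F.h) * F.h⁻¹ * k := by rw [hw]; group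
        _ = 1 := by rw [e]; group)
    have h1 : IsConj w (F.h⁻¹ * w * F.h) := isConj_iff.2 ⟨F.h⁻¹, by group⟩
    exact hgx.trans ((isConj_iff.2 ⟨k, hw.symm⟩).trans
      (h1.trans (inQ _ (mem_conjS.1 hP) hw2 hw1)))
  · right
    obtain ⟨k', -, hk'⟩ := F.typB_conj hB hu
    exact hgx.trans ((isConj_iff.2 ⟨k, rfl⟩).trans (isConj_iff.2 ⟨k', hk'⟩))

end Cfsg.Agent.SuzType
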