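/-
The centraliser `D` of the four group `⟨z, v⟩` of a group of Suzuki type: parameters of the elements
of `A B` and the action of `D` on the middle layer `U4` (helper1).

* `Is x α β` : `x = a b` with parameters `α`, `β`; products, squares, commutators, conjugates
* `phi` : the action on `U4`; `phi_eq` : it is determined by the images of `A0` and `W0`
* `inv_cases` : involutions of `A B`; `exists_pair` : transitivity on standard pairs
-/
import Cfsg.Agent.Lib.SuzType.Main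

set_option autoImplicit false
open scoped commutatorElement

namespace Cfsg.Agent.SuzType

open Cfsg.Agent.Orth Cfsg.Agent.LargeExtraspecial Cfsg.Agent.LargeExtraspecial.Cfg
open QuadraticMap (polar)

/-- The singular vectors orthogonal to `A0` and `W0` are `E0`, `F0`; `G0` is their sum. -/
def E0 : U4 := ![1, 1, 0, 1]
/-- See `E0`. -/
def F0 : U4 := ![1, 1, 1, 1]
/-- See `E0`. -/
def G0 : U4 := ![0, 0, 1, 0]

theorem qU_G0 : qU G0 = 1 := by decide
theorem qU_E0 : qU E0 = 0 := by decide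
theorem qU_F0 : qU F0 = 0 := by decide
theorem E0_ne : E0 ≠ 0 := by decide

theorem hyp_pair (x y : U4) (h1 : qU x = 0) (h2 : qU y = 0) (h3 : bU x y = 1) (h4 : bU x A0 = 0)
    (h5 : bU x W0 = 0) (h6 : bU y A0 = 0) (h7 : bU y W0 = 0) :
    (x = E0 ∧ y = F0) ∨ (x = F0 ∧ y = E0) := by
  have hx : ∀ x : U4, qU x = 0 → bU x A0 = 0 → bU x W0 = 0 → x = 0 ∨ x = E0 ∨ x = F0 := by
    decide +kernel
  rcases hx x h1 h4 h5 with rfl | rfl | rfl <;> rcases hx y h2 h6 h7 with rfl | rfl | rfl <;>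
    revert h3 <;> decide +kernel

theorem basis4 : ∀ u : U4, ∃ a b c d : ZMod 2, u = a • A0 + b • W0 + c • E0 + d • F0 := by
  decide +kernel

theorem rU_G0 : rU G0 A0 = A0 ∧ rU G0 W0 = W0 ∧ rU G0 E0 = F0 ∧ rU G0 F0 = E0 := by decide +kernel

theorem hyp_EF : qU E0 = 0 ∧ qU F0 = 0 ∧ bU E0 F0 = 1 ∧ bU E0 A0 = 0 ∧ bU E0 W0 = 0 ∧
    bU F0 A0 = 0 ∧ bU F0 W0 = 0 := by decide +kernel

theorem sigma_pair : rU W0 (rU G0 (A0 + W0)) = A0 ∧ rU W0 (rU G0 W0) = W0 := by decide +kernel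

theorem phi_mix : ∀ a b : U4, rU a (rU a b + b) = rU a (rU a b) + rU a b := by decide +kernel

variable {G : Type*} [Group G]

namespace Fr

variable (F : Fr G)

/-- Elements of the four group. -/
def pz (i j : ZMod 2) : G := pw F.z i * pw F.v j

theorem pz_zero : F.pz 0 0 = 1 := by simp [pz]
theorem pz_z : F.pz 1 0 = F.z := by simp [pz]
theorem pz_v : F.pz 0 1 = F.v := by simp [pz]
theorem pz_zv : F.pz 1 1 = F.z * F.v := by simp [pz]

theorem pz_mul (i j i' j' : ZMod 2) : F.pz i j * F.pz i' j' = F.pz (i + i') (j + j') := by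
  have h : Commute (pw F.v j) (pw F.z i') := pw_comm (pw F.v j) (F.T.Qz (pw_mem F.hv j)) i'
  rw [pz, pz, pz, pw_add F.z_sq, pw_add F.v_sq, mul_assoc, ← mul_assoc (pw F.v j), h.eq]
  group

theorem pz_sq (i j : ZMod 2) : F.pz i j * F.pz i j = 1 := by
  rw [F.pz_mul, ZModModule.add_self, ZModModule.add_self, F.pz_zero]

theorem pz_comm {d : G} (hd : d ∈ F.D) (i j : ZMod 2) : d * F.pz i j = F.pz i j * d :=
  F.D_fix_V hd i j

theorem pz_inj {i j i' j' : ZMod 2} (h : F.pz i j = F.pz i' j') : i = i' ∧ j = j' := F.vz_inj h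

theorem pz_eq_one {i j : ZMod 2} (h : F.pz i j = 1) : i = 0 ∧ j = 0 :=
  F.pz_inj (h.trans F.pz_zero.symm)

theorem pz_mem_Q (i j : ZMod 2) : F.pz i j ∈ F.Q := mul_mem (pw_mem F.T.data.z_mem i) (pw_mem F.hv j)

theorem z_mem_D : F.z ∈ F.D := F.mem_D.2 ⟨rfl, F.zv⟩
theorem v_mem_D : F.v ∈ F.D := F.mem_D.2 ⟨F.zv.symm, rfl⟩

theorem pz_mem_D (i j : ZMod 2) : F.pz i j ∈ F.D := mul_mem (pw_mem F.z_mem_D i) (pw_mem F.v_mem_D j)

/-- `x = a b` with parameters `α`, `β`. -/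
def Is (x : G) (α β : U4) : Prop :=
  ∃ a ∈ A F.Q F.v, ∃ b ∈ A F.P F.z, x = a * b ∧ F.κ a = α ∧ F.θ b = β

/-- The action on the middle layer. -/
noncomputable def phi (g : G) (α : U4) : U4 := pu (ap (F.T.ρ g) (io α))

theorem phi_add (g : G) (α β : U4) : F.phi g (α + β) = F.phi g α + F.phi g β := by
  rw [phi, io_add, map_add, pu_add]; rfl

theorem phi_zero (g : G) : F.phi g 0 = 0 := by
  rw [phi, io_zero, map_zero]
  funext k; fin_cases k <;> rfl

theorem phi_smul (g : G) (c : ZMod 2) (α : U4) : F.phi g (c • α) = c • F.phi g α := by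
  rcases z2 c with rfl | rfl
  · rw [zero_smul, zero_smul, F.phi_zero]
  · rw [one_smul, one_smul]

theorem phi_one (α : U4) : F.phi 1 α = α := by rw [phi, F.T.ρ_one, ap_one, pu_io]

theorem pu_ap {d : G} (hd : d ∈ F.D) {t : V6} (ht : cp t = 0) :
    pu (ap (F.T.ρ d) t) = F.phi d (pu t) := by
  conv_lhs => rw [decomp t]
  rw [ht, zero_smul, add_zero, map_add, map_smul, F.ρ_v0 hd, pu_add, pu_smul, pu_v0, smul_zero,
    zero_add]
  rfl

theorem phi_mul {g h : G} (hg : g ∈ F.D) (hh : h ∈ F.D) (α : U4) :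
    F.phi (g * h) α = F.phi g (F.phi h α) := by
  rw [phi, F.T.ρ_mul g h (F.mem_D.1 hg).1 (F.mem_D.1 hh).1, ap_mul,
    F.pu_ap hg (by rw [F.cp_ap hh, cp_io])]
  rfl

theorem phi_qU {g : G} (hg : g ∈ F.D) (α : U4) : qU (F.phi g α) = qU α := by
  have h : qm (ap (F.T.ρ g) (io α)) = qm (io α) := Q_ap _ _
  rw [qm_eq, F.cp_ap hg, cp_io, mul_zero, zero_add, qm_io] at h
  exact h

theorem phi_bU {g : G} (hg : g ∈ F.D) (α β : U4) : bU (F.phi g α) (F.phi g β) = bU α β := by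
  have h := F.phi_qU hg (α + β)
  rw [F.phi_add, qU_add, qU_add, F.phi_qU hg, F.phi_qU hg] at h
  exact add_left_cancel h

theorem phi_inv {g : G} (hg : g ∈ F.D) (α : U4) : F.phi g⁻¹ (F.phi g α) = α := by
  rw [← F.phi_mul (inv_mem hg) hg, inv_mul_cancel, F.phi_one]

theorem phi_inj {g : G} (hg : g ∈ F.D) {α β : U4} (h : F.phi g α = F.phi g β) : α = β := by
  rw [← F.phi_inv hg α, h, F.phi_inv hg]

theorem phi_refl {d : G} {a b : U4} (ha : qU a = 1) (hb : qU b = 1)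
    (hρ : F.T.ρ d = refl qm (io a) * refl qm (io b)) (α : U4) : F.phi d α = rU a (rU b α) := by
  rw [phi, hρ, ap_mul, pu_refl a ha, pu_refl b hb, pu_io]

theorem mem_A_D {x : G} (hx : x ∈ F.Q) (hv : x * F.v = F.v * x) : x ∈ A F.Q F.v := mem_A.mpr ⟨hx, hv⟩

variable [Finite G]

theorem Is.mem_D {x : G} {α β : U4} (h : F.Is x α β) : x ∈ F.D := by
  obtain ⟨a, ha, b, hb, rfl, -, -⟩ := h
  exact mul_mem (F.A_le_D ha) (F.B_le_D hb)

theorem Is.comm_z {x : G} {α β : U4} (h : F.Is x α β) : x * F.z = F.z * x :=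
  (F.mem_D.1 (Is.mem_D F h)).1

theorem exists_Is (α β : U4) : ∃ x, F.Is x α β := by
  obtain ⟨a, ha, hκ⟩ := F.κ_surj α
  obtain ⟨b, hb, hθ⟩ := F.θ_surj β
  exact ⟨a * b, a, ha, b, hb, rfl, hκ, hθ⟩

theorem Is_A {a : G} (ha : a ∈ A F.Q F.v) : F.Is a (F.κ a) 0 :=
  ⟨a, ha, 1, one_mem _, (mul_one a).symm, rfl, F.θ_one⟩

theorem Is_pz (i j : ZMod 2) : F.Is (F.pz i j) 0 0 :=
  ⟨F.pz i j, F.four_mem i j, 1, one_mem _, (mul_one _).symm, F.κ_four i j, F.θ_one⟩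

theorem Is_one : F.Is 1 0 0 := by
  rw [← F.pz_zero]; exact F.Is_pz 0 0

theorem E_pz {e : G} (he : e ∈ F.Q ⊓ F.P) : ∃ i j, e = F.pz i j := F.E_inV he

theorem κ_E {e : G} (he : e ∈ F.Q ⊓ F.P) : F.κ e = 0 := by
  obtain ⟨i, j, rfl⟩ := F.E_inV he
  exact F.κ_four i j

theorem Is.mul {x y : G} {α β α' β' : U4} (hx : F.Is x α β) (hy : F.Is y α' β') :
    F.Is (x * y) (α + α') (β + β') := by
  obtain ⟨a, ha, b, hb, rfl, rfl, rfl⟩ := hx
  obtain ⟨a', ha', b', hb', rfl, rfl, rfl⟩ := hy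
  have hc := F.comm_ba_mem ha' hb
  have hcA : ⁅b, a'⁆ ∈ A F.Q F.v := F.cfg.E_le_A hc
  refine ⟨a * ⁅b, a'⁆ * a', mul_mem (mul_mem ha hcA) ha', b * b', mul_mem hb hb', ?_, ?_,
    F.θ_mul hb hb'⟩
  · simp only [commutatorElement_def]; group
  · rw [F.κ_mul (mul_mem (mem_A.mp ha).1 hc.1) (mem_A.mp ha').1, F.κ_mul (mem_A.mp ha).1 hc.1,
      F.κ_E hc, add_zero]

theorem Is.mul_pz {x : G} {α β : U4} (hx : F.Is x α β) (i j : ZMod 2) : F.Is (x * F.pz i j) α β := by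
  have h := Is.mul F hx (F.Is_pz i j)
  rwa [add_zero, add_zero] at h

theorem Is.pz_mul {x : G} {α β : U4} (hx : F.Is x α β) (i j : ZMod 2) : F.Is (F.pz i j * x) α β := by
  rw [← F.pz_comm (Is.mem_D F hx)]
  exact Is.mul_pz F hx i j

theorem Is.unique {x : G} {α β α' β' : U4} (h : F.Is x α β) (h' : F.Is x α' β') :
    α = α' ∧ β = β' := by
  obtain ⟨a, ha, b, hb, rfl, rfl, rfl⟩ := h
  obtain ⟨a', ha', b', hb', e, rfl, rfl⟩ := h'
  exact F.eq_AB ha ha' hb hb' e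

theorem Is.eq_pz {x : G} (hx : F.Is x 0 0) : ∃ i j, x = F.pz i j := by
  obtain ⟨a, ha, b, hb, rfl, hκ, hθ⟩ := hx
  exact F.E_pz (mul_mem (F.ker_κ ha hκ) (F.θ_ker hb hθ))

theorem Is.sq {x : G} {α β : U4} (hx : F.Is x α β) :
    x * x = F.pz (qU α + bU α β) (qU β + bU α β) := by
  obtain ⟨a, ha, b, hb, rfl, rfl, rfl⟩ := hx
  exact F.sq_AB ha hb

theorem Is.inv {x : G} {α β : U4} (hx : F.Is x α β) : F.Is x⁻¹ α β := by
  have e : x⁻¹ = x * F.pz (qU α + bU α β) (qU β + bU α β) := by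
    refine inv_eq_of_mul_eq_one_right ?_
    rw [← mul_assoc, Is.sq F hx, F.pz_sq]
  rw [e]; exact Is.mul_pz F hx _ _

theorem Is.eq_mul_pz {x y : G} {α β : U4} (hx : F.Is x α β) (hy : F.Is y α β) :
    ∃ i j, y = x * F.pz i j := by
  have h := Is.mul F (Is.inv F hx) hy
  rw [ZModModule.add_self, ZModModule.add_self] at h
  obtain ⟨i, j, e⟩ := Is.eq_pz F h
  exact ⟨i, j, by rw [← e, mul_inv_cancel_left]⟩

/-- The commutator form, first component. -/
def K1 (α β α' β' : U4) : ZMod 2 := bU α α' + bU α β' + bU α' β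
/-- The commutator form, second component. -/
def K2 (α β α' β' : U4) : ZMod 2 := bU β β' + bU α β' + bU α' β

theorem Is.comm {x y : G} {α β α' β' : U4} (hx : F.Is x α β) (hy : F.Is y α' β') :
    x * y = y * x * F.pz (K1 α β α' β') (K2 α β α' β') := by
  have h := Is.sq F (Is.mul F hx hy)
  have c2 : Commute (y * y)⁻¹ x := by
    rw [Is.sq F hy]; exact (Commute.inv_left (F.pz_comm (Is.mem_D F hx) _ _).symm)
  have key : x * y = y * x * ((x * x)⁻¹ * (y * y)⁻¹ * (x * y * (x * y))) := by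
    symm
    calc y * x * ((x * x)⁻¹ * (y * y)⁻¹ * (x * y * (x * y)))
        = y * x⁻¹ * ((y * y)⁻¹ * x) * (y * (x * y)) := by group
      _ = x * y := by rw [c2.eq]; group
  rw [key, Is.sq F hx, Is.sq F hy, h]
  congr 1
  rw [inv_eq_of_mul_eq_one_right (F.pz_sq _ _), inv_eq_of_mul_eq_one_right (F.pz_sq _ _), F.pz_mul,
    F.pz_mul]
  have h2 : (2 : ZMod 2) = 0 := by decide
  congr 1
  · simp only [K1, qU_add, bU_add_left, bU_add_right]
    linear_combination (qU α + bU α β + qU α' + bU α' β') * h2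
  · simp only [K2, qU_add, bU_add_left, bU_add_right]
    linear_combination (qU β + bU α β + qU β' + bU α' β') * h2

theorem Is.conj {d x : G} {α β : U4} (hd : d ∈ F.D) (hx : F.Is x α β) :
    F.Is (d * x * d⁻¹) (F.phi d α) (F.phi d β) := by
  obtain ⟨a, ha, b, hb, rfl, rfl, rfl⟩ := hx
  exact ⟨d * a * d⁻¹, F.A_norm hd ha, d * b * d⁻¹, F.B_norm hd hb, by group, F.κ_conj_io hd ha,
    F.θ_conj_D hd hb⟩

theorem Is.shift {p x : G} {α β : U4} (hp : p ∈ F.Q) (hpc : F.T.c p = p0) (hx : F.Is x α β) :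
    F.Is (p * x * p⁻¹) (α + β) β := by
  obtain ⟨a, ha, b, hb, rfl, rfl, rfl⟩ := hx
  have hbz := (mem_A.mp hb).2
  have haQ := (mem_A.mp ha).1
  have hy : p * (b * p⁻¹ * b⁻¹) ∈ F.Q := mul_mem hp (F.T.data.norm b hbz _ (inv_mem hp))
  have hyc : F.T.c (p * (b * p⁻¹ * b⁻¹)) = io (F.θ b) + qU (F.θ b) • v0 := by
    rw [F.T.c_mul _ hp _ (F.T.data.norm b hbz _ (inv_mem hp)), F.T.ρ_conj b hbz _ (inv_mem hp),
      F.T.c_inv hp, hpc, F.ap_B hb, cp_p0, pu_p0, bU_zero_left, one_smul, one_mul, add_zero,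
      ← add_assoc, ← add_assoc, ZModModule.add_self, zero_add]
  have hpa := mul_mem (mul_mem hp haQ) (inv_mem hp)
  have hpac : F.T.c (p * a * p⁻¹) = F.T.c a := by
    rw [F.T.c_mul _ (mul_mem hp haQ) _ (inv_mem hp), F.T.c_mul p hp a haQ, F.T.c_inv hp,
      add_comm (F.T.c p), add_assoc, ZModModule.add_self, add_zero]
  refine ⟨p * a * p⁻¹ * (p * (b * p⁻¹ * b⁻¹)), ?_, b, hb, by group, ?_, rfl⟩
  · refine F.mem_A_iff.2 ⟨mul_mem hpa hy, ?_⟩
    rw [F.T.c_mul _ hpa _ hy, hpac, hyc, cp_add, (F.mem_A_iff.1 ha).2, cp_add, cp_io]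
    simp [cp, v0]
  · rw [F.κ_mul hpa hy, κ, hpac, κ, hyc, pu_add, pu_io, pu_smul, pu_v0, smul_zero, add_zero]
    rfl

theorem Is.ap {x : G} {α β : U4} (hx : F.Is x α β) (t : V6) :
    Orth.ap (F.T.ρ x) t = t + cp t • io β + (cp t * qU β + bU (pu t) β) • v0 := by
  obtain ⟨a, ha, b, hb, rfl, -, rfl⟩ := hx
  rw [F.T.ρ_mul a b (F.T.Qz (mem_A.mp ha).1) (mem_A.mp hb).2, F.T.ρ_Q (mem_A.mp ha).1, one_mul,
    F.ap_B hb]

theorem Is.phi {x : G} {α β : U4} (hx : F.Is x α β) (γ : U4) : F.phi x γ = γ := by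
  rw [Fr.phi, Is.ap F hx, cp_io, zero_smul, add_zero, pu_add, pu_io, pu_smul, pu_v0, smul_zero,
    add_zero]

theorem Is_of_phi {x : G} (hx : x ∈ F.D) (h : ∀ γ, F.phi x γ = γ) : ∃ α β, F.Is x α β := by
  obtain ⟨a, ha, b, hb, rfl⟩ := F.mem_AB_of_fix hx h
  exact ⟨_, _, a, ha, b, hb, rfl, rfl, rfl⟩

/-- An isometry fixing `v0` and trivial on the middle layer is that of an element of `B`. -/
theorem unip_eq_B (ω : IsoGrp qm) (h0 : Orth.ap ω v0 = v0)
    (hfix : ∀ u : U4, pu (Orth.ap ω (io u)) = u) : ∃ b ∈ A F.P F.z, ω = F.T.ρ b := by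
  set w := Orth.ap ω p0 with hw
  obtain ⟨b, hb, hbθ⟩ := F.θ_surj (pu w)
  refine ⟨b, hb, ?_⟩
  have hcp : ∀ x, cp (Orth.ap ω x) = cp x := by
    intro x
    have h := polar_ap ω v0 x
    rwa [h0, polar_v0, polar_v0] at h
  have hwp : cp w = 1 := by rw [hw, hcp, cp_p0]
  have hwv : SuzType.cv w = qU (pu w) := by
    have h : qm w = qm p0 := Q_ap _ _
    rw [qm_eq, qm_eq, hwp, cv_p0, pu_p0, qU_zero, zero_mul, add_zero, mul_one] at h
    exact add_eq_zero_z2 h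
  have hu : ∀ u : U4, Orth.ap ω (io u) = io u + bU u (pu w) • v0 := by
    intro u
    have hpu := hfix u
    have hcp0 : cp (Orth.ap ω (io u)) = 0 := by rw [hcp, cp_io]
    have hcv : SuzType.cv (Orth.ap ω (io u)) = bU u (pu w) := by
      have h := polar_ap ω (io u) p0
      rw [polar_eq, ← hw, hwp, hcp0, hpu, mul_one, zero_mul, add_zero, polar_io, pu_p0,
        bU_zero_right] at h
      exact add_eq_zero_z2 h
    refine ext3 ?_ ?_ ?_
    · rw [hcv, cv_add, cv_io, zero_add]; simp [SuzType.cv, v0]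
    · rw [hcp0, cp_add, cp_io, zero_add]; simp [cp, v0]
    · rw [hpu, pu_add, pu_io, pu_smul, pu_v0, smul_zero, add_zero]
  have hp : Orth.ap ω p0 = p0 + io (pu w) + qU (pu w) • v0 := by
    rw [← hw]
    refine ext3 ?_ ?_ ?_
    · rw [hwv, cv_add, cv_add, cv_p0, cv_io, zero_add, zero_add]; simp [SuzType.cv, v0]
    · rw [hwp, cp_add, cp_add, cp_p0, cp_io, add_zero]; simp [cp, v0]
    · rw [pu_add, pu_add, pu_p0, pu_io, pu_smul, pu_v0, smul_zero, zero_add, add_zero]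
  refine ext_ap fun x => ?_
  rw [F.ap_B hb, hbθ]
  conv_lhs => rw [decomp x]
  rw [map_add, map_add, map_smul, map_smul, h0, hp, hu]
  conv_rhs => arg 1; arg 1; rw [decomp x]
  rw [add_smul, mul_smul, smul_add, smul_add]
  abel

/-- An element of `D` fixing `A0` and `W0` is trivial on the middle layer. -/
theorem phi_trivial {d : G} (hd : d ∈ F.D) (hA : F.phi d A0 = A0) (hW : F.phi d W0 = W0) (γ : U4) :
    F.phi d γ = γ := by
  obtain ⟨e1, e2, e3, e4, e5, e6, e7⟩ := hyp_EF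
  obtain ⟨g1, g2, g3, g4⟩ := rU_G0
  have hlin : ∀ a b c e : ZMod 2, F.phi d (a • A0 + b • W0 + c • E0 + e • F0) =
      a • A0 + b • W0 + c • F.phi d E0 + e • F.phi d F0 := by
    intro a b c e
    rw [F.phi_add, F.phi_add, F.phi_add, F.phi_smul, F.phi_smul, F.phi_smul, F.phi_smul, hA, hW]
  have hb : ∀ x y, bU (F.phi d x) (F.phi d y) = bU x y := F.phi_bU hd
  rcases hyp_pair (F.phi d E0) (F.phi d F0) (by rw [F.phi_qU hd, e1]) (by rw [F.phi_qU hd, e2])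
    (by rw [hb, e3]) (by rw [← hA, hb, e4]) (by rw [← hW, hb, e5])
    (by rw [← hA, hb, e6]) (by rw [← hW, hb, e7]) with ⟨h1, h2⟩ | ⟨h1, h2⟩
  · obtain ⟨a, b, c, e, rfl⟩ := basis4 γ
    rw [hlin, h1, h2]
  · exfalso
    have hsm : ∀ (c : ZMod 2) (x : U4), rU G0 (c • x) = c • rU G0 x := by
      intro c x
      rcases z2 c with rfl | rfl
      · rw [zero_smul, zero_smul]; decide
      · rw [one_smul, one_smul]
    have hphi : ∀ x, F.phi d x = rU G0 x := by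
      intro x
      obtain ⟨a, b, c, e, rfl⟩ := basis4 x
      rw [hlin, h1, h2, rU_add, rU_add, rU_add, hsm, hsm, hsm, hsm, g1, g2, g3, g4]
    have hG : qm (io G0) ≠ 0 := by rw [qm_io, qU_G0]; exact one_ne_zero
    obtain ⟨b, hb', hω⟩ := F.unip_eq_B (refl qm (io G0) * F.T.ρ d)
      (by rw [ap_mul, F.ρ_v0 hd, refl_fix G0 qU_G0 pu_v0])
      (fun u => by
        rw [ap_mul, pu_refl G0 qU_G0, show pu (ap (F.T.ρ d) (io u)) = F.phi d u from rfl, hphi,
          rU_rU G0 _ qU_G0])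
    refine refl_not_mem hG ?_
    rw [show refl qm (io G0) = F.T.ρ b * (F.T.ρ d)⁻¹ by rw [← hω]; group]
    exact mul_mem (F.T.ρ_mem b (mem_A.mp hb').2) (inv_mem (F.T.ρ_mem d (F.mem_D.1 hd).1))

/-- The action is determined by the images of `A0` and `W0`. -/
theorem phi_eq {d e : G} (hd : d ∈ F.D) (he : e ∈ F.D) (hA : F.phi d A0 = F.phi e A0)
    (hW : F.phi d W0 = F.phi e W0) (γ : U4) : F.phi d γ = F.phi e γ := by
  have h := F.phi_trivial (mul_mem (inv_mem he) hd)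
    (by rw [F.phi_mul (inv_mem he) hd, hA, F.phi_inv he])
    (by rw [F.phi_mul (inv_mem he) hd, hW, F.phi_inv he]) γ
  rw [F.phi_mul (inv_mem he) hd] at h
  conv_rhs => rw [← h, ← F.phi_mul he (inv_mem he), mul_inv_cancel, F.phi_one]

/-- `D` is transitive on standard pairs. -/
theorem exists_pair {α β : U4} (ha : qU α = 1) (hb : qU β = 1) (hab : bU α β = 1) :
    ∃ d ∈ F.D, F.phi d α = A0 ∧ F.phi d β = W0 := by
  obtain ⟨x, y, hx, hy, hw⟩ := exists_to_w0 β hb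
  obtain ⟨d1, hd1, hρ1⟩ := F.exists_D hx hy
  have hq : qU (rU x (rU y α)) = 1 := by rw [qU_rU x _ hx, qU_rU y _ hy, ha]
  have hb1 : bU (rU x (rU y α)) W0 = 1 := by rw [← hw, bU_pair _ _ _ _ hx hy, hab]
  obtain ⟨s, t, hs, ht, hfix, hA⟩ := exists_to_a0 _ hq hb1
  obtain ⟨d2, hd2, hρ2⟩ := F.exists_D hs ht
  have k1 : F.phi (d2 * d1) α = rU s (rU t (rU x (rU y α))) := by
    rw [F.phi_mul hd2 hd1, F.phi_refl hx hy hρ1, F.phi_refl hs ht hρ2]
  have k2 : F.phi (d2 * d1) β = W0 := by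
    rw [F.phi_mul hd2 hd1, F.phi_refl hx hy hρ1, hw, F.phi_refl hs ht hρ2, hfix]
  rcases hA with hA | hA
  · exact ⟨d2 * d1, mul_mem hd2 hd1, k1.trans hA, k2⟩
  · obtain ⟨d3, hd3, hρ3⟩ := F.exists_D qU_W0 qU_G0
    refine ⟨d3 * (d2 * d1), mul_mem hd3 (mul_mem hd2 hd1), ?_, ?_⟩
    · have e : rU s (rU t (rU x (rU y α))) = A0 + W0 := by
        rw [rU_add, rU_add, hfix] at hA
        rw [← hA, add_assoc, ZModModule.add_self, add_zero]
      rw [F.phi_mul hd3 (mul_mem hd2 hd1), k1, e, F.phi_refl qU_W0 qU_G0 hρ3, sigma_pair.1]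
    · rw [F.phi_mul hd3 (mul_mem hd2 hd1), k2, F.phi_refl qU_W0 qU_G0 hρ3, sigma_pair.2]

/-- Elements of the standard shape are conjugate under `A`. -/
theorem Is.conj_std {x y : G} (hx : F.Is x A0 W0) (hy : F.Is y A0 W0) :
    ∃ s ∈ F.D, s * x * s⁻¹ = y ∧ s ∈ F.Q := by
  obtain ⟨i, j, rfl⟩ := Is.eq_mul_pz F hx hy
  obtain ⟨w, hw1, hw2⟩ := sep i j
  obtain ⟨s, hs, hsκ⟩ := F.κ_surj w
  refine ⟨s, F.A_le_D hs, ?_, (mem_A.mp hs).1⟩
  have h := Is.comm F (F.Is_A hs) hx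
  rw [hsκ] at h
  have e1 : K1 w 0 A0 W0 = i := by
    rw [K1, bU_zero_right, add_zero, ← bU_add_right, hw1]
  have e2 : K2 w 0 A0 W0 = j := by
    rw [K2, bU_zero_left, bU_zero_right, zero_add, add_zero, hw2]
  rw [e1, e2] at h
  rw [h, mul_assoc (x * s), ← F.pz_comm (inv_mem (F.A_le_D hs))]
  group

theorem conj_vz {p : G} (hp : p ∈ F.Q) (hpc : F.T.c p = p0) : p * F.v * p⁻¹ = F.pz 1 1 := by
  rw [F.conj_p hp hpc, F.pz_zv]; exact F.zv.symm

/-- Involutions of the radical are conjugate to `z`. -/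
theorem isConj_of_mem_Q {y : G} (hy : y ∈ F.Q) (h2 : y * y = 1) (h1 : y ≠ 1) : IsConj F.z y := by
  by_cases hyz : y = F.z
  · rw [hyz]
  · obtain ⟨k, -, hk⟩ := F.exists_conj_v hy h2 h1 hyz
    exact (isConj_iff.2 ⟨F.h, rfl⟩ : IsConj F.z F.v).trans (isConj_iff.2 ⟨k, hk⟩).symm

/-- Involutions of the conjugate radical are conjugate to `z`. -/
theorem isConj_of_mem_P {y : G} (hy : y ∈ F.P) (h2 : y * y = 1) (h1 : y ≠ 1) : IsConj F.z y := by
  have h := F.isConj_of_mem_Q (mem_conjS.1 hy)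
    (by calc F.h⁻¹ * y * F.h * (F.h⁻¹ * y * F.h) = F.h⁻¹ * (y * y) * F.h := by group
          _ = 1 := by rw [h2]; group)
    (fun e => h1 (by
      calc y = F.h * (F.h⁻¹ * y * F.h) * F.h⁻¹ := by group
        _ = 1 := by rw [e]; group))
  exact h.trans (isConj_iff.2 ⟨F.h, by group⟩)

/-- A standard pair gives an element not conjugate to `z`. -/
theorem Is.not_conj {x : G} {α β : U4} (hx : F.Is x α β) (ha : qU α = 1) (hb : qU β = 1)
    (hab : bU α β = 1) : ¬ IsConj F.z x := by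
  obtain ⟨d, hd, h1, h2⟩ := F.exists_pair ha hb hab
  intro hc
  have h := Is.conj F hd hx
  rw [h1, h2] at h
  exact F.typB_not_conj h (hc.trans (isConj_iff.2 ⟨d, rfl⟩))

/-- The possible parameters of a singular involution. -/
def SingPar (α β : U4) : Prop :=
  qU α = 0 ∧ qU β = 0 ∧ bU α β = 0 ∧ (α = 0 ∨ β = 0 ∨ α = β)

/-- Involutions in `A B`. -/
theorem inv_cases {x : G} {α β : U4} (hx : F.Is x α β) (h2 : x * x = 1) (h1 : x ≠ 1) :
    (qU α = 1 ∧ qU β = 1 ∧ bU α β = 1 ∧ ¬ IsConj F.z x) ∨ (SingPar α β ∧ IsConj F.z x) := by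
  have hs := Is.sq F hx
  rw [h2] at hs
  obtain ⟨e1, e2⟩ := F.pz_eq_one hs.symm
  have k1 := add_eq_zero_z2 e1
  have k2 := add_eq_zero_z2 e2
  rcases z2 (bU α β) with hk | hk <;> rw [hk] at k1 k2
  · right
    have hsing : SingPar α β := ⟨k1, k2, hk, witt_index α β k1 k2 hk⟩
    refine ⟨hsing, ?_⟩
    have hP : ∀ {x : G}, F.Is x 0 β → x * x = 1 → x ≠ 1 → IsConj F.z x := by
      intro x hx h2 h1
      obtain ⟨a, ha, b, hb, rfl, hκ, -⟩ := hx
      exact F.isConj_of_mem_P (mul_mem (F.ker_κ ha hκ).2 (mem_A.mp hb).1) h2 h1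
    rcases hsing.2.2.2 with h | h | h
    · exact hP (h ▸ hx) h2 h1
    · obtain ⟨a, ha, b, hb, rfl, -, hθ⟩ := hx
      exact F.isConj_of_mem_Q (mul_mem (mem_A.mp ha).1 (F.θ_ker hb (hθ.trans h)).1) h2 h1
    · obtain ⟨p, hp, hpc⟩ := F.T.c_surj p0
      have h' := Is.shift F hp hpc hx
      rw [h, ZModModule.add_self] at h'
      refine (hP h' ?_ ?_).trans (isConj_iff.2 ⟨p⁻¹, by group⟩)
      · calc p * x * p⁻¹ * (p * x * p⁻¹) = p * (x * x) * p⁻¹ := by group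
          _ = 1 := by rw [h2]; group
      · exact fun e => h1 (conj_eq_one_iff.mp e)
  · exact Or.inl ⟨k1, k2, hk, Is.not_conj F hx k1 k2 hk⟩

end Fr

end Cfsg.Agent.SuzType
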