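/-
The common centraliser of `z` and an involution `u` of standard shape in a group of Suzuki type
(helper1).

* `Fu` : a frame with such an involution; `S = C(z, u)` of order 512, `S0 = S ∩ D` of index 2
* `Et` : the centre of `S0`; `zty_iff` : the conjugates of `z` in `S`
* `E` : the four group of fixed points on `Et` of the three-cycles on `V` in `C(u)`; `exists_rot`
-/
import Cfsg.Agent.Lib.SuzType.Mid

set_option autoImplicit false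
open scoped commutatorElement

namespace Cfsg.Agent.SuzType

open Cfsg.Agent.Orth Cfsg.Agent.LargeExtraspecial Cfsg.Agent.LargeExtraspecial.Cfg
open QuadraticMap (polar)
open Fr (K1 K2 SingPar)

/-- Parameters of the elements centralising the standard involution. -/
abbrev Ker (α β : U4) : Prop := K1 α β A0 W0 = 0 ∧ K2 α β A0 W0 = 0

/-- Parameters of the centre of the centraliser. -/
abbrev EtP (α β : U4) : Prop :=
  (α = 0 ∧ β = 0) ∨ (α = A0 ∧ β = W0) ∨ (α = W0 ∧ β = A0 + W0) ∨ (α = A0 + W0 ∧ β = A0)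

/-- Parameters of the conjugates of `z`. -/
abbrev ZP (α β : U4) : Prop :=
  (α = 0 ∧ β = 0) ∨ (α = E0 ∧ β = 0) ∨ (α = 0 ∧ β = E0) ∨ (α = E0 ∧ β = E0) ∨
    (α = F0 ∧ β = 0) ∨ (α = 0 ∧ β = F0) ∨ (α = F0 ∧ β = F0)

/-- The outer action on parameters. -/
def sg (α : U4) : U4 := rU W0 (rU G0 α)

set_option synthInstance.maxSize 1024

theorem ker_card : (Finset.univ.filter fun p : U4 × U4 => Ker p.1 p.2).card = 64 := by
  decide +kernel

theorem etp_card : (Finset.univ.filter fun p : U4 × U4 => EtP p.1 p.2).card = 4 := by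
  decide +kernel

theorem etp_ker : ∀ α β : U4, EtP α β → Ker α β := by decide +kernel

theorem etp_add : ∀ α β : U4, EtP α β → ∀ α' β' : U4, EtP α' β' → EtP (α + α') (β + β') := by
  decide +kernel

theorem etp_central : ∀ α β : U4, EtP α β → ∀ α' β' : U4, Ker α' β' →
    K1 α β α' β' = 0 ∧ K2 α β α' β' = 0 := by
  decide +kernel

theorem central_etp : ∀ α β : U4, Ker α β →
    (K1 α β E0 0 = 0 ∧ K2 α β E0 0 = 0) → (K1 α β 0 E0 = 0 ∧ K2 α β 0 E0 = 0) →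
    (K1 α β F0 0 = 0 ∧ K2 α β F0 0 = 0) → (K1 α β 0 F0 = 0 ∧ K2 α β 0 F0 = 0) → EtP α β := by
  decide +kernel

theorem ker_gens : Ker E0 0 ∧ Ker 0 E0 ∧ Ker F0 0 ∧ Ker 0 F0 := by decide +kernel

theorem etp_sq : ∀ α β : U4, EtP α β → qU α + bU α β = 0 ∧ qU β + bU α β = 0 := by decide +kernel

theorem etp_std : ∀ α β : U4, EtP α β → (α = 0 ∧ β = 0) ∨ (qU α = 1 ∧ qU β = 1 ∧ bU α β = 1) := by
  decide +kernel

theorem sing_ker : ∀ α β : U4, (qU α = 0 ∧ qU β = 0 ∧ bU α β = 0 ∧ (α = 0 ∨ β = 0 ∨ α = β)) →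
    Ker α β → ZP α β := by
  decide +kernel

theorem zp_ker : ∀ α β : U4, ZP α β →
    (qU α = 0 ∧ qU β = 0 ∧ bU α β = 0 ∧ (α = 0 ∨ β = 0 ∨ α = β)) ∧ Ker α β := by
  decide +kernel

theorem zp_etp : ∀ α β : U4, ZP α β → EtP α β → α = 0 ∧ β = 0 := by decide +kernel

theorem sg_std : sg (A0 + W0) = A0 ∧ sg W0 = W0 := by decide +kernel

theorem sg_etp : ∀ α β : U4, EtP α β → ¬ (α = 0 ∧ β = 0) → ¬ (α = A0 ∧ β = W0) →
    ¬ (sg (α + β) = α ∧ sg β = β) := by decide +kernel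

theorem sg_zp : ∀ α β : U4, ZP α β → ¬ (α = 0 ∧ β = 0) → ¬ (sg (α + β) = α ∧ sg β = β) := by
  decide +kernel

theorem rot_exists : ∃ a : U4, ∃ b : U4, qU a = 1 ∧ qU b = 1 ∧ rU a (rU b A0) = W0 ∧
    rU a (rU b W0) = A0 + W0 ∧ rU a (rU b E0) = E0 ∧ rU a (rU b F0) = F0 := by
  decide +kernel

theorem etp_rot : EtP W0 (A0 + W0) ∧ EtP (A0 + W0) A0 ∧ EtP A0 W0 := by decide +kernel

variable {G : Type*} [Group G]

/-- A frame with a standard involution. -/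
structure Fu (G : Type*) [Group G] where
  F : Fr G
  u : G
  hu : F.Is u A0 W0

namespace Fu

variable (W : Fu G)

/-- The four group. -/
def V : Subgroup G where
  carrier := {x | ∃ i j, x = W.F.pz i j}
  one_mem' := ⟨0, 0, W.F.pz_zero.symm⟩
  mul_mem' := by rintro _ _ ⟨i, j, rfl⟩ ⟨i', j', rfl⟩; exact ⟨_, _, W.F.pz_mul i j i' j'⟩
  inv_mem' := by
    rintro _ ⟨i, j, rfl⟩
    exact ⟨i, j, inv_eq_of_mul_eq_one_right (W.F.pz_sq i j)⟩

theorem mem_V {x : G} : x ∈ W.V ↔ ∃ i j, x = W.F.pz i j := Iff.rfl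

/-- `C(u) ∩ C(z)`. -/
def S : Subgroup G := Subgroup.centralizer ({W.u} : Set G) ⊓ Subgroup.centralizer ({W.F.z} : Set G)

/-- `C(u) ∩ D`. -/
def S0 : Subgroup G := Subgroup.centralizer ({W.u} : Set G) ⊓ W.F.D

theorem mem_S {x : G} : x ∈ W.S ↔ x * W.u = W.u * x ∧ x * W.F.z = W.F.z * x := by
  rw [S, Subgroup.mem_inf, Subgroup.mem_centralizer_singleton_iff,
    Subgroup.mem_centralizer_singleton_iff]

theorem mem_S0 {x : G} : x ∈ W.S0 ↔ x * W.u = W.u * x ∧ x ∈ W.F.D := by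
  rw [S0, Subgroup.mem_inf, Subgroup.mem_centralizer_singleton_iff]

theorem S0_le : W.S0 ≤ W.S := fun _ hx =>
  W.mem_S.2 ⟨(W.mem_S0.1 hx).1, (W.F.mem_D.1 (W.mem_S0.1 hx).2).1⟩

theorem mem_S0_of {x : G} (hx : x ∈ W.S) (hv : x * W.F.v = W.F.v * x) : x ∈ W.S0 :=
  W.mem_S0.2 ⟨(W.mem_S.1 hx).1, W.F.mem_D.2 ⟨(W.mem_S.1 hx).2, hv⟩⟩

variable [Finite G]

theorem u_mem_D : W.u ∈ W.F.D := Fr.Is.mem_D W.F W.hu
theorem uz : W.u * W.F.z = W.F.z * W.u := (W.F.mem_D.1 W.u_mem_D).1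
theorem uv : W.u * W.F.v = W.F.v * W.u := (W.F.mem_D.1 W.u_mem_D).2
theorem u_sq : W.u * W.u = 1 := (W.F.typB_inv W.hu).1
theorem u_ne : W.u ≠ 1 := fun e => (W.F.typB_inv W.hu).2.1 (e ▸ one_mem _)
theorem u_not_conj : ¬ IsConj W.F.z W.u := W.F.typB_not_conj W.hu

theorem u_mem_S0 : W.u ∈ W.S0 := W.mem_S0.2 ⟨rfl, W.u_mem_D⟩

theorem pz_mem_S0 (i j : ZMod 2) : W.F.pz i j ∈ W.S0 :=
  W.mem_S0.2 ⟨(W.F.pz_comm W.u_mem_D i j).symm, W.F.pz_mem_D i j⟩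

theorem z_mem_S0 : W.F.z ∈ W.S0 := by
  have h := W.pz_mem_S0 1 0
  rwa [W.F.pz_z] at h

theorem mem_S0_iff {x : G} : x ∈ W.S0 ↔ ∃ α β, Ker α β ∧ W.F.Is x α β := by
  constructor
  · intro hx
    obtain ⟨hxu, hxD⟩ := W.mem_S0.1 hx
    have h := Fr.Is.conj W.F hxD W.hu
    rw [show x * W.u * x⁻¹ = W.u from mul_inv_eq_iff_eq_mul.mpr hxu] at h
    obtain ⟨e1, e2⟩ := Fr.Is.unique W.F h W.hu
    obtain ⟨α, β, hI⟩ := W.F.Is_of_phi hxD (W.F.phi_trivial hxD e1 e2)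
    have hc := Fr.Is.comm W.F hI W.hu
    rw [hxu] at hc
    exact ⟨α, β, W.F.pz_eq_one (mul_eq_left.mp hc.symm), hI⟩
  · rintro ⟨α, β, ⟨k1, k2⟩, hI⟩
    refine W.mem_S0.2 ⟨?_, Fr.Is.mem_D W.F hI⟩
    have hc := Fr.Is.comm W.F hI W.hu
    rwa [k1, k2, W.F.pz_zero, mul_one] at hc

theorem ap_u (t : V6) : ap (W.F.T.ρ W.u) t + t =
    cp t • io W0 + (cp t + bU (pu t) W0) • v0 := by
  rw [Fr.Is.ap W.F W.hu, qU_W0, mul_one, add_comm _ t, ← add_assoc, ← add_assoc,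
    ZModModule.add_self, zero_add]

theorem fix_v0 {x : G} (hx : x ∈ W.S) : ap (W.F.T.ρ x) v0 = v0 := by
  obtain ⟨hxu, hxz⟩ := W.mem_S.1 hx
  have e : ap (W.F.T.ρ W.u) (io A0) + io A0 = v0 := by
    rw [W.ap_u, cp_io, pu_io, bU_A0_W0, zero_smul, zero_add, zero_add, one_smul]
  have e2 : ap (W.F.T.ρ x) (ap (W.F.T.ρ W.u) (io A0)) =
      ap (W.F.T.ρ W.u) (ap (W.F.T.ρ x) (io A0)) := by
    rw [← ap_mul, ← W.F.T.ρ_mul x W.u hxz W.uz, hxu, W.F.T.ρ_mul W.u x W.uz hxz, ap_mul]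
  set t := ap (W.F.T.ρ x) (io A0)
  have e3 : ap (W.F.T.ρ x) v0 = cp t • io W0 + (cp t + bU (pu t) W0) • v0 := by
    rw [← W.ap_u, ← e2, ← map_add, e]
  have hq : qm (ap (W.F.T.ρ x) v0) = 0 := by rw [Q_ap, qm_v0]
  rcases z2 (cp t) with h | h
  · rw [h, zero_smul, zero_add, zero_add] at e3
    rcases z2 (bU (pu t) W0) with k | k <;> rw [k] at e3
    · rw [zero_smul] at e3
      exact absurd (ap_inj _ (e3.trans (map_zero _).symm)) v0_ne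
    · rwa [one_smul] at e3
  · exfalso
    rw [e3, h, one_smul, qm_eq, cp_add, cp_io, pu_add, pu_io, pu_smul, pu_v0, smul_zero,
      add_zero, qU_W0] at hq
    simp [cp, v0] at hq

theorem v_cases {x : G} (hx : x ∈ W.S) :
    x ∈ W.S0 ∨ x * W.F.v * x⁻¹ = W.F.pz 1 1 := by
  obtain ⟨-, hxz⟩ := W.mem_S.1 hx
  have hQ := W.F.T.data.norm x hxz _ W.F.hv
  have hc : W.F.T.c (x * W.F.v * x⁻¹) = W.F.T.c W.F.v := by
    rw [W.F.T.ρ_conj x hxz _ W.F.hv, show W.F.T.c W.F.v = v0 from W.F.cv, W.fix_v0 hx]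
  rcases W.F.T.c_eq W.F.hv hQ hc.symm with e | e
  · exact Or.inl (W.mem_S0_of hx (mul_inv_eq_iff_eq_mul.mp e))
  · exact Or.inr (by rw [e, W.F.pz_zv]; exact W.F.zv.symm)

theorem exists_s : ∃ s ∈ W.S, s * W.F.v * s⁻¹ = W.F.pz 1 1 := by
  obtain ⟨p, hp, hpc⟩ := W.F.T.c_surj p0
  have h := Fr.Is.shift W.F hp hpc W.hu
  obtain ⟨d, hd, hρ⟩ := W.F.exists_D qU_W0 qU_G0
  have h2 := Fr.Is.conj W.F hd h
  rw [W.F.phi_refl qU_W0 qU_G0 hρ, W.F.phi_refl qU_W0 qU_G0 hρ, sigma_pair.1, sigma_pair.2] at h2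
  obtain ⟨a, ha, haeq, haQ⟩ := Fr.Is.conj_std W.F h2 W.hu
  have hda : a * d ∈ W.F.D := mul_mem ha hd
  refine ⟨a * d * p, W.mem_S.2 ⟨?_, ?_⟩, ?_⟩
  · refine mul_inv_eq_iff_eq_mul.mp ?_
    refine Eq.trans ?_ haeq
    group
  · exact (Commute.mul_left (W.F.mem_D.1 hda).1 (W.F.T.Qz hp)).eq
  · calc a * d * p * W.F.v * (a * d * p)⁻¹ = a * d * (p * W.F.v * p⁻¹) * (a * d)⁻¹ := by group
      _ = W.F.pz 1 1 := by
        rw [W.F.conj_vz hp hpc, W.F.pz_comm hda, mul_inv_cancel_right]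

theorem z_conj {x : G} (hx : x ∈ W.S) : x * W.F.z * x⁻¹ = W.F.z :=
  mul_inv_eq_iff_eq_mul.mpr (W.mem_S.1 hx).2

theorem outer_conj {x : G} (hx : x ∈ W.S) (hx0 : x ∉ W.S0) {y : G} {α β : U4}
    (hy : W.F.Is y α β) : W.F.Is (x * y * x⁻¹) (sg (α + β)) (sg β) := by
  obtain ⟨hxu, hxz⟩ := W.mem_S.1 hx
  have hxv := (W.v_cases hx).resolve_left hx0
  obtain ⟨p, hp, hpc⟩ := W.F.T.c_surj p0
  have hd : x * p⁻¹ ∈ W.F.D := by
    refine W.F.mem_D.2 ⟨(Commute.mul_left hxz (Commute.inv_left (W.F.T.Qz hp))).eq, ?_⟩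
    refine mul_inv_eq_iff_eq_mul.mp ?_
    have e : p⁻¹ * W.F.v * p = W.F.pz 1 1 := by
      refine mul_left_cancel (a := p) (mul_right_cancel (b := p⁻¹) ?_)
      rw [W.F.pz_zv, show p * (p⁻¹ * W.F.v * p) * p⁻¹ = W.F.v by simp [mul_assoc],
        show p * (W.F.z * W.F.v) * p⁻¹ = (p * W.F.z * p⁻¹) * (p * W.F.v * p⁻¹) by group,
        W.F.conj_vz hp hpc, show p * W.F.z * p⁻¹ = W.F.z from mul_inv_eq_iff_eq_mul.mpr (W.F.T.Qz hp), ← W.F.pz_z, W.F.pz_mul,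
        show (1 : ZMod 2) + 1 = 0 by decide, zero_add, W.F.pz_v]
    calc x * p⁻¹ * W.F.v * (x * p⁻¹)⁻¹ = x * (p⁻¹ * W.F.v * p) * x⁻¹ := by group
      _ = (x * W.F.z * x⁻¹) * (x * W.F.v * x⁻¹) := by rw [e, W.F.pz_zv]; group
      _ = W.F.v := by
        rw [W.z_conj hx, hxv, ← W.F.pz_z, W.F.pz_mul, show (1 : ZMod 2) + 1 = 0 by decide,
          zero_add, W.F.pz_v]
  have hu := Fr.Is.conj W.F hd (Fr.Is.shift W.F hp hpc W.hu)
  rw [show x * p⁻¹ * (p * W.u * p⁻¹) * (x * p⁻¹)⁻¹ = W.u by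
    calc x * p⁻¹ * (p * W.u * p⁻¹) * (x * p⁻¹)⁻¹ = x * W.u * x⁻¹ := by group
      _ = W.u := mul_inv_eq_iff_eq_mul.mpr hxu] at hu
  obtain ⟨e1, e2⟩ := Fr.Is.unique W.F hu W.hu
  obtain ⟨d', hd', hρ⟩ := W.F.exists_D qU_W0 qU_G0
  have hs : ∀ γ, W.F.phi d' γ = sg γ := fun γ => W.F.phi_refl qU_W0 qU_G0 hρ γ
  have heq : ∀ γ, W.F.phi (x * p⁻¹) γ = sg γ := by
    intro γ
    rw [← hs]
    refine W.F.phi_eq hd hd' ?_ (e2.trans (by rw [hs, sg_std.2])) γ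
    have hA : A0 = (A0 + W0) + W0 := by rw [add_assoc, ZModModule.add_self, add_zero]
    conv_lhs => rw [hA, W.F.phi_add, e1, e2]
    conv_rhs => rw [hA, W.F.phi_add, hs, hs, sg_std.1, sg_std.2]
  have h := Fr.Is.conj W.F hd (Fr.Is.shift W.F hp hpc hy)
  rw [heq, heq] at h
  rwa [show x * p⁻¹ * (p * y * p⁻¹) * (x * p⁻¹)⁻¹ = x * y * x⁻¹ by group] at h

/-- Counting a set of elements given by parameters. -/
theorem card_of_par (P : U4 → U4 → Prop) [DecidableRel P] (H : Subgroup G)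
    (hH : ∀ x, x ∈ H ↔ ∃ α β, P α β ∧ W.F.Is x α β) :
    Nat.card H = 4 * (Finset.univ.filter fun p : U4 × U4 => P p.1 p.2).card := by
  choose r hr using fun p : U4 × U4 => W.F.exists_Is p.1 p.2
  let f : {p : U4 × U4 // P p.1 p.2} × (ZMod 2 × ZMod 2) → H := fun q =>
    ⟨r q.1.1 * W.F.pz q.2.1 q.2.2, (hH _).2 ⟨_, _, q.1.2, Fr.Is.mul_pz W.F (hr _) _ _⟩⟩
  have hf : Function.Bijective f := by
    constructor
    · rintro ⟨⟨p, hp⟩, i, j⟩ ⟨⟨p', hp'⟩, i', j'⟩ he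
      have he' : r p * W.F.pz i j = r p' * W.F.pz i' j' := congrArg Subtype.val he
      obtain ⟨e1, e2⟩ := Fr.Is.unique W.F (Fr.Is.mul_pz W.F (hr p) i j)
        (he' ▸ Fr.Is.mul_pz W.F (hr p') i' j')
      obtain rfl : p = p' := Prod.ext e1 e2
      obtain ⟨rfl, rfl⟩ := W.F.pz_inj (mul_left_cancel he')
      rfl
    · rintro ⟨x, hx⟩
      obtain ⟨α, β, hP, hI⟩ := (hH x).1 hx
      obtain ⟨i, j, rfl⟩ := Fr.Is.eq_mul_pz W.F (hr (α, β)) hI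
      exact ⟨⟨⟨(α, β), hP⟩, i, j⟩, rfl⟩
  rw [← Nat.card_congr (Equiv.ofBijective f hf), Nat.card_prod, Nat.card_prod, Nat.card_zmod,
    Nat.card_eq_fintype_card, Fintype.card_subtype]
  ring

theorem card_S0 : Nat.card W.S0 = 256 := by
  rw [W.card_of_par Ker W.S0 fun x => W.mem_S0_iff, ker_card]

theorem s_not_mem {s : G} (hs : s * W.F.v * s⁻¹ = W.F.pz 1 1) : s ∉ W.S0 := fun h => by
  have e : s * W.F.v * s⁻¹ = W.F.v :=
    mul_inv_eq_iff_eq_mul.mpr (W.F.mem_D.1 (W.mem_S0.1 h).2).2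
  rw [hs, ← W.F.pz_v] at e
  exact one_ne_zero (W.F.pz_inj e).1

theorem outer_div {s x : G} (hs : s ∈ W.S) (hs0 : s ∉ W.S0) (hx : x ∈ W.S) (hx0 : x ∉ W.S0) :
    s⁻¹ * x ∈ W.S0 := by
  refine W.mem_S0_of (mul_mem (inv_mem hs) hx) (mul_inv_eq_iff_eq_mul.mp ?_)
  calc s⁻¹ * x * W.F.v * (s⁻¹ * x)⁻¹ = s⁻¹ * (x * W.F.v * x⁻¹) * s := by group
    _ = s⁻¹ * (s * W.F.v * s⁻¹) * s := by
      rw [(W.v_cases hx).resolve_left hx0, (W.v_cases hs).resolve_left hs0]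
    _ = W.F.v := by simp [mul_assoc]

theorem card_S : Nat.card W.S = 512 := by
  classical
  obtain ⟨s, hs, hsv⟩ := W.exists_s
  have hs0 := W.s_not_mem hsv
  let f : Bool × W.S0 → W.S := fun q =>
    ⟨(if q.1 then s else 1) * q.2.1, mul_mem (by split <;> [exact hs; exact one_mem _]) (W.S0_le q.2.2)⟩
  have hf : Function.Bijective f := by
    constructor
    · rintro ⟨a, x, hx⟩ ⟨b, y, hy⟩ he
      have he' : (if a then s else 1) * x = (if b then s else 1) * y := congrArg Subtype.val he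
      cases a <;> cases b <;> simp only [Bool.false_eq_true, if_false, if_true, one_mul] at he'
      · subst he'; rfl
      · exact absurd (by rw [show s = x * y⁻¹ by rw [he', mul_inv_cancel_right]]
                         exact mul_mem hx (inv_mem hy)) hs0
      · exact absurd (by rw [show s = y * x⁻¹ by rw [← he', mul_inv_cancel_right]]
                         exact mul_mem hy (inv_mem hx)) hs0
      · obtain rfl := mul_left_cancel he'; rfl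
    · rintro ⟨x, hx⟩
      by_cases hx0 : x ∈ W.S0
      · exact ⟨(false, ⟨x, hx0⟩), Subtype.ext (one_mul x)⟩
      · exact ⟨(true, ⟨s⁻¹ * x, W.outer_div hs hs0 hx hx0⟩), Subtype.ext (mul_inv_cancel_left s x)⟩
  rw [← Nat.card_congr (Equiv.ofBijective f hf), Nat.card_prod, W.card_S0,
    Nat.card_eq_fintype_card, Fintype.card_bool]

/-- The centre of `S0`. -/
def Et : Subgroup G where
  carrier := {x | ∃ α β, EtP α β ∧ W.F.Is x α β}
  one_mem' := ⟨0, 0, Or.inl ⟨rfl, rfl⟩, W.F.Is_one⟩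
  mul_mem' := by
    rintro _ _ ⟨α, β, hp, hI⟩ ⟨α', β', hp', hI'⟩
    exact ⟨_, _, etp_add α β hp α' β' hp', Fr.Is.mul W.F hI hI'⟩
  inv_mem' := by
    rintro _ ⟨α, β, hp, hI⟩
    exact ⟨α, β, hp, Fr.Is.inv W.F hI⟩

theorem mem_Et {x : G} : x ∈ W.Et ↔ ∃ α β, EtP α β ∧ W.F.Is x α β := Iff.rfl

theorem card_Et : Nat.card W.Et = 16 := by
  rw [W.card_of_par EtP W.Et fun x => W.mem_Et, etp_card]

theorem Et_le : W.Et ≤ W.S0 := by
  rintro x ⟨α, β, hp, hI⟩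
  exact W.mem_S0_iff.2 ⟨α, β, etp_ker α β hp, hI⟩

theorem u_mem_Et : W.u ∈ W.Et := ⟨_, _, etp_rot.2.2, W.hu⟩

theorem V_le_Et : W.V ≤ W.Et := by
  rintro _ ⟨i, j, rfl⟩
  exact ⟨0, 0, Or.inl ⟨rfl, rfl⟩, W.F.Is_pz i j⟩

theorem z_mem_Et : W.F.z ∈ W.Et := W.V_le_Et ⟨1, 0, W.F.pz_z.symm⟩

theorem Et_comm {x y : G} (hx : x ∈ W.Et) (hy : y ∈ W.S0) : x * y = y * x := by
  obtain ⟨α, β, hp, hI⟩ := hx
  obtain ⟨α', β', hk, hI'⟩ := W.mem_S0_iff.1 hy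
  obtain ⟨k1, k2⟩ := etp_central α β hp α' β' hk
  have h := Fr.Is.comm W.F hI hI'
  rwa [k1, k2, W.F.pz_zero, mul_one] at h

theorem Et_of_central {x : G} (hx : x ∈ W.S0) (hc : ∀ y ∈ W.S0, x * y = y * x) : x ∈ W.Et := by
  obtain ⟨α, β, hk, hI⟩ := W.mem_S0_iff.1 hx
  have test : ∀ α' β', Ker α' β' → K1 α β α' β' = 0 ∧ K2 α β α' β' = 0 := by
    intro α' β' hk'
    obtain ⟨y, hy⟩ := W.F.exists_Is α' β'
    have h := Fr.Is.comm W.F hI hy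
    rw [hc y (W.mem_S0_iff.2 ⟨α', β', hk', hy⟩)] at h
    exact W.F.pz_eq_one (mul_eq_left.mp h.symm)
  obtain ⟨g1, g2, g3, g4⟩ := ker_gens
  exact ⟨α, β, central_etp α β hk (test _ _ g1) (test _ _ g2) (test _ _ g3) (test _ _ g4), hI⟩

theorem Et_sq {x : G} (hx : x ∈ W.Et) : x * x = 1 := by
  obtain ⟨α, β, hp, hI⟩ := hx
  obtain ⟨k1, k2⟩ := etp_sq α β hp
  rw [Fr.Is.sq W.F hI, k1, k2, W.F.pz_zero]

theorem Et_not_conj {x : G} (hx : x ∈ W.Et) (hV : x ∉ W.V) : ¬ IsConj W.F.z x := by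
  obtain ⟨α, β, hp, hI⟩ := hx
  rcases etp_std α β hp with ⟨rfl, rfl⟩ | ⟨h1, h2, h3⟩
  · exact absurd (Fr.Is.eq_pz W.F hI) hV
  · exact Fr.Is.not_conj W.F hI h1 h2 h3

/-- An outer involution of `Q ∪ C(z)` fixing a point centralises its lifts. -/
theorem comm_lift {x q : G} (hxz : x * W.F.z = W.F.z * x) (hx2 : x * x = 1) (hxQ : x ∉ W.F.Q)
    (hx : IsConj W.F.z x) (hq : q ∈ W.F.Q) (hfix : ap (W.F.T.ρ x) (W.F.T.c q) = W.F.T.c q)
    (hs : qm (W.F.T.c q) = 0) : x * q = q * x := by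
  obtain ⟨g, hg, hP | hB⟩ := W.F.classify hxz hx2 hxQ
  · set y := g * x * g⁻¹
    have hyz : y * W.F.z = W.F.z * y := ((Commute.mul_left hg hxz).mul_left (Commute.inv_left hg)).eq
    have hy : y ∈ A W.F.P W.F.z := mem_A.mpr ⟨hP, hyz⟩
    have hy2 : y * y = 1 := by
      calc y * y = g * (x * x) * g⁻¹ := by simp only [show y = g * x * g⁻¹ from rfl]; group
        _ = 1 := by rw [hx2]; group
    set r := g * q * g⁻¹
    have hr : r ∈ W.F.Q := W.F.T.data.norm g hg q hq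
    have hrc : W.F.T.c r = ap (W.F.T.ρ g) (W.F.T.c q) := W.F.T.ρ_conj g hg q hq
    have hrs : qm (W.F.T.c r) = 0 := by rw [hrc, Q_ap, hs]
    have hgx : y * g = g * x := by simp only [show y = g * x * g⁻¹ from rfl]; group
    have hfix' : ap (W.F.T.ρ y) (W.F.T.c r) = W.F.T.c r := by
      rw [hrc, ← ap_mul, ← W.F.T.ρ_mul y g hyz hg, hgx, W.F.T.ρ_mul g x hg hxz, ap_mul, hfix]
    set β := W.F.θ y with hβ
    set t := W.F.T.c r with ht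
    rw [W.F.ap_B hy, ← hβ] at hfix'
    have hqβ : qU β = 0 := by
      have h := W.F.sq_B hy
      rw [hy2] at h
      exact pw_inj W.F.v_ne (h.symm.trans (pw_zero _).symm)
    have hβ0 : β ≠ 0 := fun e => hxQ ((W.F.T.data.norm_iff g hg x).1 (W.F.θ_ker hy e).1)
    have hcp : cp t = 0 := by
      rcases z2 (cp t) with h | h
      · exact h
      · refine absurd ?_ hβ0
        have := congrArg pu hfix'
        rw [h, one_smul, pu_add, pu_add, pu_io, pu_smul, pu_v0, smul_zero, add_zero] at this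
        exact add_eq_left.mp this
    rw [hcp, zero_smul, add_zero, zero_mul, zero_add] at hfix'
    have hb : bU (pu t) β = 0 := by
      have := congrArg SuzType.cv hfix'
      rw [cv_add] at this
      simpa [SuzType.cv, v0] using this
    rw [qm_eq, hcp, mul_zero, zero_add] at hrs
    have hrA : r ∈ A W.F.Q W.F.v := W.F.mem_A_iff.2 ⟨hr, hcp⟩
    have hc := W.F.comm_ba hrA hy
    have hb' : bU (W.F.κ r) (W.F.θ y) = 0 := hb
    rw [hb', pw_zero, pw_zero, one_mul, commutatorElement_eq_one_iff_mul_comm] at hc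
    calc x * q = g⁻¹ * (y * r) * g := by
          simp only [show y = g * x * g⁻¹ from rfl, show r = g * q * g⁻¹ from rfl]; group
      _ = q * x := by
          rw [hc]; simp only [show y = g * x * g⁻¹ from rfl, show r = g * q * g⁻¹ from rfl]; group
  · exact absurd (hx.trans (isConj_iff.2 ⟨g, rfl⟩)) (W.F.typB_not_conj hB)

theorem zty_iff {x : G} (hx : x ∈ W.S) :
    IsConj W.F.z x ↔ x ≠ 1 ∧ ∃ α β, ZP α β ∧ W.F.Is x α β := by
  constructor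
  · intro hc
    have hx1 : x ≠ 1 := by
      rintro rfl
      exact W.F.z_ne (isConj_one_left.mp hc)
    have hx2 : x * x = 1 := by
      obtain ⟨g, rfl⟩ := isConj_iff.1 hc
      calc g * W.F.z * g⁻¹ * (g * W.F.z * g⁻¹) = g * (W.F.z * W.F.z) * g⁻¹ := by group
        _ = 1 := by rw [W.F.z_sq]; group
    obtain ⟨hxu, hxz⟩ := W.mem_S.1 hx
    refine ⟨hx1, ?_⟩
    have hxS0 : x ∈ W.S0 := by
      refine W.mem_S0_of hx ?_
      by_cases hQ : x ∈ W.F.Q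
      · have hf : ap (W.F.T.ρ W.u) (W.F.T.c x) = W.F.T.c x := by
          rw [← W.F.T.ρ_conj W.u W.uz x hQ, ← hxu, mul_inv_cancel_right]
        have h := W.ap_u (W.F.T.c x)
        rw [hf, ZModModule.add_self] at h
        have h' := congrArg pu h
        rw [pu_add, pu_smul, pu_smul, pu_io, pu_v0, smul_zero, add_zero] at h'
        have hcp : cp (W.F.T.c x) = 0 := by
          rcases z2 (cp (W.F.T.c x)) with k | k
          · exact k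
          · rw [k, one_smul] at h'
            exact absurd (h'.symm.trans (by simp [pu])) W0_ne
        exact (mem_A.mp (W.F.mem_A_iff.2 ⟨hQ, hcp⟩)).2
      · exact W.comm_lift hxz hx2 hQ hc W.F.hv
          (by rw [show W.F.T.c W.F.v = v0 from W.F.cv, W.fix_v0 hx])
          (by rw [show W.F.T.c W.F.v = v0 from W.F.cv, qm_v0])
    obtain ⟨α, β, hk, hI⟩ := W.mem_S0_iff.1 hxS0
    rcases W.F.inv_cases hI hx2 hx1 with ⟨-, -, -, h⟩ | ⟨h, -⟩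
    · exact absurd hc h
    · exact ⟨α, β, sing_ker α β h hk, hI⟩
  · rintro ⟨hx1, α, β, hp, hI⟩
    obtain ⟨⟨h1, h2, h3, h4⟩, -⟩ := zp_ker α β hp
    have hx2 : x * x = 1 := by rw [Fr.Is.sq W.F hI, h1, h2, h3, add_zero, W.F.pz_zero]
    rcases W.F.inv_cases hI hx2 hx1 with ⟨k1, -, -, -⟩ | ⟨-, h⟩
    · rw [h1] at k1; exact absurd k1 zero_ne_one
    · exact h

/-- A three-cycle on `V` centralising `u`. -/
def Cyc (n : G) : Prop :=
  n * W.u = W.u * n ∧ n * W.F.z * n⁻¹ = W.F.v ∧ n * W.F.v * n⁻¹ = W.F.pz 1 1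

theorem exists_cyc : ∃ n, W.Cyc n := by
  obtain ⟨g, g1, g2⟩ := W.F.swap
  obtain ⟨hA, hB⟩ := W.F.swap_maps g1 g2
  obtain ⟨p, hp, hpc⟩ := W.F.T.c_surj p0
  obtain ⟨a, ha, b, hb, hab, -, -⟩ := Fr.Is.shift W.F hp hpc W.hu
  have h1 : W.F.Is (g * a * g⁻¹) 0 (W.F.θ (g * a * g⁻¹)) :=
    ⟨1, one_mem _, _, hA a ha, (one_mul _).symm, by
      rw [← W.F.pz_zero]; exact W.F.κ_four 0 0, rfl⟩
  have h2 : W.F.Is (g * b * g⁻¹) (W.F.κ (g * b * g⁻¹)) 0 := W.F.Is_A (hB b hb)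
  have h3 := Fr.Is.mul W.F h1 h2
  rw [zero_add, add_zero, show g * a * g⁻¹ * (g * b * g⁻¹) = g * p * W.u * (g * p)⁻¹ by
    calc g * a * g⁻¹ * (g * b * g⁻¹) = g * (a * b) * g⁻¹ := by group
      _ = _ := by rw [← hab]; group] at h3
  set x := g * p * W.u * (g * p)⁻¹
  have hx2 : x * x = 1 := by
    calc x * x = g * p * (W.u * W.u) * (g * p)⁻¹ := by
          simp only [show x = g * p * W.u * (g * p)⁻¹ from rfl]; group
      _ = 1 := by rw [W.u_sq]; group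
  rcases W.F.inv_cases h3 hx2 (fun e => W.u_ne (conj_eq_one_iff.mp e)) with
    ⟨k1, k2, k3, -⟩ | ⟨-, h⟩
  · obtain ⟨d, hd, e1, e2⟩ := W.F.exists_pair k1 k2 k3
    have h4 := Fr.Is.conj W.F hd h3
    rw [e1, e2] at h4
    obtain ⟨s, hs, hse, -⟩ := Fr.Is.conj_std W.F h4 W.hu
    have hsd : s * d ∈ W.F.D := mul_mem hs hd
    obtain ⟨hsz, hsv⟩ := W.F.mem_D.1 hsd
    refine ⟨s * d * (g * p), mul_inv_eq_iff_eq_mul.mp (Eq.trans (by simp only [show x = g * p * W.u * (g * p)⁻¹ from rfl]; group) hse), ?_, ?_⟩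
    · calc s * d * (g * p) * W.F.z * (s * d * (g * p))⁻¹
          = s * d * (g * (p * W.F.z * p⁻¹) * g⁻¹) * (s * d)⁻¹ := by group
        _ = W.F.v := by
          rw [mul_inv_eq_iff_eq_mul.mpr (W.F.T.Qz hp), g1]
          exact mul_inv_eq_iff_eq_mul.mpr hsv
    · calc s * d * (g * p) * W.F.v * (s * d * (g * p))⁻¹
          = s * d * (g * (p * W.F.v * p⁻¹) * g⁻¹) * (s * d)⁻¹ := by group
        _ = s * d * ((g * W.F.z * g⁻¹) * (g * W.F.v * g⁻¹)) * (s * d)⁻¹ := by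
          rw [W.F.conj_vz hp hpc, W.F.pz_zv]; group
        _ = W.F.pz 1 1 := by
          rw [g1, g2, W.F.pz_zv, ← W.F.zv, ← W.F.pz_zv, W.F.pz_comm hsd, mul_inv_cancel_right]
  · exact absurd (h.trans (isConj_iff.2 ⟨(g * p)⁻¹, by simp only [show x = g * p * W.u * (g * p)⁻¹ from rfl]; group⟩)) W.u_not_conj

/-- Elements of `C(u)` normalising `V`. -/
def NV (g : G) : Prop := g * W.u = W.u * g ∧ ∀ x ∈ W.V, g * x * g⁻¹ ∈ W.V

theorem Cyc.pz {n : G} (h : W.Cyc n) (i j : ZMod 2) :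
    n * W.F.pz i j * n⁻¹ = W.F.pz j (i + j) := by
  obtain ⟨-, h1, h2⟩ := h
  rcases z2 i with rfl | rfl <;> rcases z2 j with rfl | rfl
  · simp [W.F.pz_zero]
  · rw [W.F.pz_v, zero_add, h2]
  · rw [W.F.pz_z, h1, add_zero, W.F.pz_v]
  · rw [W.F.pz_zv, show n * (W.F.z * W.F.v) * n⁻¹ = (n * W.F.z * n⁻¹) * (n * W.F.v * n⁻¹) by group,
      h1, h2, ← W.F.pz_v, W.F.pz_mul, show (1 : ZMod 2) + 1 = 0 by decide, zero_add]

theorem Cyc.nv {n : G} (h : W.Cyc n) : W.NV n :=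
  ⟨h.1, by rintro _ ⟨i, j, rfl⟩; exact ⟨_, _, Cyc.pz W h i j⟩⟩

theorem nv_S {x : G} (hx : x ∈ W.S) : W.NV x := by
  refine ⟨(W.mem_S.1 hx).1, ?_⟩
  rintro _ ⟨i, j, rfl⟩
  rcases W.v_cases hx with h | h
  · exact ⟨i, j, mul_inv_eq_iff_eq_mul.mpr (W.F.pz_comm (W.mem_S0.1 h).2 i j)⟩
  · refine ⟨i + j, j, ?_⟩
    rcases z2 i with rfl | rfl <;> rcases z2 j with rfl | rfl
    · simp [W.F.pz_zero]
    · rw [W.F.pz_v, h, zero_add]
    · rw [W.F.pz_z, W.z_conj hx, add_zero, W.F.pz_z]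
    · rw [W.F.pz_zv, show x * (W.F.z * W.F.v) * x⁻¹ = (x * W.F.z * x⁻¹) * (x * W.F.v * x⁻¹) by group,
        W.z_conj hx, h, ← W.F.pz_z, W.F.pz_mul, show (1 : ZMod 2) + 1 = 0 by decide, zero_add]

theorem NV.surj {g : G} (hg : W.NV g) {x : G} (hx : x ∈ W.V) :
    ∃ y ∈ W.V, g * y * g⁻¹ = x := by
  have hle : W.V.map (MulAut.conj g).toMonoidHom ≤ W.V := by
    rintro _ ⟨y, hy, rfl⟩; exact hg.2 y hy
  have he := Subgroup.eq_of_le_of_card_ge hle (le_of_eq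
    (Subgroup.card_map_of_injective (MulAut.conj g).injective).symm)
  rw [← he] at hx
  obtain ⟨y, hy, e⟩ := hx
  exact ⟨y, hy, e⟩

theorem NV.inv {g : G} (hg : W.NV g) : W.NV g⁻¹ := by
  refine ⟨(Commute.inv_left hg.1).eq, fun x hx => ?_⟩
  obtain ⟨y, hy, rfl⟩ := NV.surj W hg hx
  rw [show g⁻¹ * (g * y * g⁻¹) * g⁻¹⁻¹ = y by group]
  exact hy

theorem mem_D_iff_V {x : G} : x ∈ W.F.D ↔ ∀ y ∈ W.V, x * y = y * x := by
  constructor
  · rintro hx _ ⟨i, j, rfl⟩; exact W.F.pz_comm hx i j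
  · intro h
    exact W.F.mem_D.2 ⟨h _ ⟨1, 0, W.F.pz_z.symm⟩, h _ ⟨0, 1, W.F.pz_v.symm⟩⟩

theorem NV.S0 {g x : G} (hg : W.NV g) (hx : x ∈ W.S0) : g * x * g⁻¹ ∈ W.S0 := by
  obtain ⟨hxu, hxD⟩ := W.mem_S0.1 hx
  refine W.mem_S0.2 ⟨((Commute.mul_left hg.1 hxu).mul_left (Commute.inv_left hg.1)).eq,
    W.mem_D_iff_V.2 fun y hy => ?_⟩
  obtain ⟨w, hw, rfl⟩ := NV.surj W hg hy
  calc g * x * g⁻¹ * (g * w * g⁻¹) = g * (x * w) * g⁻¹ := by group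
    _ = g * (w * x) * g⁻¹ := by rw [(W.mem_D_iff_V.1 hxD) w hw]
    _ = _ := by group

theorem NV.Et {g x : G} (hg : W.NV g) (hx : x ∈ W.Et) : g * x * g⁻¹ ∈ W.Et := by
  refine W.Et_of_central (NV.S0 W hg (W.Et_le hx)) fun y hy => ?_
  have hy' := NV.S0 W (NV.inv W hg) hy
  rw [inv_inv] at hy'
  calc g * x * g⁻¹ * y = g * (x * (g⁻¹ * y * g)) * g⁻¹ := by group
    _ = g * (g⁻¹ * y * g * x) * g⁻¹ := by rw [W.Et_comm hx hy']
    _ = _ := by group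

theorem conj_eq_of_div {m n x : G} (h : m⁻¹ * n ∈ W.S0) (hx : x ∈ W.Et) :
    n * x * n⁻¹ = m * x * m⁻¹ := by
  calc n * x * n⁻¹ = m * ((m⁻¹ * n) * x * (m⁻¹ * n)⁻¹) * m⁻¹ := by group
    _ = _ := by rw [← W.Et_comm hx h, mul_inv_cancel_right]

theorem cube_mem {n : G} (h : W.Cyc n) : n * n * n ∈ W.S0 := by
  refine W.mem_S0.2 ⟨((Commute.mul_left h.1 h.1).mul_left h.1).eq, W.mem_D_iff_V.2 ?_⟩
  rintro _ ⟨i, j, rfl⟩
  refine mul_inv_eq_iff_eq_mul.mp ?_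
  calc n * n * n * W.F.pz i j * (n * n * n)⁻¹
      = n * (n * (n * W.F.pz i j * n⁻¹) * n⁻¹) * n⁻¹ := by group
    _ = W.F.pz i j := by
      rw [Cyc.pz W h, Cyc.pz W h, Cyc.pz W h]
      congr 1 <;> revert i j <;> decide

theorem cyc_coset {n x : G} {α β : U4} (h : W.Cyc n) (hx : x ∈ W.Et) (hI : W.F.Is x α β) :
    W.F.Is (n * x * n⁻¹) α β := by
  have hnv := Cyc.nv W h
  have hfix : n * W.u * n⁻¹ = W.u := mul_inv_eq_iff_eq_mul.mpr h.1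
  have hc3 : ∀ y ∈ W.Et, n * (n * (n * y * n⁻¹) * n⁻¹) * n⁻¹ = y := by
    intro y hy
    calc n * (n * (n * y * n⁻¹) * n⁻¹) * n⁻¹ = (n * n * n) * y * (n * n * n)⁻¹ := by group
      _ = y := by rw [← W.Et_comm hy (W.cube_mem h), mul_inv_cancel_right]
  have main : ∀ y α' β', y ∈ W.Et → W.F.Is y α' β' → (α' = W0 ∧ β' = A0 + W0) →
      W.F.Is (n * y * n⁻¹) α' β' := by
    rintro y α' β' hy hI ⟨rfl, rfl⟩
    have hy' := NV.Et W hnv hy
    obtain ⟨α2, β2, hp, hI2⟩ := hy'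
    rcases hp with ⟨rfl, rfl⟩ | ⟨rfl, rfl⟩ | ⟨rfl, rfl⟩ | ⟨rfl, rfl⟩
    · exfalso
      have hm := (NV.inv W hnv).2 _ (Fr.Is.eq_pz W.F hI2)
      rw [show n⁻¹ * (n * y * n⁻¹) * n⁻¹⁻¹ = y by group] at hm
      obtain ⟨i, j, rfl⟩ := hm
      exact W0_ne (Fr.Is.unique W.F hI (W.F.Is_pz i j)).1
    · exfalso
      have h0 : W.F.Is (n * (y * W.u) * n⁻¹) 0 0 := by
        have := Fr.Is.mul W.F hI2 W.hu
        rw [ZModModule.add_self, ZModModule.add_self] at this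
        convert this using 1
        calc n * (y * W.u) * n⁻¹ = n * y * n⁻¹ * (n * W.u * n⁻¹) := by group
          _ = _ := by rw [hfix]
      have hm := (NV.inv W hnv).2 _ (Fr.Is.eq_pz W.F h0)
      rw [show n⁻¹ * (n * (y * W.u) * n⁻¹) * n⁻¹⁻¹ = y * W.u by group] at hm
      obtain ⟨i, j, e⟩ := hm
      have h1 := Fr.Is.mul W.F hI W.hu
      rw [e] at h1
      have h2 := (Fr.Is.unique W.F h1 (W.F.Is_pz i j)).1
      revert h2; decide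
    · exact hI2
    · exfalso
      have q1 : A0 + W0 + A0 = W0 := by decide
      have q2 : A0 + W0 + W0 = A0 := by decide
      have q3 : W0 + A0 = A0 + W0 := add_comm _ _
      have hyu := Fr.Is.mul W.F hI W.hu
      rw [q2, q3] at hyu
      obtain ⟨i, j, e3⟩ := Fr.Is.eq_mul_pz W.F hyu hI2
      have e4 : n * (n * y * n⁻¹) * n⁻¹ = n * y * n⁻¹ * W.u * W.F.pz j (i + j) := by
        conv_lhs => rw [e3]
        rw [← Cyc.pz W h]
        conv_rhs => rw [← hfix]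
        group
      have h5 := Fr.Is.mul_pz W.F (Fr.Is.mul W.F hI2 W.hu) j (i + j)
      rw [← e4, q1] at h5
      obtain ⟨i', j', e6⟩ := Fr.Is.eq_mul_pz W.F hI h5
      have e8 := hc3 y hy
      rw [e6, show n * (y * W.F.pz i' j') * n⁻¹ = n * y * n⁻¹ * (n * W.F.pz i' j' * n⁻¹) by group,
        Cyc.pz W h] at e8
      have h9 := Fr.Is.mul_pz W.F hI2 j' (i' + j')
      rw [e8] at h9
      have h10 := (Fr.Is.unique W.F hI h9).2
      revert h10; decide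
  obtain ⟨α', β', hp, hI'⟩ := hx
  obtain ⟨rfl, rfl⟩ := Fr.Is.unique W.F hI hI'
  rcases hp with ⟨rfl, rfl⟩ | ⟨rfl, rfl⟩ | hp | ⟨rfl, rfl⟩
  · obtain ⟨i, j, rfl⟩ := Fr.Is.eq_pz W.F hI
    rw [Cyc.pz W h]; exact W.F.Is_pz _ _
  · obtain ⟨i, j, rfl⟩ := Fr.Is.eq_mul_pz W.F W.hu hI
    rw [show n * (W.u * W.F.pz i j) * n⁻¹ = n * W.u * n⁻¹ * (n * W.F.pz i j * n⁻¹) by group,
      hfix, Cyc.pz W h]
    exact Fr.Is.mul_pz W.F W.hu _ _
  · exact main x α β ⟨α, β, Or.inr (Or.inr (Or.inl hp)), hI⟩ hI hp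
  · have hxu := Fr.Is.mul W.F hI W.hu
    have e1 : A0 + W0 + A0 = W0 := by rw [add_comm A0 W0, add_assoc, ZModModule.add_self, add_zero]
    have hm := main (x * W.u) _ _ (mul_mem ⟨_, _, Or.inr (Or.inr (Or.inr ⟨rfl, rfl⟩)), hI⟩ W.u_mem_Et)
      hxu ⟨e1, rfl⟩
    have h2 := Fr.Is.mul W.F hm W.hu
    rw [show n * (x * W.u) * n⁻¹ * W.u = n * x * n⁻¹ by
      calc n * (x * W.u) * n⁻¹ * W.u = n * x * n⁻¹ * ((n * W.u * n⁻¹) * W.u) := by group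
        _ = _ := by rw [hfix, W.u_sq, mul_one]] at h2
    rwa [add_assoc, ZModModule.add_self, add_zero, add_assoc, ZModModule.add_self, add_zero] at h2

/-- A chosen three-cycle. -/
noncomputable def n0 : G := W.exists_cyc.choose

theorem n0_cyc : W.Cyc W.n0 := W.exists_cyc.choose_spec

/-- The fixed points on `Et` of the three-cycles. -/
noncomputable def E : Subgroup G := W.Et ⊓ Subgroup.centralizer ({W.n0} : Set G)

theorem mem_E' {x : G} : x ∈ W.E ↔ x ∈ W.Et ∧ W.n0 * x * W.n0⁻¹ = x := by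
  rw [E, Subgroup.mem_inf, Subgroup.mem_centralizer_singleton_iff, mul_inv_eq_iff_eq_mul]
  exact and_congr_right fun _ => eq_comm

theorem cyc_div {m n : G} (hm : W.Cyc m) (hn : W.Cyc n) : m⁻¹ * n ∈ W.S0 := by
  refine W.mem_S0.2 ⟨(Commute.mul_left (Commute.inv_left hm.1) hn.1).eq, W.mem_D_iff_V.2 ?_⟩
  rintro _ ⟨i, j, rfl⟩
  refine mul_inv_eq_iff_eq_mul.mp ?_
  calc m⁻¹ * n * W.F.pz i j * (m⁻¹ * n)⁻¹ = m⁻¹ * (n * W.F.pz i j * n⁻¹) * m := by group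
    _ = m⁻¹ * (m * W.F.pz i j * m⁻¹) * m := by rw [Cyc.pz W hn, Cyc.pz W hm]
    _ = _ := by group

theorem mem_E {n x : G} (hn : W.Cyc n) : x ∈ W.E ↔ x ∈ W.Et ∧ n * x * n⁻¹ = x := by
  rw [W.mem_E']
  exact and_congr_right fun hx => by rw [W.conj_eq_of_div (W.cyc_div W.n0_cyc hn) hx]

theorem E_le : W.E ≤ W.Et := inf_le_left

theorem u_mem_E : W.u ∈ W.E :=
  W.mem_E'.2 ⟨W.u_mem_Et, mul_inv_eq_iff_eq_mul.mpr W.n0_cyc.1⟩

theorem E_inter_V {x : G} (hx : x ∈ W.E) (hV : x ∈ W.V) : x = 1 := by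
  obtain ⟨i, j, rfl⟩ := hV
  have h := (W.mem_E'.1 hx).2
  rw [Cyc.pz W W.n0_cyc] at h
  obtain ⟨e1, e2⟩ := W.F.pz_inj h
  have k : ∀ a b : ZMod 2, b = a → a + b = b → a = 0 ∧ b = 0 := by decide
  obtain ⟨rfl, rfl⟩ := k i j e1 e2
  exact W.F.pz_zero

theorem E_unique {x y : G} {α β : U4} (hx : x ∈ W.E) (hy : y ∈ W.E) (hxI : W.F.Is x α β)
    (hyI : W.F.Is y α β) : x = y := by
  obtain ⟨i, j, rfl⟩ := Fr.Is.eq_mul_pz W.F hxI hyI
  have h := W.E_inter_V (by simpa using mul_mem (inv_mem hx) hy) ⟨i, j, rfl⟩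
  rw [h, mul_one]

theorem exists_E {α β : U4} (hp : EtP α β) : ∃ x ∈ W.E, W.F.Is x α β := by
  obtain ⟨x, hI⟩ := W.F.exists_Is α β
  have hx : x ∈ W.Et := ⟨α, β, hp, hI⟩
  obtain ⟨i, j, hij⟩ := Fr.Is.eq_mul_pz W.F hI (W.cyc_coset W.n0_cyc hx hI)
  refine ⟨x * W.F.pz j (i + j), W.mem_E'.2 ⟨mul_mem hx (W.V_le_Et ⟨_, _, rfl⟩), ?_⟩,
    Fr.Is.mul_pz W.F hI _ _⟩
  calc W.n0 * (x * W.F.pz j (i + j)) * W.n0⁻¹
      = W.n0 * x * W.n0⁻¹ * (W.n0 * W.F.pz j (i + j) * W.n0⁻¹) := by group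
    _ = _ := by
      rw [Cyc.pz W W.n0_cyc, hij, mul_assoc, W.F.pz_mul]
      congr 2 <;> clear hij hI hx <;> revert i j <;> decide

theorem card_E : Nat.card W.E = 4 := by
  classical
  choose f hf hfI using fun p : {p : U4 × U4 // EtP p.1 p.2} => W.exists_E p.2
  let g : {p : U4 × U4 // EtP p.1 p.2} → W.E := fun p => ⟨f p, hf p⟩
  have hg : Function.Bijective g := by
    constructor
    · intro p q he
      have he' : f p = f q := congrArg Subtype.val he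
      obtain ⟨e1, e2⟩ := Fr.Is.unique W.F (hfI p) (he' ▸ hfI q)
      exact Subtype.ext (Prod.ext e1 e2)
    · rintro ⟨x, hx⟩
      obtain ⟨α, β, hp, hI⟩ := W.E_le hx
      exact ⟨⟨(α, β), hp⟩, Subtype.ext (W.E_unique (hf _) hx (hfI _) hI)⟩
  rw [← Nat.card_congr (Equiv.ofBijective g hg), Nat.card_eq_fintype_card, Fintype.card_subtype,
    etp_card]

/-- The element of `E` in the second class of parameters. -/
noncomputable def e1 : G := (W.exists_E etp_rot.1).choose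

theorem e1_mem : W.e1 ∈ W.E := (W.exists_E etp_rot.1).choose_spec.1
theorem e1_Is : W.F.Is W.e1 W0 (A0 + W0) := (W.exists_E etp_rot.1).choose_spec.2

theorem E_cases {x : G} (hx : x ∈ W.E) : x = 1 ∨ x = W.u ∨ x = W.e1 ∨ x = W.u * W.e1 := by
  obtain ⟨α, β, hp, hI⟩ := W.E_le hx
  rcases hp with ⟨rfl, rfl⟩ | ⟨rfl, rfl⟩ | ⟨rfl, rfl⟩ | ⟨rfl, rfl⟩
  · exact Or.inl (W.E_unique hx (one_mem _) hI W.F.Is_one)
  · exact Or.inr (Or.inl (W.E_unique hx W.u_mem_E hI W.hu))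
  · exact Or.inr (Or.inr (Or.inl (W.E_unique hx W.e1_mem hI W.e1_Is)))
  · refine Or.inr (Or.inr (Or.inr (W.E_unique hx (mul_mem W.u_mem_E W.e1_mem) hI ?_)))
    have h := Fr.Is.mul W.F W.hu W.e1_Is
    have e : W0 + (A0 + W0) = A0 := by rw [add_left_comm, ZModModule.add_self, add_zero]
    rwa [e] at h

theorem E_not_conj {x : G} (hx : x ∈ W.E) (h1 : x ≠ 1) : ¬ IsConj W.F.z x :=
  W.Et_not_conj (W.E_le hx) fun hV => h1 (W.E_inter_V hx hV)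

theorem E_NV {g x : G} (hg : W.NV g) (hx : x ∈ W.E) : g * x * g⁻¹ ∈ W.E := by
  obtain ⟨hxT, hxn⟩ := W.mem_E'.1 hx
  have hgT := NV.Et W hg hxT
  set m := g * W.n0 * g⁻¹ with hm
  have hmu : m * W.u = W.u * m :=
    ((Commute.mul_left hg.1 W.n0_cyc.1).mul_left (Commute.inv_left hg.1)).eq
  have hfree : ∀ w ∈ W.V, m * w * m⁻¹ = w → w = 1 := by
    intro w hw hfix
    obtain ⟨y, ⟨i, j, rfl⟩, rfl⟩ := NV.surj W hg hw
    rw [show m * (g * W.F.pz i j * g⁻¹) * m⁻¹ = g * (W.n0 * W.F.pz i j * W.n0⁻¹) * g⁻¹ by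
      rw [hm]; group, Cyc.pz W W.n0_cyc] at hfix
    obtain ⟨e1, e2⟩ := W.F.pz_inj (mul_left_cancel (mul_right_cancel hfix))
    have k : ∀ a b : ZMod 2, b = a → a + b = b → a = 0 ∧ b = 0 := by decide
    obtain ⟨rfl, rfl⟩ := k i j e1 e2
    rw [W.F.pz_zero]; group
  have hmV : ∀ w ∈ W.V, m * w * m⁻¹ ∈ W.V := by
    intro w hw
    rw [show m * w * m⁻¹ = g * (W.n0 * (g⁻¹ * w * g⁻¹⁻¹) * W.n0⁻¹) * g⁻¹ by rw [hm]; group]
    exact hg.2 _ ((Cyc.nv W W.n0_cyc).2 _ ((NV.inv W hg).2 w hw))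
  have hmfix : m * (g * x * g⁻¹) * m⁻¹ = g * x * g⁻¹ := by
    calc m * (g * x * g⁻¹) * m⁻¹ = g * (W.n0 * x * W.n0⁻¹) * g⁻¹ := by rw [hm]; group
      _ = _ := by rw [hxn]
  obtain ⟨a, b, hab⟩ := hmV _ ⟨1, 0, W.F.pz_z.symm⟩
  obtain ⟨c, d, hcd⟩ := hmV _ ⟨0, 1, W.F.pz_v.symm⟩
  have hz1 : ∀ (w : G) (_ : w ∈ W.V), w ≠ 1 → m * w * m⁻¹ ≠ w := fun w hw h h' => h (hfree w hw h')
  have hne1 : ∀ i j : ZMod 2, ¬ (i = 0 ∧ j = 0) → W.F.pz i j ≠ 1 := fun i j h e => h (W.F.pz_eq_one e)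
  have hlin : ∀ i j, m * W.F.pz i j * m⁻¹ = W.F.pz (i * a + j * c) (i * b + j * d) := by
    intro i j
    rcases z2 i with rfl | rfl <;> rcases z2 j with rfl | rfl
    · simp [W.F.pz_zero]
    · rw [W.F.pz_v, hcd]; simp
    · rw [W.F.pz_z, hab]; simp
    · rw [W.F.pz_zv, show m * (W.F.z * W.F.v) * m⁻¹ = (m * W.F.z * m⁻¹) * (m * W.F.v * m⁻¹) by group,
        hab, hcd, W.F.pz_mul]; simp
  have hmov : ∀ i j : ZMod 2, ¬ (i = 0 ∧ j = 0) → ¬ (i * a + j * c = i ∧ i * b + j * d = j) := by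
    rintro i j h ⟨e1, e2⟩
    refine hz1 _ ⟨i, j, rfl⟩ (hne1 i j h) ?_
    rw [hlin, e1, e2]
  have hnz : ∀ i j : ZMod 2, ¬ (i = 0 ∧ j = 0) → ¬ (i * a + j * c = 0 ∧ i * b + j * d = 0) := by
    rintro i j h ⟨e1, e2⟩
    refine hne1 i j h ?_
    have := hlin i j
    rw [e1, e2, W.F.pz_zero] at this
    exact conj_eq_one_iff.mp this
  have key : ∀ a b c d : ZMod 2,
      (∀ i j : ZMod 2, ¬ (i = 0 ∧ j = 0) → ¬ (i * a + j * c = i ∧ i * b + j * d = j)) →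
      (∀ i j : ZMod 2, ¬ (i = 0 ∧ j = 0) → ¬ (i * a + j * c = 0 ∧ i * b + j * d = 0)) →
      (a = 0 ∧ b = 1 ∧ c = 1 ∧ d = 1) ∨ (a = 1 ∧ b = 1 ∧ c = 1 ∧ d = 0) := by decide
  rcases key a b c d hmov hnz with ⟨rfl, rfl, rfl, rfl⟩ | ⟨rfl, rfl, rfl, rfl⟩
  · refine (W.mem_E (n := m) ⟨hmu, ?_, hcd⟩).2 ⟨hgT, hmfix⟩
    rw [hab, W.F.pz_v]
  · have h11 := hlin 1 1
    simp only [one_mul, show (1 : ZMod 2) + 1 = 0 by decide, add_zero] at h11
    rw [W.F.pz_v] at h11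
    refine (W.mem_E (n := m⁻¹) ⟨(Commute.inv_left hmu).eq, ?_, ?_⟩).2 ⟨hgT, ?_⟩
    · conv_lhs => rw [show W.F.z = m * W.F.v * m⁻¹ by rw [hcd, W.F.pz_z]]
      simp [mul_assoc]
    · conv_lhs => rw [← h11]
      simp [mul_assoc]
    · conv_lhs => rw [← hmfix]
      group

/-- An element of `D` rotating `E`, trivial on the orthogonal complement. -/
theorem exists_rot : ∃ d ∈ W.F.D, d * W.u * d⁻¹ = W.e1 ∧ d * W.e1 * d⁻¹ = W.u * W.e1 ∧
    (∀ x ∈ W.E, d * x * d⁻¹ ∈ W.E) ∧ W.F.phi d E0 = E0 ∧ W.F.phi d F0 = F0 := by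
  obtain ⟨a, b, ha, hb, r1, r2, r3, r4⟩ := rot_exists
  obtain ⟨d0, hd0, hρ⟩ := W.F.exists_D ha hb
  have hp := W.F.phi_refl ha hb hρ
  have h1 : W.F.Is (d0⁻¹ * W.e1 * d0) A0 W0 := by
    have h := Fr.Is.conj W.F (inv_mem hd0) W.e1_Is
    rw [inv_inv] at h
    have k1 : W.F.phi d0⁻¹ W0 = A0 := by rw [← r1, ← hp, W.F.phi_inv hd0]
    have k2 : W.F.phi d0⁻¹ (A0 + W0) = W0 := by rw [← r2, ← hp, W.F.phi_inv hd0]
    rwa [k1, k2] at h
  obtain ⟨s, hs, hse, hsQ⟩ := Fr.Is.conj_std W.F W.hu h1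
  have hd : d0 * s ∈ W.F.D := mul_mem hd0 hs
  have hdu : d0 * s * W.u * (d0 * s)⁻¹ = W.e1 := by
    calc d0 * s * W.u * (d0 * s)⁻¹ = d0 * (s * W.u * s⁻¹) * d0⁻¹ := by group
      _ = W.e1 := by rw [hse]; group
  have hsp : ∀ γ, W.F.phi s γ = γ := by
    intro γ
    have hsA : s ∈ A W.F.Q W.F.v := mem_A.mpr ⟨hsQ, (W.F.mem_D.1 hs).2⟩
    exact Fr.Is.phi W.F (W.F.Is_A hsA) γ
  have hph : ∀ γ, W.F.phi (d0 * s) γ = rU a (rU b γ) := fun γ => by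
    rw [W.F.phi_mul hd0 hs, hsp, hp]
  set d := d0 * s
  have hS0 : ∀ x ∈ W.S0, d * x * d⁻¹ ∈ W.S0 := by
    let H := Subgroup.centralizer ({W.e1} : Set G) ⊓ W.F.D
    have hle : W.S0 ≤ H := fun y hy => Subgroup.mem_inf.mpr
      ⟨Subgroup.mem_centralizer_singleton_iff.2 (W.Et_comm (W.E_le W.e1_mem) hy).symm,
        (W.mem_S0.1 hy).2⟩
    have hH : H = W.S0.map (MulAut.conj d).toMonoidHom := by
      ext y
      constructor
      · intro hy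
        obtain ⟨hy1, hy2⟩ := Subgroup.mem_inf.mp hy
        refine ⟨d⁻¹ * y * d, W.mem_S0.2 ⟨?_, mul_mem (mul_mem (inv_mem hd) hy2) hd⟩, by
          simp [MulAut.conj_apply]; group⟩
        calc d⁻¹ * y * d * W.u = d⁻¹ * (y * (d * W.u * d⁻¹)) * d := by group
          _ = d⁻¹ * ((d * W.u * d⁻¹) * y) * d := by
            rw [hdu, Subgroup.mem_centralizer_singleton_iff.1 hy1]
          _ = _ := by group
      · rintro ⟨x, hx, rfl⟩
        obtain ⟨hxu, hxD⟩ := W.mem_S0.1 hx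
        refine Subgroup.mem_inf.mpr ⟨Subgroup.mem_centralizer_singleton_iff.2 ?_,
          mul_mem (mul_mem hd hxD) (inv_mem hd)⟩
        simp only [MulEquiv.coe_toMonoidHom, MulAut.conj_apply]
        rw [← hdu]
        calc d * x * d⁻¹ * (d * W.u * d⁻¹) = d * (x * W.u) * d⁻¹ := by group
          _ = _ := by rw [hxu]; group
    have he := Subgroup.eq_of_le_of_card_ge hle (le_of_eq (by
      rw [hH, Subgroup.card_map_of_injective (MulAut.conj d).injective]))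
    intro x hx
    rw [he, hH]
    exact ⟨x, hx, rfl⟩
  have hEt : ∀ x ∈ W.Et, d * x * d⁻¹ ∈ W.Et := by
    intro x hx
    refine W.Et_of_central (hS0 x (W.Et_le hx)) fun y hy => ?_
    obtain ⟨w, hw, rfl⟩ : ∃ w ∈ W.S0, d * w * d⁻¹ = y := by
      have hle : W.S0.map (MulAut.conj d).toMonoidHom ≤ W.S0 := by
        rintro _ ⟨w, hw, rfl⟩; exact hS0 w hw
      rw [← Subgroup.eq_of_le_of_card_ge hle (le_of_eq
        (Subgroup.card_map_of_injective (MulAut.conj d).injective).symm)] at hy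
      obtain ⟨w, hw, e⟩ := hy
      exact ⟨w, hw, e⟩
    calc d * x * d⁻¹ * (d * w * d⁻¹) = d * (x * w) * d⁻¹ := by group
      _ = d * (w * x) * d⁻¹ := by rw [W.Et_comm hx hw]
      _ = _ := by group
  have hn' : W.Cyc (d⁻¹ * W.n0 * d) := by
    refine ⟨?_, ?_, ?_⟩
    · have hc : W.n0 * W.e1 * W.n0⁻¹ = W.e1 := (W.mem_E'.1 W.e1_mem).2
      calc d⁻¹ * W.n0 * d * W.u = d⁻¹ * (W.n0 * (d * W.u * d⁻¹)) * d := by group
        _ = d⁻¹ * ((d * W.u * d⁻¹) * W.n0) * d := by rw [hdu, mul_inv_eq_iff_eq_mul.mp hc]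
        _ = _ := by group
    · rw [← W.F.pz_z, ← W.F.pz_v]
      calc d⁻¹ * W.n0 * d * W.F.pz 1 0 * (d⁻¹ * W.n0 * d)⁻¹
          = d⁻¹ * (W.n0 * (d * W.F.pz 1 0 * d⁻¹) * W.n0⁻¹) * d := by group
        _ = d⁻¹ * W.F.pz 0 1 * d := by
          rw [W.F.pz_comm hd, mul_inv_cancel_right, Cyc.pz W W.n0_cyc, add_zero]
        _ = _ := by rw [mul_assoc, ← W.F.pz_comm hd, inv_mul_cancel_left]
    · rw [← W.F.pz_v]
      calc d⁻¹ * W.n0 * d * W.F.pz 0 1 * (d⁻¹ * W.n0 * d)⁻¹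
          = d⁻¹ * (W.n0 * (d * W.F.pz 0 1 * d⁻¹) * W.n0⁻¹) * d := by group
        _ = d⁻¹ * W.F.pz 1 1 * d := by
          rw [W.F.pz_comm hd, mul_inv_cancel_right, Cyc.pz W W.n0_cyc, zero_add]
        _ = _ := by rw [mul_assoc, ← W.F.pz_comm hd, inv_mul_cancel_left]
  have hE : ∀ x ∈ W.E, d * x * d⁻¹ ∈ W.E := by
    intro x hx
    refine W.mem_E'.2 ⟨hEt x (W.E_le hx), ?_⟩
    have h := ((W.mem_E hn').1 hx).2
    calc W.n0 * (d * x * d⁻¹) * W.n0⁻¹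
        = d * (d⁻¹ * W.n0 * d * x * (d⁻¹ * W.n0 * d)⁻¹) * d⁻¹ := by group
      _ = _ := by rw [h]
  refine ⟨d, hd, hdu, ?_, hE, (hph E0).trans r3, (hph F0).trans r4⟩
  refine W.E_unique (hE _ W.e1_mem) (mul_mem W.u_mem_E W.e1_mem)
    (Fr.Is.conj W.F hd W.e1_Is) ?_
  have k1 : W.F.phi d W0 = A0 + W0 := by rw [hph, r2]
  have k2 : W.F.phi d (A0 + W0) = A0 := by
    rw [W.F.phi_add, k1, hph, r1, add_left_comm, ZModModule.add_self, add_zero]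
  rw [k1, k2]
  have h := Fr.Is.mul W.F W.hu W.e1_Is
  have e : W0 + (A0 + W0) = A0 := by rw [add_left_comm, ZModModule.add_self, add_zero]
  rwa [e] at h

end Fu

end Cfsg.Agent.SuzType
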