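/-
The centraliser of a standard involution `u` in a group of Suzuki type normalises a four group
(helper1).

* `into_S`, `conj_z` : Sylow and fusion facts in `C(u)`
* `star` : an element of `C(u)` moving `z` into `C(z, u)` normalises `E`
* `E_normal` : `E` is normal in `C(u)`, by the `Z*`-theorem
-/
import Cfsg.Agent.Lib.SuzType.CentZU
import Cfsg.Agent.S0215

set_option autoImplicit false
open scoped commutatorElement

namespace Cfsg.Agent.SuzType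

open Cfsg.Agent.Orth Cfsg.Agent.LargeExtraspecial Cfsg.Agent.LargeExtraspecial.Cfg
open QuadraticMap (polar)
open Fr (K1 K2 SingPar)

set_option synthInstance.maxSize 1024

theorem zp_cent_card : ∀ α β : U4, ZP α β → ¬ (α = 0 ∧ β = 0) →
    (Finset.univ.filter fun p : U4 × U4 =>
      Ker p.1 p.2 ∧ (K1 p.1 p.2 α β = 0 ∧ K2 p.1 p.2 α β = 0)).card = 16 := by
  decide +kernel

theorem zp_surj : ∀ α β : U4, ZP α β → ¬ (α = 0 ∧ β = 0) → ∀ i j : ZMod 2,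
    ∃ p : U4 × U4, Ker p.1 p.2 ∧ K1 p.1 p.2 α β = i ∧ K2 p.1 p.2 α β = j := by
  decide +kernel

theorem etp_fixed : ∀ α β : U4, EtP α β → (sg (α + β) = α ∧ sg β = β) →
    (α = 0 ∧ β = 0) ∨ (α = A0 ∧ β = W0) := by
  decide +kernel

variable {G : Type*} [Group G] [Finite G]

/-- Every Sylow 2-subgroup centralises a conjugate of `z`. -/
theorem Co.sylow_comm (T : Co G) (P : Sylow 2 G) :
    ∃ g : G, ∀ p ∈ (P : Subgroup G), g * p * g⁻¹ * T.z = T.z * (g * p * g⁻¹) := by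
  haveI : Fact (Nat.Prime 2) := ⟨Nat.prime_two⟩
  obtain ⟨S, hS⟩ := (IsPGroup.of_card T.card_Q).exists_le_sylow
  haveI : Nontrivial S :=
    ⟨⟨⟨T.z, hS T.data.z_mem⟩, 1, fun h => T.z_ne (by simpa using congrArg Subtype.val h)⟩⟩
  obtain ⟨w, hw, hw1⟩ := (Subgroup.center (S : Subgroup G)).nontrivial_iff_exists_ne_one.mp
    S.2.center_nontrivial
  have hzS : ∀ s ∈ (S : Subgroup G), s * T.z = T.z * s := by
    rcases T.data.cent (w : G) (fun q hq =>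
      congrArg Subtype.val (Subgroup.mem_center_iff.mp hw ⟨q, hS hq⟩)) with e | e
    · exact absurd (Subtype.ext e) hw1
    · intro s hs
      rw [← e]
      exact congrArg Subtype.val (Subgroup.mem_center_iff.mp hw ⟨s, hs⟩)
  obtain ⟨g, hg⟩ := MulAction.exists_smul_eq G P S
  refine ⟨g, fun p hp => hzS _ ?_⟩
  rw [← hg]
  exact ⟨p, hp, rfl⟩

namespace Fu

variable (W : Fu G)

/-- The centraliser of `u`. -/
def Cu : Subgroup G := Subgroup.centralizer ({W.u} : Set G)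

theorem mem_Cu {x : G} : x ∈ W.Cu ↔ x * W.u = W.u * x :=
  Subgroup.mem_centralizer_singleton_iff

theorem S_le_Cu : W.S ≤ W.Cu := fun _ hx => W.mem_Cu.2 (W.mem_S.1 hx).1

theorem z_mem_S : W.F.z ∈ W.S := W.S0_le W.z_mem_S0

/-- The conjugates of `z` in `C(u)` are conjugate there. -/
theorem conj_z {x : G} (hx : x ∈ W.Cu) (hc : IsConj W.F.z x) :
    ∃ k ∈ W.Cu, k * x * k⁻¹ = W.F.z := by
  obtain ⟨h, hh⟩ := isConj_iff.1 hc.symm
  set y := h * W.u * h⁻¹ with hy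
  have hyz : y * W.F.z = W.F.z * y := by
    rw [← hh]
    calc y * (h * x * h⁻¹) = h * (W.u * x) * h⁻¹ := by rw [hy]; group
      _ = h * (x * W.u) * h⁻¹ := by rw [W.mem_Cu.1 hx]
      _ = _ := by rw [hy]; group
  have hy2 : y * y = 1 := by
    calc y * y = h * (W.u * W.u) * h⁻¹ := by rw [hy]; group
      _ = 1 := by rw [W.u_sq]; group
  have hy1 : y ≠ 1 := fun e => W.u_ne (conj_eq_one_iff.mp e)
  have hyu : IsConj y W.u := (isConj_iff.2 ⟨h, rfl⟩ : IsConj W.u y).symm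
  have hyQ : y ∉ W.F.Q := fun hQ => W.u_not_conj ((W.F.isConj_of_mem_Q hQ hy2 hy1).trans hyu)
  obtain ⟨g, hg, hP | hB⟩ := W.F.classify hyz hy2 hyQ
  · refine absurd ?_ W.u_not_conj
    refine (W.F.isConj_of_mem_P hP ?_ ?_).trans ((isConj_iff.2 ⟨g⁻¹, by group⟩ :
      IsConj (g * y * g⁻¹) y).trans hyu)
    · calc g * y * g⁻¹ * (g * y * g⁻¹) = g * (y * y) * g⁻¹ := by group
        _ = 1 := by rw [hy2]; group
    · exact fun e => hy1 (conj_eq_one_iff.mp e)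
  · obtain ⟨k', hk', hku⟩ := W.F.typB_conj hB W.hu
    refine ⟨k' * g * h, W.mem_Cu.2 (mul_inv_eq_iff_eq_mul.mp ?_), ?_⟩
    · refine Eq.trans ?_ hku
      rw [hy]; group
    · calc k' * g * h * x * (k' * g * h)⁻¹ = k' * (g * (h * x * h⁻¹)) * g⁻¹ * k'⁻¹ := by group
        _ = k' * W.F.z * k'⁻¹ := by rw [hh, hg]; group
        _ = W.F.z := mul_inv_eq_iff_eq_mul.mpr hk'

/-- Every 2-subgroup of `C(u)` is conjugate into `C(u, z)`. -/
theorem into_S (T : Subgroup G) (hle : T ≤ W.Cu) (hT : IsPGroup 2 T) :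
    ∃ k ∈ W.Cu, ∀ x ∈ T, k * x * k⁻¹ ∈ W.S := by
  haveI : Fact (Nat.Prime 2) := ⟨Nat.prime_two⟩
  obtain ⟨P', hP'⟩ := (hT.of_equiv (Subgroup.subgroupOfEquivOfLe hle).symm).exists_le_sylow
  have hu2 : IsPGroup 2 (Subgroup.zpowers (⟨W.u, W.mem_Cu.2 rfl⟩ : W.Cu)) :=
    IsPGroup.of_card (n := 1) (by
      rw [Nat.card_zpowers, ← Subgroup.orderOf_coe, orderOf_eq_prime (by rw [sq]; exact W.u_sq) W.u_ne,
        pow_one])
  haveI : (Subgroup.zpowers (⟨W.u, W.mem_Cu.2 rfl⟩ : W.Cu)).Normal := by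
    refine ⟨fun x hx g => ?_⟩
    obtain ⟨i, rfl⟩ := hx
    have hc : Commute g (⟨W.u, W.mem_Cu.2 rfl⟩ : W.Cu) := Subtype.ext (W.mem_Cu.1 g.2)
    refine ⟨i, ?_⟩
    show (⟨W.u, W.mem_Cu.2 rfl⟩ : W.Cu) ^ i = g * (⟨W.u, W.mem_Cu.2 rfl⟩ : W.Cu) ^ i * g⁻¹
    rw [(hc.zpow_right i).eq, mul_inv_cancel_right]
  have huP : (⟨W.u, W.mem_Cu.2 rfl⟩ : W.Cu) ∈ (P' : Subgroup W.Cu) :=
    IsPGroup.le_sylow_of_normal hu2 P' (Subgroup.mem_zpowers _)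
  obtain ⟨P, hP⟩ := (P'.2.map W.Cu.subtype).exists_le_sylow
  obtain ⟨g, hg⟩ := W.F.T.sylow_comm P
  have hzu : g⁻¹ * W.F.z * g ∈ W.Cu := by
    have h := hg W.u (hP ⟨_, huP, rfl⟩)
    refine W.mem_Cu.2 ?_
    calc g⁻¹ * W.F.z * g * W.u = g⁻¹ * (W.F.z * (g * W.u * g⁻¹)) * g := by group
      _ = g⁻¹ * ((g * W.u * g⁻¹) * W.F.z) * g := by rw [← h]
      _ = _ := by group
  obtain ⟨k, hk, hkz⟩ := W.conj_z hzu (isConj_iff.2 ⟨g⁻¹, by group⟩)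
  refine ⟨k, hk, fun x hx => W.mem_S.2 ⟨?_, ?_⟩⟩
  · exact W.mem_Cu.1 (mul_mem (mul_mem hk (hle hx)) (inv_mem hk))
  · have h := hg x (hP ⟨⟨x, hle hx⟩, hP' hx, rfl⟩)
    rw [← hkz]
    calc k * x * k⁻¹ * (k * (g⁻¹ * W.F.z * g) * k⁻¹)
        = k * g⁻¹ * (g * x * g⁻¹ * W.F.z) * g * k⁻¹ := by group
      _ = k * g⁻¹ * (W.F.z * (g * x * g⁻¹)) * g * k⁻¹ := by rw [← h]
      _ = _ := by group

theorem NV.mul {g h : G} (hg : W.NV g) (hh : W.NV h) : W.NV (g * h) := by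
  refine ⟨(Commute.mul_left hg.1 hh.1).eq, fun x hx => ?_⟩
  rw [show g * h * x * (g * h)⁻¹ = g * (h * x * h⁻¹) * g⁻¹ by group]
  exact hg.2 _ (hh.2 x hx)

theorem exists_nv {w : G} (hw : w ∈ W.V) (h1 : w ≠ 1) : ∃ j, W.NV j ∧ j * W.F.z * j⁻¹ = w := by
  obtain ⟨i, j, rfl⟩ := hw
  have hn := W.n0_cyc
  rcases z2 i with rfl | rfl <;> rcases z2 j with rfl | rfl
  · exact absurd W.F.pz_zero h1
  · exact ⟨W.n0, Cyc.nv W hn, by rw [W.F.pz_v, hn.2.1]⟩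
  · exact ⟨1, W.nv_S (one_mem _), by rw [W.F.pz_z]; group⟩
  · refine ⟨W.n0 * W.n0, NV.mul W (Cyc.nv W hn) (Cyc.nv W hn), ?_⟩
    calc W.n0 * W.n0 * W.F.z * (W.n0 * W.n0)⁻¹ = W.n0 * (W.n0 * W.F.z * W.n0⁻¹) * W.n0⁻¹ := by group
      _ = _ := by rw [hn.2.1, hn.2.2]

/-- An element of `C(u)` moving a member of `V` into `V` normalises `V`. -/
theorem nv_of {k w : G} (hk : k ∈ W.Cu) (hw : w ∈ W.V) (h1 : w ≠ 1) (hkw : k * w * k⁻¹ ∈ W.V) :
    W.NV k := by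
  obtain ⟨j, hj, rfl⟩ := W.exists_nv hw h1
  obtain ⟨i, hi, hie⟩ := W.exists_nv hkw fun e => h1 (conj_eq_one_iff.mp e)
  have hS : i⁻¹ * k * j ∈ W.S := W.mem_S.2
    ⟨((Commute.mul_left (Commute.inv_left hi.1) (W.mem_Cu.1 hk)).mul_left hj.1).eq,
      mul_inv_eq_iff_eq_mul.mp (by
        calc i⁻¹ * k * j * W.F.z * (i⁻¹ * k * j)⁻¹
            = i⁻¹ * (k * (j * W.F.z * j⁻¹) * k⁻¹) * i := by group
          _ = W.F.z := by rw [← hie]; group)⟩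
  have h := NV.mul W (NV.mul W hi (W.nv_S hS)) (NV.inv W hj)
  rwa [show i * (i⁻¹ * k * j) * j⁻¹ = k by group] at h

/-- Elements of `C(u, z)` fixing an element of the third class of parameters lie in `S0`. -/
theorem mem_S0_of_fix {x y : G} (hx : x ∈ W.S) (hy : W.F.Is y W0 (A0 + W0))
    (hxy : x * y = y * x) : x ∈ W.S0 := by
  by_contra h
  have h2 := W.outer_conj hx h hy
  rw [mul_inv_eq_iff_eq_mul.mpr hxy] at h2
  obtain ⟨e1, e2⟩ := Fr.Is.unique W.F h2 hy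
  revert e1; decide +kernel

/-- The same for the other members of `V`. -/
theorem mem_S0_of_fix' {x y w : G} (hy : W.F.Is y W0 (A0 + W0)) (hyT : y ∈ W.Et) (hx : x ∈ W.Cu)
    (hw : w ∈ W.V) (h1 : w ≠ 1) (hxw : x * w = w * x) (hxy : x * y = y * x) : x ∈ W.S0 := by
  obtain ⟨j, hj, rfl⟩ := W.exists_nv hw h1
  have hj' := NV.inv W hj
  have hS : j⁻¹ * x * j ∈ W.S := W.mem_S.2
    ⟨((Commute.mul_left hj'.1 (W.mem_Cu.1 hx)).mul_left hj.1).eq, by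
      calc j⁻¹ * x * j * W.F.z = j⁻¹ * (x * (j * W.F.z * j⁻¹)) * j := by group
        _ = j⁻¹ * ((j * W.F.z * j⁻¹) * x) * j := by rw [hxw]
        _ = _ := by group⟩
  have hyj : W.F.Is (j⁻¹ * y * j) W0 (A0 + W0) ∨ W.F.Is (j⁻¹ * y * j) (A0 + W0) A0 := by
    have hT := NV.Et W hj' hyT
    rw [inv_inv] at hT
    obtain ⟨α, β, hp, hI⟩ := hT
    have hju : j⁻¹ * W.u * j = W.u := by
      rw [hj'.1]; group
    rcases hp with ⟨rfl, rfl⟩ | ⟨rfl, rfl⟩ | ⟨rfl, rfl⟩ | ⟨rfl, rfl⟩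
    · exfalso
      have hm := hj.2 _ (Fr.Is.eq_pz W.F hI)
      rw [show j * (j⁻¹ * y * j) * j⁻¹ = y by group] at hm
      obtain ⟨i, i', rfl⟩ := hm
      exact W0_ne (Fr.Is.unique W.F hy (W.F.Is_pz i i')).1
    · exfalso
      have h0 := Fr.Is.mul W.F hI W.hu
      rw [ZModModule.add_self, ZModModule.add_self] at h0
      have hm := hj.2 _ (Fr.Is.eq_pz W.F h0)
      rw [show j * (j⁻¹ * y * j * W.u) * j⁻¹ = y * W.u by
        conv_lhs => rw [← hju]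
        group] at hm
      obtain ⟨i, i', e⟩ := hm
      have h2 := Fr.Is.mul W.F hy W.hu
      rw [e] at h2
      have h3 := (Fr.Is.unique W.F h2 (W.F.Is_pz i i')).1
      revert h3; decide
    · exact Or.inl hI
    · exact Or.inr hI
  have hcomm : j⁻¹ * x * j * (j⁻¹ * y * j) = j⁻¹ * y * j * (j⁻¹ * x * j) := by
    calc j⁻¹ * x * j * (j⁻¹ * y * j) = j⁻¹ * (x * y) * j := by group
      _ = j⁻¹ * (y * x) * j := by rw [hxy]
      _ = _ := by group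
  have hS0 : j⁻¹ * x * j ∈ W.S0 := by
    rcases hyj with h | h
    · exact W.mem_S0_of_fix hS h hcomm
    · by_contra hne
      have h2 := W.outer_conj hS hne h
      rw [mul_inv_eq_iff_eq_mul.mpr hcomm] at h2
      obtain ⟨e1, e2⟩ := Fr.Is.unique W.F h2 h
      revert e1; decide +kernel
  have h := NV.S0 W hj hS0
  rwa [show j * (j⁻¹ * x * j) * j⁻¹ = x by group] at h

/-- The parameters of a conjugate of `z` in `S` outside `V`. -/
theorem zty_par {x : G} (hx : x ∈ W.S) (hc : IsConj W.F.z x) (hV : x ∉ W.V) :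
    x ∈ W.S0 ∧ ∃ α β, ZP α β ∧ ¬ (α = 0 ∧ β = 0) ∧ W.F.Is x α β := by
  obtain ⟨-, α, β, hp, hI⟩ := (W.zty_iff hx).1 hc
  refine ⟨W.mem_S0_iff.2 ⟨α, β, (zp_ker α β hp).2, hI⟩, α, β, hp, ?_, hI⟩
  rintro ⟨rfl, rfl⟩
  exact hV (Fr.Is.eq_pz W.F hI)

/-- An element of `S` commuting with a conjugate of `z` outside `V` lies in `S0`. -/
theorem mem_S0_of_cent {x m : G} (hx : x ∈ W.S) (hm : m ∈ W.S) (hc : IsConj W.F.z m)
    (hV : m ∉ W.V) (hxm : x * m = m * x) : x ∈ W.S0 := by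
  obtain ⟨-, α, β, hp, h0, hI⟩ := W.zty_par hm hc hV
  by_contra h
  have h2 := W.outer_conj hx h hI
  rw [mul_inv_eq_iff_eq_mul.mpr hxm] at h2
  obtain ⟨e1, e2⟩ := Fr.Is.unique W.F h2 hI
  exact sg_zp α β hp h0 ⟨e1, e2⟩

theorem card_cent_m {m : G} (hm : m ∈ W.S) (hc : IsConj W.F.z m) (hV : m ∉ W.V) :
    Nat.card ↥(W.S0 ⊓ Subgroup.centralizer ({m} : Set G)) = 64 := by
  obtain ⟨-, α, β, hp, h0, hI⟩ := W.zty_par hm hc hV
  have h16 := zp_cent_card α β hp h0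
  rw [W.card_of_par (fun a b => Ker a b ∧ (K1 a b α β = 0 ∧ K2 a b α β = 0)) _ (fun x => ?_)]
  · exact (congrArg (4 * ·) h16).trans rfl
  rw [Subgroup.mem_inf, Subgroup.mem_centralizer_singleton_iff]
  constructor
  · rintro ⟨hx, hxm⟩
    obtain ⟨a, b, hk, hxI⟩ := W.mem_S0_iff.1 hx
    have h := Fr.Is.comm W.F hxI hI
    rw [hxm] at h
    exact ⟨a, b, ⟨hk, W.F.pz_eq_one (mul_eq_left.mp h.symm)⟩, hxI⟩
  · rintro ⟨a, b, ⟨hk, k1, k2⟩, hxI⟩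
    refine ⟨W.mem_S0_iff.2 ⟨a, b, hk, hxI⟩, ?_⟩
    have h := Fr.Is.comm W.F hxI hI
    rwa [k1, k2, W.F.pz_zero, mul_one] at h

/-- `S0` moves a conjugate of `z` outside `V` to all of its coset of `V`. -/
theorem coset_conj {m w : G} (hm : m ∈ W.S) (hc : IsConj W.F.z m) (hV : m ∉ W.V) (hw : w ∈ W.V) :
    ∃ x ∈ W.S0, x * m * x⁻¹ = m * w := by
  obtain ⟨-, α, β, hp, h0, hI⟩ := W.zty_par hm hc hV
  obtain ⟨i, j, rfl⟩ := hw
  obtain ⟨⟨a, b⟩, hk, k1, k2⟩ := zp_surj α β hp h0 i j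
  obtain ⟨x, hx⟩ := W.F.exists_Is a b
  refine ⟨x, W.mem_S0_iff.2 ⟨a, b, hk, hx⟩, ?_⟩
  have h := Fr.Is.comm W.F hx hI
  rw [k1, k2] at h
  rw [h, mul_assoc (m * x), ← W.F.pz_comm (inv_mem (Fr.Is.mem_D W.F hx))]
  group

/-- The common part of `Et` and its conjugate lies in `E`. -/
theorem star_aux {k : G} (hk : k ∈ W.Cu) (hm : k * W.F.z * k⁻¹ ∈ W.S)
    (hV : k * W.F.z * k⁻¹ ∉ W.V) :
    (∀ x ∈ W.Et, k * x * k⁻¹ ∈ W.Et → k * x * k⁻¹ ∈ W.E) ∧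
      ∃ x ∈ W.Et, k * x * k⁻¹ = W.e1 := by
  classical
  set m := k * W.F.z * k⁻¹ with hmdef
  have hkc := W.mem_Cu.1 hk
  have hmc : IsConj W.F.z m := isConj_iff.2 ⟨k, rfl⟩
  have hzk : k⁻¹ * W.F.z * k ∈ W.S := by
    refine W.mem_S.2 ⟨((Commute.mul_left (Commute.inv_left hkc) W.uz.symm).mul_left hkc).eq, ?_⟩
    have h := (W.mem_S.1 hm).2
    calc k⁻¹ * W.F.z * k * W.F.z = k⁻¹ * (W.F.z * m) * k := by rw [hmdef]; group
      _ = k⁻¹ * (m * W.F.z) * k := by rw [h]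
      _ = _ := by rw [hmdef]; group
  have hz' : IsConj W.F.z (k⁻¹ * W.F.z * k) := isConj_iff.2 ⟨k⁻¹, by group⟩
  -- no nontrivial element of `V` is moved into `V`
  have hnV : ∀ w ∈ W.V, w ≠ 1 → k * w * k⁻¹ ∉ W.V := fun w hw h1 h =>
    hV ((W.nv_of hk hw h1 h).2 _ ⟨1, 0, W.F.pz_z.symm⟩)
  have hz'V : k⁻¹ * W.F.z * k ∉ W.V := fun h =>
    hnV _ h (fun e => W.F.z_ne (by
      calc W.F.z = k * (k⁻¹ * W.F.z * k) * k⁻¹ := by group
        _ = 1 := by rw [e]; group))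
      ⟨1, 0, by rw [W.F.pz_z]; group⟩
  obtain ⟨hz'0, -⟩ := W.zty_par hzk hz' hz'V
  obtain ⟨hm0, -⟩ := W.zty_par hm hmc hV
  -- the two centres and their bound
  set H := W.S0 ⊓ Subgroup.centralizer ({m} : Set G) with hH
  set T := W.Et.map (MulAut.conj k).toMonoidHom with hT
  have memT : ∀ y, y ∈ T ↔ ∃ x ∈ W.Et, k * x * k⁻¹ = y := fun y => Iff.rfl
  have hEH : W.Et ≤ H := fun x hx => Subgroup.mem_inf.mpr
    ⟨W.Et_le hx, Subgroup.mem_centralizer_singleton_iff.2 (W.Et_comm hx hm0)⟩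
  have hTS : ∀ y ∈ T, y ∈ W.Cu ∧ y * W.F.z = W.F.z * y ∧ y * m = m * y := by
    intro y hy
    obtain ⟨x, hx, rfl⟩ := (memT y).1 hy
    refine ⟨mul_mem (mul_mem hk (W.S_le_Cu (W.S0_le (W.Et_le hx)))) (inv_mem hk), ?_, ?_⟩
    · calc k * x * k⁻¹ * W.F.z = k * (x * (k⁻¹ * W.F.z * k)) * k⁻¹ := by group
        _ = k * ((k⁻¹ * W.F.z * k) * x) * k⁻¹ := by rw [W.Et_comm hx hz'0]
        _ = _ := by group
    · calc k * x * k⁻¹ * m = k * (x * W.F.z) * k⁻¹ := by rw [hmdef]; group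
        _ = k * (W.F.z * x) * k⁻¹ := by rw [W.Et_comm hx W.z_mem_S0]
        _ = _ := by rw [hmdef]; group
  have hTH : T ≤ H := fun y hy => by
    obtain ⟨h1, h2, h3⟩ := hTS y hy
    exact Subgroup.mem_inf.mpr ⟨W.mem_S0_of_cent (W.mem_S.2 ⟨W.mem_Cu.1 h1, h2⟩) hm hmc hV h3,
      Subgroup.mem_centralizer_singleton_iff.2 h3⟩
  have hcT : Nat.card T = 16 := by
    rw [hT, Subgroup.card_map_of_injective (MulAut.conj k).injective, W.card_Et]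
  have hI : 4 ≤ Nat.card ↥(W.Et ⊓ T) := by
    have h1 : W.Et.relIndex T * Nat.card ↥(W.Et ⊓ T) = 16 := by
      have h := Subgroup.card_mul_index (W.Et.subgroupOf T)
      rw [Nat.card_congr (Subgroup.subgroupOfEquivOfLe (inf_le_right : W.Et ⊓ T ≤ T)).toEquiv.symm,
        Subgroup.inf_subgroupOf_right, mul_comm]
      exact h.trans hcT
    have h2 : W.Et.relIndex H * 16 = 64 := by
      have h := Subgroup.card_mul_index (W.Et.subgroupOf H)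
      rw [Nat.card_congr (Subgroup.subgroupOfEquivOfLe hEH).toEquiv, W.card_Et,
        W.card_cent_m hm hmc hV] at h
      rw [mul_comm]; exact h
    have h3 : W.Et.relIndex T ≤ W.Et.relIndex H := Subgroup.relIndex_le_of_le_right hTH
      (fun e => by rw [e] at h2; norm_num at h2)
    nlinarith [Nat.card_pos (α := ↥(W.Et ⊓ T))]
  have hIV : ∀ y ∈ W.Et ⊓ T, y ∈ W.V → y = 1 := by
    intro y hy hyV
    obtain ⟨x, hx, rfl⟩ := (memT y).1 (Subgroup.mem_inf.mp hy).2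
    by_contra h1
    have hx1 : x ≠ 1 := fun e => h1 (by rw [e]; group)
    obtain ⟨j, -, hj⟩ := W.exists_nv hyV h1
    have hxc : IsConj W.F.z x := (isConj_iff.2 ⟨j, hj⟩ : IsConj W.F.z (k * x * k⁻¹)).trans
      (isConj_iff.2 ⟨k⁻¹, by group⟩)
    by_cases hxV : x ∈ W.V
    · exact hnV x hxV hx1 hyV
    · exact W.Et_not_conj hx hxV hxc
  choose pa pb hpE hpI using fun y : ↥(W.Et ⊓ T) => W.mem_Et.1 (Subgroup.mem_inf.mp y.2).1
  let f : ↥(W.Et ⊓ T) → {p : U4 × U4 // EtP p.1 p.2} := fun y => ⟨(pa y, pb y), hpE y⟩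
  have hf : Function.Injective f := by
    intro a b he
    have he' := congrArg Subtype.val he
    simp only [f, Prod.mk.injEq] at he'
    obtain ⟨i, j, hij⟩ := Fr.Is.eq_mul_pz W.F (hpI a) (he'.1.symm ▸ he'.2.symm ▸ hpI b)
    have h := hIV _ (mul_mem (inv_mem a.2) b.2) ⟨i, j, by rw [hij, inv_mul_cancel_left]⟩
    exact Subtype.ext (inv_mul_eq_one.mp h)
  have hfs : Function.Surjective f := by
    have hc : Nat.card {p : U4 × U4 // EtP p.1 p.2} = 4 := by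
      rw [Nat.card_eq_fintype_card, Fintype.card_subtype, etp_card]
    exact ((Nat.bijective_iff_injective_and_card f).2
      ⟨hf, le_antisymm (Nat.card_le_card_of_injective f hf) (hc ▸ hI)⟩).2
  obtain ⟨⟨y, hy⟩, hyf⟩ := hfs ⟨(W0, A0 + W0), etp_rot.1⟩
  have hyI : W.F.Is y W0 (A0 + W0) := by
    have h := hpI ⟨y, hy⟩
    have e := congrArg Subtype.val hyf
    simp only [f, Prod.mk.injEq] at e
    rwa [e.1, e.2] at h
  obtain ⟨hyT, hyT'⟩ := Subgroup.mem_inf.mp hy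
  obtain ⟨x0, hx0, hx0y⟩ := (memT y).1 hyT'
  -- the conjugate of `S0` commutes with `y`
  have hkS : ∀ g ∈ W.S0, k * g * k⁻¹ * y = y * (k * g * k⁻¹) := by
    intro g hg
    rw [← hx0y]
    calc k * g * k⁻¹ * (k * x0 * k⁻¹) = k * (g * x0) * k⁻¹ := by group
      _ = k * (x0 * g) * k⁻¹ := by rw [W.Et_comm hx0 hg]
      _ = _ := by group
  let Rel : G → G → Prop := fun a b => ∃ g ∈ W.Cu, g * y = y * g ∧ g * a * g⁻¹ = b
  have rtrans : ∀ {a b c}, Rel a b → Rel b c → Rel a c := by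
    rintro a b c ⟨g, hg, hgy, rfl⟩ ⟨g', hg', hgy', rfl⟩
    exact ⟨g' * g, mul_mem hg' hg, (Commute.mul_left hgy' hgy).eq, by group⟩
  have rsymm : ∀ {a b}, Rel a b → Rel b a := by
    rintro a b ⟨g, hg, hgy, rfl⟩
    exact ⟨g⁻¹, inv_mem hg, (Commute.inv_left hgy).eq, by group⟩
  have rS0 : ∀ w ∈ W.V, Rel m (m * w) := fun w hw => by
    obtain ⟨g, hg, hge⟩ := W.coset_conj hm hmc hV hw
    exact ⟨g, W.S_le_Cu (W.S0_le hg), (W.Et_comm hyT hg).symm, hge⟩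
  have rK : ∀ w ∈ W.V, w ≠ 1 → Rel w (m * w) := by
    intro w hw h1
    obtain ⟨j, hj, hjw⟩ := W.exists_nv hw h1
    set w' := k⁻¹ * w * k with hw'
    have hw'c : IsConj W.F.z w' := (isConj_iff.2 ⟨j, hjw⟩ : IsConj W.F.z w).trans
      (isConj_iff.2 ⟨k⁻¹, by rw [hw']; group⟩)
    have hw'S : w' ∈ W.S := by
      have hwS : w ∈ W.S := W.S0_le (W.Et_le (W.V_le_Et hw))
      refine W.mem_S.2 ⟨W.mem_Cu.1 (mul_mem (mul_mem (inv_mem hk) (W.S_le_Cu hwS)) hk), ?_⟩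
      have hwm : w * m = m * w := W.Et_comm (W.V_le_Et hw) hm0
      calc w' * W.F.z = k⁻¹ * (w * m) * k := by rw [hw', hmdef]; group
        _ = k⁻¹ * (m * w) * k := by rw [hwm]
        _ = _ := by rw [hw', hmdef]; group
    have hw'V : w' ∉ W.V := fun h => hnV w' h
      (fun e => h1 (by
        calc w = k * w' * k⁻¹ := by rw [hw']; group
          _ = 1 := by rw [e]; group))
      (by rw [hw', show k * (k⁻¹ * w * k) * k⁻¹ = w by group]; exact hw)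
    obtain ⟨g, hg, hge⟩ := W.coset_conj hw'S hw'c hw'V (⟨1, 0, W.F.pz_z.symm⟩ : W.F.z ∈ W.V)
    refine ⟨k * g * k⁻¹, mul_mem (mul_mem hk (W.S_le_Cu (W.S0_le hg))) (inv_mem hk), hkS g hg, ?_⟩
    have hwm : w * m = m * w := W.Et_comm (W.V_le_Et hw) hm0
    calc k * g * k⁻¹ * w * (k * g * k⁻¹)⁻¹ = k * (g * w' * g⁻¹) * k⁻¹ := by rw [hw']; group
      _ = w * m := by rw [hge, hw', hmdef]; group
      _ = m * w := hwm
  have hzV : W.F.z ∈ W.V := ⟨1, 0, W.F.pz_z.symm⟩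
  have hvV : W.F.v ∈ W.V := ⟨0, 1, W.F.pz_v.symm⟩
  obtain ⟨k0, hk0, hk0y, hk0z⟩ : Rel W.F.z W.F.v :=
    rtrans (rtrans (rK _ hzV W.F.z_ne) (rsymm (rS0 _ hzV)))
      (rtrans (rS0 _ hvV) (rsymm (rK _ hvV W.F.v_ne)))
  have hv1 : W.F.v ≠ 1 := W.F.v_ne
  -- `k0` normalises `S0`
  have hk0S : ∀ g ∈ W.S0, k0 * g * k0⁻¹ ∈ W.S0 := by
    intro g hg
    refine W.mem_S0_of_fix' hyI hyT (mul_mem (mul_mem hk0 (W.S_le_Cu (W.S0_le hg))) (inv_mem hk0))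
      hvV hv1 ?_ ?_
    · rw [← hk0z]
      calc k0 * g * k0⁻¹ * (k0 * W.F.z * k0⁻¹) = k0 * (g * W.F.z) * k0⁻¹ := by group
        _ = k0 * (W.F.z * g) * k0⁻¹ := by rw [(W.F.mem_D.1 (W.mem_S0.1 hg).2).1]
        _ = _ := by group
    · calc k0 * g * k0⁻¹ * y = k0 * g * (k0⁻¹ * y) := by group
        _ = k0 * (g * y) * k0⁻¹ := by rw [(Commute.inv_left hk0y).eq]; group
        _ = k0 * (y * g) * k0⁻¹ := by rw [W.Et_comm hyT hg]
        _ = k0 * y * g * k0⁻¹ := by group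
        _ = _ := by rw [hk0y]; group
  have hk0T : ∀ g ∈ W.Et, k0 * g * k0⁻¹ ∈ W.Et := by
    intro g hg
    refine W.Et_of_central (hk0S g (W.Et_le hg)) fun r hr => ?_
    have hle : W.S0.map (MulAut.conj k0).toMonoidHom ≤ W.S0 := by
      rintro _ ⟨s, hs, rfl⟩; exact hk0S s hs
    rw [← Subgroup.eq_of_le_of_card_ge hle (le_of_eq
      (Subgroup.card_map_of_injective (MulAut.conj k0).injective).symm)] at hr
    obtain ⟨s, hs, rfl⟩ := hr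
    simp only [MulEquiv.coe_toMonoidHom, MulAut.conj_apply]
    calc k0 * g * k0⁻¹ * (k0 * s * k0⁻¹) = k0 * (g * s) * k0⁻¹ := by group
      _ = k0 * (s * g) * k0⁻¹ := by rw [W.Et_comm hg hs]
      _ = _ := by group
  have hk0NV : W.NV k0 := W.nv_of hk0 hzV W.F.z_ne (by rw [hk0z]; exact hvV)
  -- `y` is the member of `E`
  obtain ⟨i, j, hyw⟩ := Fr.Is.eq_mul_pz W.F W.e1_Is hyI
  have hye : y = W.e1 := by
    have he := W.E_NV hk0NV W.e1_mem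
    obtain ⟨a, b, hab⟩ := hk0NV.2 _ (⟨i, j, rfl⟩ : W.F.pz i j ∈ W.V)
    have e : k0 * W.e1 * k0⁻¹ * W.F.pz a b = W.e1 * W.F.pz i j := by
      rw [← hab, ← hyw]
      calc k0 * W.e1 * k0⁻¹ * (k0 * W.F.pz i j * k0⁻¹) = k0 * (W.e1 * W.F.pz i j) * k0⁻¹ := by group
        _ = y := by rw [← hyw]; exact mul_inv_eq_iff_eq_mul.mpr hk0y
    have hI2 : W.F.Is (k0 * W.e1 * k0⁻¹) W0 (A0 + W0) := by
      have h := Fr.Is.mul_pz W.F (Fr.Is.mul_pz W.F W.e1_Is i j) a b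
      rw [← e, mul_assoc, W.F.pz_sq, mul_one] at h
      exact h
    rw [W.E_unique he W.e1_mem hI2 W.e1_Is] at e
    have hfix := mul_left_cancel e
    rw [hfix] at hab
    by_contra hne
    have hw1 : W.F.pz i j ≠ 1 := fun h1 => hne (by rw [hyw, h1, mul_one])
    rw [← W.F.pz_z, ← W.F.pz_v] at hk0z
    obtain ⟨c, d, hcd⟩ := hk0NV.2 _ hvV
    rw [← W.F.pz_v] at hcd
    have hlin : k0 * W.F.pz i j * k0⁻¹ = W.F.pz (j * c) (i + j * d) := by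
      rcases z2 i with rfl | rfl <;> rcases z2 j with rfl | rfl
      · simp [W.F.pz_zero]
      · rw [hcd]; simp
      · rw [hk0z]; simp
      · rw [show W.F.pz 1 1 = W.F.pz 1 0 * W.F.pz 0 1 by rw [W.F.pz_mul]; simp,
          show k0 * (W.F.pz 1 0 * W.F.pz 0 1) * k0⁻¹
            = (k0 * W.F.pz 1 0 * k0⁻¹) * (k0 * W.F.pz 0 1 * k0⁻¹) by group,
          hk0z, hcd, W.F.pz_mul]
        simp
    rw [hab] at hlin
    obtain ⟨q1, q2⟩ := W.F.pz_inj hlin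
    have hij : ¬ (i = 0 ∧ j = 0) := fun ⟨a', b'⟩ => hw1 (by rw [a', b', W.F.pz_zero])
    have hcd0 : ¬ (c = 0 ∧ d = 0) := by
      rintro ⟨rfl, rfl⟩
      rw [W.F.pz_zero] at hcd
      exact hv1 (by rw [← W.F.pz_v]; exact conj_eq_one_iff.mp hcd)
    have hcd1 : ¬ (c = 0 ∧ d = 1) := by
      rintro ⟨rfl, rfl⟩
      exact zero_ne_one (W.F.pz_inj (mul_left_cancel (mul_right_cancel (hcd.trans hk0z.symm)))).1
    have key : ∀ i j c d : ZMod 2, ¬ (i = 0 ∧ j = 0) → ¬ (c = 0 ∧ d = 0) → ¬ (c = 0 ∧ d = 1) →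
        i = j * c → j = i + j * d → (i = 1 ∧ j = 1) := by decide
    obtain ⟨rfl, rfl⟩ := key i j c d hij hcd0 hcd1 q1 q2
    -- `k0` fixes `z v`, hence lies in `S0`, but moves `z`
    have hk0S0 := W.mem_S0_of_fix' hyI hyT hk0 (⟨1, 1, rfl⟩ : W.F.pz 1 1 ∈ W.V) hw1
      (mul_inv_eq_iff_eq_mul.mp hab) hk0y
    rw [W.F.pz_comm (W.mem_S0.1 hk0S0).2, mul_inv_cancel_right] at hk0z
    exact one_ne_zero (W.F.pz_inj hk0z).1
  refine ⟨fun x hx hxT => ?_, x0, hx0, hx0y.trans hye⟩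
  have hmem : k * x * k⁻¹ ∈ W.Et ⊓ T := Subgroup.mem_inf.mpr ⟨hxT, ⟨x, hx, rfl⟩⟩
  have hE : W.E ≤ W.Et ⊓ T := by
    have he1 : W.e1 ∈ W.Et ⊓ T := hye ▸ hy
    have huI : W.u ∈ W.Et ⊓ T := Subgroup.mem_inf.mpr ⟨W.u_mem_Et, W.u, W.u_mem_Et, by
      simp only [MulEquiv.coe_toMonoidHom, MulAut.conj_apply]
      exact mul_inv_eq_iff_eq_mul.mpr hkc⟩
    intro r hr
    rcases W.E_cases hr with rfl | rfl | rfl | rfl
    exacts [one_mem _, huI, he1, mul_mem huI he1]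
  obtain ⟨e, he, heI⟩ := W.exists_E (hpE ⟨_, hmem⟩)
  have h := hf (a₁ := ⟨_, hmem⟩) (a₂ := ⟨e, hE he⟩) (by
    obtain ⟨e1, e2⟩ := Fr.Is.unique W.F (hpI ⟨e, hE he⟩) heI
    exact Subtype.ext (Prod.ext e1.symm e2.symm))
  rw [Subtype.mk.injEq] at h
  rw [h]; exact he

/-- An element of `C(u)` moving `z` into `C(u, z)` normalises `E`. -/
theorem star {k : G} (hk : k ∈ W.Cu) (hm : k * W.F.z * k⁻¹ ∈ W.S) {x : G} (hx : x ∈ W.E) :
    k * x * k⁻¹ ∈ W.E := by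
  by_cases hV : k * W.F.z * k⁻¹ ∈ W.V
  · exact W.E_NV (W.nv_of hk ⟨1, 0, W.F.pz_z.symm⟩ W.F.z_ne hV) hx
  have hkc := W.mem_Cu.1 hk
  have hm' : k⁻¹ * W.F.z * k⁻¹⁻¹ ∈ W.S := by
    rw [inv_inv]
    refine W.mem_S.2 ⟨((Commute.mul_left (Commute.inv_left hkc) W.uz.symm).mul_left hkc).eq, ?_⟩
    calc k⁻¹ * W.F.z * k * W.F.z = k⁻¹ * (W.F.z * (k * W.F.z * k⁻¹)) * k := by group
      _ = k⁻¹ * (k * W.F.z * k⁻¹ * W.F.z) * k := by rw [(W.mem_S.1 hm).2]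
      _ = _ := by group
  have hV' : k⁻¹ * W.F.z * k⁻¹⁻¹ ∉ W.V := by
    intro h
    exact hV ((W.nv_of hk h (fun e => W.F.z_ne (conj_eq_one_iff.mp e))
      ⟨1, 0, by rw [W.F.pz_z]; group⟩).2 _ ⟨1, 0, W.F.pz_z.symm⟩)
  have hu : k * W.u * k⁻¹ = W.u := mul_inv_eq_iff_eq_mul.mpr hkc
  obtain ⟨-, x', hx', hxe⟩ := W.star_aux (inv_mem hk) hm' hV'
  have hke : k * W.e1 * k⁻¹ = x' := by rw [← hxe]; group
  have he : k * W.e1 * k⁻¹ ∈ W.E :=
    (W.star_aux hk hm hV).1 _ (W.E_le W.e1_mem) (hke ▸ hx')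
  rcases W.E_cases hx with rfl | rfl | rfl | rfl
  · rw [show k * 1 * k⁻¹ = 1 by group]; exact one_mem _
  · rw [hu]; exact W.u_mem_E
  · exact he
  · rw [show k * (W.u * W.e1) * k⁻¹ = k * W.u * k⁻¹ * (k * W.e1 * k⁻¹) by group, hu]
    exact mul_mem W.u_mem_E he

end Fu

end Cfsg.Agent.SuzType
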