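/-
The four group `E` is normal in `C(u)` in a group of Suzuki type (helper1).

* `Y0` : the centraliser of `E`; `Y0_two` : `S0` is a Sylow 2-subgroup of it
* `iso` : a conjugate of `e1` in `C(u, z)` lies in `E`
* `E_normal` : by the `Z*`-theorem in `C(u)` modulo `u`
-/
import Cfsg.Agent.Lib.SuzType.CentU

set_option autoImplicit false
open scoped commutatorElement

namespace Cfsg.Agent.SuzType

open Cfsg.Agent.Orth Cfsg.Agent.LargeExtraspecial Cfsg.Agent.LargeExtraspecial.Cfg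

set_option synthInstance.maxSize 1024

/-- A normal subgroup on which the three involutions of a four group act without fixed points is
trivial. -/
theorem fpf_trivial {H : Type*} [Group H] [Finite H] (N : Subgroup H) [N.Normal] (a b : H)
    (ha : a * a = 1) (hb : b * b = 1) (fa : ∀ x ∈ N, a * x = x * a → x = 1)
    (fb : ∀ x ∈ N, b * x = x * b → x = 1) (fab : ∀ x ∈ N, a * b * x = x * (a * b) → x = 1) :
    N = ⊥ := by
  have inv : ∀ c : H, c * c = 1 → (∀ x ∈ N, c * x = x * c → x = 1) →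
      ∀ x ∈ N, c * x * c = x⁻¹ := by
    intro c hc hf x hx
    have hci : c⁻¹ = c := inv_eq_of_mul_eq_one_right hc
    let f : N → N := fun y => ⟨(y : H)⁻¹ * (c * y * c), mul_mem (inv_mem y.2) (by
      have := (inferInstance : N.Normal).conj_mem _ y.2 c
      rwa [hci] at this)⟩
    have hinj : Function.Injective f := by
      rintro ⟨y, hy⟩ ⟨y', hy'⟩ he
      have he' : y⁻¹ * (c * y * c) = y'⁻¹ * (c * y' * c) := congrArg Subtype.val he
      refine Subtype.ext (mul_inv_eq_one.mp (hf _ (mul_mem hy (inv_mem hy')) ?_))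
      calc c * (y * y'⁻¹) = y * (y⁻¹ * (c * y * c)) * c⁻¹ * y'⁻¹ := by group
        _ = y * (y'⁻¹ * (c * y' * c)) * c⁻¹ * y'⁻¹ := by rw [he']
        _ = _ := by group
    obtain ⟨⟨y, hy⟩, hye⟩ := Finite.injective_iff_surjective.1 hinj ⟨x, hx⟩
    have e : y⁻¹ * (c * y * c) = x := congrArg Subtype.val hye
    rw [← e]
    calc c * (y⁻¹ * (c * y * c)) * c = c * y⁻¹ * c * y * (c * c) := by group
      _ = c⁻¹ * y⁻¹ * c⁻¹ * y := by rw [hc, mul_one, hci]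
      _ = (y⁻¹ * (c * y * c))⁻¹ := by group
  rw [Subgroup.eq_bot_iff_forall]
  intro x hx
  refine fab x hx ?_
  have h1 := inv b hb fb x hx
  have h2 := inv a ha fa x⁻¹ (inv_mem hx)
  rw [inv_inv, ← h1] at h2
  calc a * b * x = a * b * x * (b * b) := by rw [hb, mul_one]
    _ = a * (b * x * b) * (a * a) * b := by rw [ha]; group
    _ = a * (b * x * b) * a * (a * b) := by group
    _ = x * (a * b) := by rw [h2]

variable {G : Type*} [Group G] [Finite G]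

namespace Fu

variable (W : Fu G)

/-- The centraliser of `E`. -/
noncomputable def Y0 : Subgroup G := W.Cu ⊓ Subgroup.centralizer ({W.e1} : Set G)

theorem mem_Y0 {x : G} : x ∈ W.Y0 ↔ x * W.u = W.u * x ∧ x * W.e1 = W.e1 * x := by
  rw [Y0, Subgroup.mem_inf, W.mem_Cu, Subgroup.mem_centralizer_singleton_iff]

theorem Y0_le : W.Y0 ≤ W.Cu := inf_le_left

theorem S0_le_Y0 : W.S0 ≤ W.Y0 := fun _ hx =>
  W.mem_Y0.2 ⟨(W.mem_S0.1 hx).1, (W.Et_comm (W.E_le W.e1_mem) hx).symm⟩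

theorem e1_ne : W.e1 ≠ 1 := fun e => W0_ne (Fr.Is.unique W.F W.e1_Is (e ▸ W.F.Is_one)).1

theorem e1_ne_u : W.e1 ≠ W.u := fun e => by
  have h := (Fr.Is.unique W.F W.e1_Is (e ▸ W.hu)).1
  revert h; decide

theorem S_pgroup : IsPGroup 2 W.S := IsPGroup.of_card (n := 9) (by rw [W.card_S]; norm_num)

theorem pow_S {x : G} (hx : x ∈ W.S) : x ^ 512 = 1 := by
  rw [← W.card_S]; exact Subgroup.coe_pow W.S ⟨x, hx⟩ _ ▸ congrArg Subtype.val (pow_card_eq_one' (x := (⟨x, hx⟩ : W.S)))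

theorem exists_sylow_Y0 :
    ∃ P : Sylow 2 W.Y0, ∀ x : W.Y0, x ∈ (P : Subgroup W.Y0) ↔ (x : G) ∈ W.S0 := by
  classical
  haveI : Fact (Nat.Prime 2) := ⟨Nat.prime_two⟩
  have hS0 : IsPGroup 2 W.S0 := IsPGroup.of_card (n := 8) (by rw [W.card_S0]; norm_num)
  obtain ⟨P, hP⟩ := (hS0.of_equiv (Subgroup.subgroupOfEquivOfLe W.S0_le_Y0).symm).exists_le_sylow
  refine ⟨P, ?_⟩
  have hcard : Nat.card (P : Subgroup W.Y0) ≤ 256 := by
    by_contra hlt
    set T := (P : Subgroup W.Y0).map W.Y0.subtype with hT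
    have hTle : T ≤ W.Cu := by
      rintro _ ⟨x, -, rfl⟩
      exact W.Y0_le x.2
    obtain ⟨k, hk, hkT⟩ := W.into_S T hTle (P.2.map _)
    have hTc : Nat.card T = Nat.card (P : Subgroup W.Y0) :=
      Subgroup.card_map_of_injective W.Y0.subtype_injective
    have hle : T.map (MulAut.conj k).toMonoidHom ≤ W.S := by
      rintro _ ⟨x, hx, rfl⟩; exact hkT x hx
    have h512 : Nat.card (P : Subgroup W.Y0) = 512 := by
      obtain ⟨a, ha⟩ := IsPGroup.iff_card.1 P.2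
      have hd := Subgroup.card_dvd_of_le hle
      rw [Subgroup.card_map_of_injective (MulAut.conj k).injective, hTc, W.card_S, ha,
        show 512 = 2 ^ 9 by norm_num, Nat.pow_dvd_pow_iff_le_right (by norm_num)] at hd
      rw [ha] at hlt ⊢
      rcases Nat.lt_or_ge a 9 with h9 | h9
      · exact absurd (Nat.pow_le_pow_right (by norm_num : 0 < 2) (Nat.le_of_lt_succ h9)) hlt
      · rw [le_antisymm hd h9]; norm_num
    have heq := Subgroup.eq_of_le_of_card_ge hle (le_of_eq (by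
      rw [Subgroup.card_map_of_injective (MulAut.conj k).injective, hTc, h512, W.card_S]))
    have he1Y : W.e1 ∈ W.Y0 := W.S0_le_Y0 (W.Et_le (W.E_le W.e1_mem))
    have he1 : W.e1 ∈ T := ⟨⟨W.e1, he1Y⟩, hP (W.Et_le (W.E_le W.e1_mem)), rfl⟩
    set w := k * W.e1 * k⁻¹ with hw
    have hwS : w ∈ W.S := hkT _ he1
    have hwc : ∀ s ∈ W.S, s * w = w * s := by
      intro s hs
      rw [← heq] at hs
      obtain ⟨x, hx, rfl⟩ := hs
      obtain ⟨x', -, rfl⟩ := hx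
      simp only [MulEquiv.coe_toMonoidHom, MulAut.conj_apply, Subgroup.coe_subtype]
      calc k * ↑x' * k⁻¹ * w = k * (↑x' * W.e1) * k⁻¹ := by rw [hw]; group
        _ = k * (W.e1 * ↑x') * k⁻¹ := by rw [(W.mem_Y0.1 x'.2).2]
        _ = _ := by rw [hw]; group
    have hvS : W.F.v ∈ W.S := W.S0_le (W.Et_le (W.V_le_Et ⟨0, 1, W.F.pz_v.symm⟩))
    have hw0 : w ∈ W.S0 := W.mem_S0_of hwS (hwc _ hvS).symm
    obtain ⟨α, β, hp, hI⟩ := W.Et_of_central hw0 fun y hy => (hwc y (W.S0_le hy)).symm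
    obtain ⟨s, hs, hsv⟩ := W.exists_s
    have h2 := W.outer_conj hs (W.s_not_mem hsv) hI
    rw [mul_inv_eq_iff_eq_mul.mpr (hwc s hs)] at h2
    obtain ⟨e1, e2⟩ := Fr.Is.unique W.F h2 hI
    have hw1 : w ≠ 1 := fun e => W.e1_ne (conj_eq_one_iff.mp e)
    have hnz : ∀ x ∈ W.E, x ≠ 1 → ¬ IsConj W.F.z (k * x * k⁻¹) := fun x hx h1 hc =>
      W.E_not_conj hx h1 (hc.trans (isConj_iff.2 ⟨k⁻¹, by group⟩))
    have hV : ∀ x ∈ W.V, x ≠ 1 → IsConj W.F.z x := fun x hx h1 => by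
      obtain ⟨j, -, hj⟩ := W.exists_nv hx h1
      exact isConj_iff.2 ⟨j, hj⟩
    rcases etp_fixed α β hp ⟨e1, e2⟩ with ⟨rfl, rfl⟩ | ⟨rfl, rfl⟩
    · exact hnz _ W.e1_mem W.e1_ne (hV _ (Fr.Is.eq_pz W.F hI) hw1)
    · have h0 := Fr.Is.mul W.F W.hu hI
      rw [ZModModule.add_self, ZModModule.add_self] at h0
      have e : k * (W.u * W.e1) * k⁻¹ = W.u * w := by
        rw [hw, ← mul_assoc k, W.mem_Cu.1 hk]; group
      have hne : W.u * W.e1 ≠ 1 := fun h => W.e1_ne_u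
        ((eq_inv_of_mul_eq_one_right h).trans (inv_eq_of_mul_eq_one_right W.u_sq))
      refine hnz _ (mul_mem W.u_mem_E W.e1_mem) hne ?_
      rw [e]
      exact hV _ (Fr.Is.eq_pz W.F h0) (by rw [← e]; exact fun h => hne (conj_eq_one_iff.mp h))
  have hc0 : Nat.card (W.S0.subgroupOf W.Y0) = 256 := by
    rw [Nat.card_congr (Subgroup.subgroupOfEquivOfLe W.S0_le_Y0).toEquiv, W.card_S0]
  have he := Subgroup.eq_of_le_of_card_ge hP (hc0 ▸ hcard)
  intro x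
  rw [← he]
  exact Iff.rfl

/-- Every 2-subgroup of `Y0` is conjugate there into `S0`. -/
theorem Y0_two (T : Subgroup G) (hle : T ≤ W.Y0) (hT : IsPGroup 2 T) :
    ∃ k ∈ W.Y0, ∀ x ∈ T, k * x * k⁻¹ ∈ W.S0 := by
  haveI : Fact (Nat.Prime 2) := ⟨Nat.prime_two⟩
  obtain ⟨P, hP⟩ := W.exists_sylow_Y0
  obtain ⟨Q, hQ⟩ := (hT.of_equiv (Subgroup.subgroupOfEquivOfLe hle).symm).exists_le_sylow
  obtain ⟨k, hk⟩ := MulAction.exists_smul_eq W.Y0 Q P
  refine ⟨k, k.2, fun x hx => ?_⟩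
  have h : k * ⟨x, hle hx⟩ * k⁻¹ ∈ (P : Subgroup W.Y0) := by
    rw [← hk]
    exact ⟨⟨x, hle hx⟩, hQ hx, rfl⟩
  exact (hP _).1 h

theorem zpowers_pgroup {m : G} (hm : m * m = 1) : IsPGroup 2 (Subgroup.zpowers m) := by
  rintro ⟨x, i, rfl⟩
  refine ⟨1, Subtype.ext ?_⟩
  show ((m ^ i) ^ (2 ^ 1) : G) = 1
  rw [pow_one, sq, (Commute.refl m).mul_zpow i |>.symm, hm, one_zpow]

theorem iso {g : G} (hg : g ∈ W.Cu) (hS : g * W.e1 * g⁻¹ ∈ W.S) : g * W.e1 * g⁻¹ ∈ W.E := by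
  set m := g⁻¹ * W.F.z * g with hm
  have hgc := W.mem_Cu.1 hg
  have hmY : m ∈ W.Y0 := by
    refine W.mem_Y0.2 ⟨((Commute.mul_left (Commute.inv_left hgc) W.uz.symm).mul_left hgc).eq, ?_⟩
    calc m * W.e1 = g⁻¹ * (W.F.z * (g * W.e1 * g⁻¹)) * g := by rw [hm]; group
      _ = g⁻¹ * (g * W.e1 * g⁻¹ * W.F.z) * g := by rw [(W.mem_S.1 hS).2]
      _ = _ := by rw [hm]; group
  have hm2 : m * m = 1 := by
    calc m * m = g⁻¹ * (W.F.z * W.F.z) * g := by rw [hm]; group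
      _ = 1 := by rw [W.F.z_sq]; group
  obtain ⟨k, hk, hkm⟩ := W.Y0_two _ (by rwa [Subgroup.zpowers_le]) (zpowers_pgroup hm2)
  set a := k * g⁻¹ with ha
  have haC : a ∈ W.Cu := mul_mem (W.Y0_le hk) (inv_mem hg)
  have haz : a * W.F.z * a⁻¹ ∈ W.S := by
    have h := W.S0_le (hkm m (Subgroup.mem_zpowers m))
    rwa [show a * W.F.z * a⁻¹ = k * m * k⁻¹ by rw [ha, hm]; group]
  have hle : W.E.map (MulAut.conj a).toMonoidHom ≤ W.E := by
    rintro _ ⟨x, hx, rfl⟩; exact W.star haC haz hx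
  have h := W.e1_mem
  rw [← Subgroup.eq_of_le_of_card_ge hle (le_of_eq
    (Subgroup.card_map_of_injective (MulAut.conj a).injective).symm)] at h
  obtain ⟨x, hx, hxe⟩ := h
  simp only [MulEquiv.coe_toMonoidHom, MulAut.conj_apply] at hxe
  have he : k⁻¹ * W.e1 * k = W.e1 := by
    rw [← (W.mem_Y0.1 (inv_mem hk)).2.symm]; group
  have : g * W.e1 * g⁻¹ = x := by
    calc g * W.e1 * g⁻¹ = g * (k⁻¹ * W.e1 * k) * g⁻¹ := by rw [he]
      _ = g * (k⁻¹ * (a * x * a⁻¹) * k) * g⁻¹ := by rw [hxe]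
      _ = x := by rw [ha]; group
  rw [this]; exact hx

theorem cent_V_pow {y w : G} (hy : y ∈ W.Cu) (hw : w ∈ W.V) (h1 : w ≠ 1) (hyw : y * w = w * y) :
    y ^ 512 = 1 := by
  obtain ⟨j, hj, rfl⟩ := W.exists_nv hw h1
  have hj' := Commute.inv_left hj.1
  have hS : j⁻¹ * y * j ∈ W.S := W.mem_S.2
    ⟨((Commute.mul_left hj' (W.mem_Cu.1 hy)).mul_left hj.1).eq, by
      calc j⁻¹ * y * j * W.F.z = j⁻¹ * (y * (j * W.F.z * j⁻¹)) * j := by group
        _ = j⁻¹ * (j * W.F.z * j⁻¹ * y) * j := by rw [hyw]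
        _ = _ := by group⟩
  have h := W.pow_S hS
  rw [show j⁻¹ * y * j = j⁻¹ * y * j⁻¹⁻¹ by group, conj_pow, conj_eq_one_iff] at h
  exact h

/-- `E` is normal in `C(u)`. -/
theorem E_normal {g x : G} (hg : g ∈ W.Cu) (hx : x ∈ W.E) : g * x * g⁻¹ ∈ W.E := by
  classical
  haveI : Fact (Nat.Prime 2) := ⟨Nat.prime_two⟩
  set uC : W.Cu := ⟨W.u, W.mem_Cu.2 rfl⟩ with huC
  have hcomm : ∀ c : W.Cu, Commute c uC := fun c => Subtype.ext (W.mem_Cu.1 c.2)
  set U := Subgroup.zpowers uC with hU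
  haveI : U.Normal := ⟨fun y hy c => by
    obtain ⟨i, rfl⟩ := hy
    refine ⟨i, ?_⟩
    show uC ^ i = c * uC ^ i * c⁻¹
    rw [((hcomm c).zpow_right i).eq, mul_inv_cancel_right]⟩
  have hmemU : ∀ y : W.Cu, y ∈ U → (y : G) = 1 ∨ (y : G) = W.u := by
    intro y hy
    obtain ⟨i, rfl⟩ := hy
    have hu2 : (W.u : G) ^ (2 : ℤ) = 1 := by rw [zpow_two]; exact W.u_sq
    rcases Int.even_or_odd i with ⟨t, rfl⟩ | ⟨t, rfl⟩
    · left
      show W.u ^ (t + t) = 1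
      rw [← two_mul, zpow_mul, hu2, one_zpow]
    · right
      show W.u ^ (2 * t + 1) = W.u
      rw [zpow_add, zpow_mul, hu2, one_zpow, one_mul, zpow_one]
  -- the Sylow subgroup
  obtain ⟨P0, hP0⟩ := (W.S_pgroup.of_equiv (Subgroup.subgroupOfEquivOfLe W.S_le_Cu).symm).exists_le_sylow
  have hP0S : ∀ c : W.Cu, c ∈ (P0 : Subgroup W.Cu) → (c : G) ∈ W.S := by
    obtain ⟨k, hk, hkT⟩ := W.into_S ((P0 : Subgroup W.Cu).map W.Cu.subtype)
      (by rintro _ ⟨c, -, rfl⟩; exact c.2) (P0.2.map _)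
    have hle : ((P0 : Subgroup W.Cu).map W.Cu.subtype).map (MulAut.conj k).toMonoidHom ≤ W.S := by
      rintro _ ⟨y, hy, rfl⟩; exact hkT y hy
    have hc : Nat.card (P0 : Subgroup W.Cu) ≤ 512 := by
      have h := Nat.le_of_dvd Nat.card_pos (Subgroup.card_dvd_of_le hle)
      rwa [Subgroup.card_map_of_injective (MulAut.conj k).injective,
        Subgroup.card_map_of_injective W.Cu.subtype_injective, W.card_S] at h
    have he := Subgroup.eq_of_le_of_card_ge hP0 (by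
      rw [Nat.card_congr (Subgroup.subgroupOfEquivOfLe W.S_le_Cu).toEquiv, W.card_S]; exact hc)
    intro c hc
    rw [← he] at hc
    exact hc
  set π := QuotientGroup.mk' U with hπ
  let P : Sylow 2 (W.Cu ⧸ U) := P0.mapSurjective (QuotientGroup.mk'_surjective U)
  have hPS : ∀ c : W.Cu, π c ∈ (P : Subgroup (W.Cu ⧸ U)) → (c : G) ∈ W.S := by
    intro c hc
    obtain ⟨d, hd, hdc⟩ := hc
    have h1 : d⁻¹ * c ∈ U := QuotientGroup.eq.1 hdc
    have hdS := hP0S d hd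
    have e : (c : G) = (d : G) * ((d⁻¹ * c : W.Cu) : G) := by simp
    rw [e]
    rcases hmemU _ h1 with h | h <;> rw [h]
    · simpa using hdS
    · exact mul_mem hdS (W.S0_le W.u_mem_S0)
  have he1S : W.e1 ∈ W.S := W.S0_le (W.Et_le (W.E_le W.e1_mem))
  set eC : W.Cu := ⟨W.e1, W.S_le_Cu he1S⟩ with heC
  have heord : orderOf (π eC) = 2 := by
    refine orderOf_eq_prime ?_ fun h => ?_
    · rw [← map_pow, sq]
      have : eC * eC = 1 := Subtype.ext (W.Et_sq (W.E_le W.e1_mem))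
      rw [this, map_one]
    · rcases hmemU _ ((QuotientGroup.eq_one_iff _).1 h) with h | h
      exacts [W.e1_ne h, W.e1_ne_u h]
  have hiso : ∀ q : W.Cu ⧸ U, q * π eC * q⁻¹ ∈ P → q * π eC * q⁻¹ = π eC := by
    intro q hq
    obtain ⟨c, rfl⟩ := QuotientGroup.mk'_surjective U q
    rw [← map_inv, ← map_mul, ← map_mul] at hq ⊢
    have hcS := hPS _ hq
    have hE := W.iso c.2 hcS
    have hcu : (c : G) * W.u * (c : G)⁻¹ = W.u := mul_inv_eq_iff_eq_mul.mpr (W.mem_Cu.1 c.2)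
    rcases W.E_cases hE with h | h | h | h
    · exact absurd (conj_eq_one_iff.mp h) W.e1_ne
    · exact absurd (mul_left_cancel (mul_right_cancel (h.trans hcu.symm))) W.e1_ne_u
    · congr 1; exact Subtype.ext h
    · refine QuotientGroup.eq.2 ⟨1, Subtype.ext ?_⟩
      show W.u ^ (1 : ℤ) = ((c * eC * c⁻¹ : W.Cu) : G)⁻¹ * W.e1
      rw [zpow_one, show ((c * eC * c⁻¹ : W.Cu) : G) = W.u * W.e1 from h, mul_inv_rev,
        inv_eq_of_mul_eq_one_right W.u_sq,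
        inv_eq_of_mul_eq_one_right (W.Et_sq (W.E_le W.e1_mem)), mul_assoc,
        ← W.Et_comm (W.E_le W.e1_mem) W.u_mem_S0, ← mul_assoc,
        W.Et_sq (W.E_le W.e1_mem), one_mul]
  have hmemP : π eC ∈ (P : Subgroup (W.Cu ⧸ U)) := ⟨eC, hP0 he1S, rfl⟩
  obtain ⟨N, hN, hodd, hNc⟩ := Cfsg.Agent.S0215.result P (π eC) heord hmemP hiso
  haveI := hN
  -- the four group acts without fixed points
  have lift : ∀ (i j : ZMod 2), W.F.pz i j ∈ W.Cu := fun i j =>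
    W.S_le_Cu (W.S0_le (W.pz_mem_S0 i j))
  have hfix : ∀ (i j : ZMod 2), ¬ (i = 0 ∧ j = 0) → ∀ y ∈ N,
      π ⟨_, lift i j⟩ * y = y * π ⟨_, lift i j⟩ → y = 1 := by
    intro i j hij y hy hcy
    obtain ⟨c, rfl⟩ := QuotientGroup.mk'_surjective U y
    rw [← map_mul, ← map_mul] at hcy
    have h1 := QuotientGroup.eq.1 hcy
    have hw1 : W.F.pz i j ≠ 1 := fun e => hij (W.F.pz_eq_one e)
    have hcw : (c : G) * W.F.pz i j = W.F.pz i j * c := by
      rcases hmemU _ h1 with h | h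
      · simp only [Subgroup.coe_mul, InvMemClass.coe_inv] at h
        exact (inv_mul_eq_one.mp h).symm
      · exfalso
        simp only [Subgroup.coe_mul, InvMemClass.coe_inv] at h
        obtain ⟨t, -, htw⟩ := W.exists_nv (⟨i, j, rfl⟩ : W.F.pz i j ∈ W.V) hw1
        have hc : IsConj W.F.z (W.F.pz i j * W.u) := by
          refine (isConj_iff.2 ⟨t, htw⟩ : IsConj W.F.z (W.F.pz i j)).trans (isConj_iff.2 ⟨c, ?_⟩)
          have h' : (c : G) * W.F.pz i j = W.F.pz i j * c * W.u := inv_mul_eq_iff_eq_mul.mp h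
          rw [h', mul_assoc (W.F.pz i j), W.mem_Cu.1 c.2]
          group
        exact Fr.Is.not_conj W.F (Fr.Is.pz_mul W.F W.hu i j) qU_A0 qU_W0 bU_A0_W0 hc
    have hpow : π c ^ 512 = 1 := by
      rw [← map_pow, show c ^ 512 = 1 from Subtype.ext (by
        simpa using W.cent_V_pow c.2 ⟨i, j, rfl⟩ hw1 hcw), map_one]
    have h2 : orderOf (π c) ∣ 512 := orderOf_dvd_of_pow_eq_one hpow
    have h3 : orderOf (π c) ∣ Nat.card N := by
      rw [← Subgroup.orderOf_mk (π c) hy]; exact orderOf_dvd_natCard _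
    have h4 : Nat.Coprime 512 (Nat.card N) := by
      rw [show 512 = 2 ^ 9 by norm_num]
      exact Nat.Coprime.pow_left 9 (Nat.coprime_two_left.2 hodd)
    exact orderOf_eq_one_iff.1 (Nat.eq_one_of_dvd_coprimes h4 h2 h3)
  have hsq : ∀ i j, π ⟨_, lift i j⟩ * π ⟨_, lift i j⟩ = 1 := fun i j => by
    rw [← map_mul, show (⟨_, lift i j⟩ : W.Cu) * ⟨_, lift i j⟩ = 1 from Subtype.ext (W.F.pz_sq i j),
      map_one]
  have hN0 : N = ⊥ := fpf_trivial N (π ⟨_, lift 1 0⟩) (π ⟨_, lift 0 1⟩) (hsq 1 0) (hsq 0 1)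
    (hfix 1 0 (by simp)) (hfix 0 1 (by simp)) (fun y hy h => by
      refine hfix 1 1 (by simp) y hy ?_
      have e : π ⟨_, lift 1 0⟩ * π ⟨_, lift 0 1⟩ = π ⟨_, lift 1 1⟩ := by
        rw [← map_mul]; congr 1; exact Subtype.ext (by simp [W.F.pz_mul])
      rwa [e] at h)
  -- conclusion for `e1`
  have he : g * W.e1 * g⁻¹ ∈ W.E := by
    have h := hNc (π ⟨g, hg⟩)
    rw [hN0, Subgroup.mem_bot] at h
    have hp : π (eC * ⟨g, hg⟩ * eC⁻¹ * ⟨g, hg⟩⁻¹) = 1 := by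
      simpa only [map_mul, map_inv] using h
    rcases hmemU _ ((QuotientGroup.eq_one_iff _).1 hp) with h' | h' <;>
      simp only [Subgroup.coe_mul, InvMemClass.coe_inv] at h'
    · have : g * W.e1 * g⁻¹ = W.e1 := by
        have e : W.e1 * g * W.e1⁻¹ * g⁻¹ = 1 := h'
        calc g * W.e1 * g⁻¹ = (W.e1 * g * W.e1⁻¹ * g⁻¹)⁻¹ * W.e1 := by group
          _ = _ := by rw [e, inv_one, one_mul]
      rw [this]; exact W.e1_mem
    · have : g * W.e1 * g⁻¹ = W.u⁻¹ * W.e1 := by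
        have e : W.e1 * g * W.e1⁻¹ * g⁻¹ = W.u := h'
        calc g * W.e1 * g⁻¹ = (W.e1 * g * W.e1⁻¹ * g⁻¹)⁻¹ * W.e1 := by group
          _ = _ := by rw [e]
      rw [this]; exact mul_mem (inv_mem W.u_mem_E) W.e1_mem
  rcases W.E_cases hx with rfl | rfl | rfl | rfl
  · rw [show g * 1 * g⁻¹ = 1 by group]; exact one_mem _
  · rw [mul_inv_eq_iff_eq_mul.mpr (W.mem_Cu.1 hg)]; exact W.u_mem_E
  · exact he
  · rw [show g * (W.u * W.e1) * g⁻¹ = g * W.u * g⁻¹ * (g * W.e1 * g⁻¹) by group,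
      mul_inv_eq_iff_eq_mul.mpr (W.mem_Cu.1 hg)]
    exact mul_mem W.u_mem_E he

end Fu

end Cfsg.Agent.SuzType
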