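/-
The centraliser of `E` modulo `E` is `PSL₃(4)` in a group of Suzuki type (helper1).

* `Zt` : the conjugates of `z` in `C(u)`; one class of `Y0`; `zt_lift`, `zt_uniq` : lifts of involutions
* `normal_top` : a normal subgroup of `Y0` over `E` containing a conjugate of `z` is everything
* `l34` : `Y0 / E` is simple CIT, hence `PSL₃(4)`; `card_Y0`, `card_Cu`
-/
import Cfsg.Agent.Lib.SuzType.CentNormal
import Cfsg.Agent.Lib.CITClass.Main
import Cfsg.Agent.Lib.ThreeOrders.OuterL34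
import Cfsg.Agent.Lib.MaxOrders.Sz
import Cfsg.Agent.Lib.PSL2.Centralizers

set_option autoImplicit false
open scoped commutatorElement

namespace Cfsg.Agent.SuzType

open Cfsg.Agent.Orth Cfsg.Agent.LargeExtraspecial Cfsg.Agent.LargeExtraspecial.Cfg
open Fr (K1 K2 SingPar)

set_option synthInstance.maxSize 1024

theorem ker_dec : ∀ α β : U4, Ker α β → ∃ a b c d : ZMod 2,
    EtP (α + a • E0 + c • F0) (β + b • E0 + d • F0) := by
  decide +kernel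

theorem zp_gens : ZP E0 0 ∧ ZP 0 E0 ∧ ZP F0 0 ∧ ZP 0 F0 ∧ Ker G0 0 := by decide +kernel

theorem ker_inv_dec : ∀ α β : U4, Ker α β → qU α + bU α β = 0 → qU β + bU α β = 0 →
    ∃ p : U4 × U4, EtP p.1 p.2 ∧ ZP (α + p.1) (β + p.2) := by
  decide +kernel

theorem zp_add_etp : ∀ α β : U4, ZP α β → ∀ p q : U4, EtP p q → ZP (α + p) (β + q) →
    p = 0 ∧ q = 0 := by
  decide +kernel

variable {G : Type*} [Group G] [Finite G]

namespace Fu

variable (W : Fu G)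

/-- A conjugate of `z` in `C(u)`. -/
def Zt (x : G) : Prop := x ∈ W.Cu ∧ IsConj W.F.z x

theorem Zt.ne {x : G} (h : W.Zt x) : x ≠ 1 := by
  rintro rfl
  exact W.F.z_ne (isConj_one_left.mp h.2)

theorem Zt.sq {x : G} (h : W.Zt x) : x * x = 1 := by
  obtain ⟨g, rfl⟩ := isConj_iff.1 h.2
  calc g * W.F.z * g⁻¹ * (g * W.F.z * g⁻¹) = g * (W.F.z * W.F.z) * g⁻¹ := by group
    _ = 1 := by rw [W.F.z_sq]; group

theorem zt_z : W.Zt W.F.z := ⟨W.S_le_Cu W.z_mem_S, IsConj.refl _⟩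

theorem Zt.conj {g x : G} (h : W.Zt x) (hg : g ∈ W.Cu) : W.Zt (g * x * g⁻¹) :=
  ⟨mul_mem (mul_mem hg h.1) (inv_mem hg), h.2.trans (isConj_iff.2 ⟨g, rfl⟩)⟩

theorem outer_e1 {x : G} (hx : x ∈ W.S) (hx0 : x ∉ W.S0) : x * W.e1 * x⁻¹ = W.u * W.e1 := by
  rcases W.E_cases (W.E_normal (W.S_le_Cu hx) W.e1_mem) with h | h | h | h
  · exact absurd (conj_eq_one_iff.mp h) W.e1_ne
  · exact absurd (mul_left_cancel (mul_right_cancel
      (h.trans (mul_inv_eq_iff_eq_mul.mpr (W.mem_S.1 hx).1).symm))) W.e1_ne_u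
  · exact absurd (W.mem_S0_of_fix hx W.e1_Is (mul_inv_eq_iff_eq_mul.mp h)) hx0
  · exact h

theorem cu_e1 {g : G} (hg : g ∈ W.Cu) : g ∈ W.Y0 ∨ g * W.e1 * g⁻¹ = W.u * W.e1 := by
  rcases W.E_cases (W.E_normal hg W.e1_mem) with h | h | h | h
  · exact absurd (conj_eq_one_iff.mp h) W.e1_ne
  · exact absurd (mul_left_cancel (mul_right_cancel
      (h.trans (mul_inv_eq_iff_eq_mul.mpr (W.mem_Cu.1 hg)).symm))) W.e1_ne_u
  · exact Or.inl (W.mem_Y0.2 ⟨W.mem_Cu.1 hg, mul_inv_eq_iff_eq_mul.mp h⟩)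
  · exact Or.inr h

theorem outer_mul {x g : G} (hx : x ∈ W.S) (hx0 : x ∉ W.S0) (hg : g ∈ W.Cu)
    (hgY : g ∉ W.Y0) : x * g ∈ W.Y0 := by
  refine W.mem_Y0.2 ⟨(Commute.mul_left (W.mem_S.1 hx).1 (W.mem_Cu.1 hg)).eq,
    mul_inv_eq_iff_eq_mul.mp ?_⟩
  calc x * g * W.e1 * (x * g)⁻¹ = x * (g * W.e1 * g⁻¹) * x⁻¹ := by group
    _ = x * W.u * x⁻¹ * (x * W.e1 * x⁻¹) := by rw [(W.cu_e1 hg).resolve_left hgY]; group
    _ = W.e1 := by
      rw [W.outer_e1 hx hx0, mul_inv_eq_iff_eq_mul.mpr (W.mem_S.1 hx).1, ← mul_assoc, W.u_sq, one_mul]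

theorem S_Y0 {x : G} (hx : x ∈ W.S) (hY : x ∈ W.Y0) : x ∈ W.S0 :=
  W.mem_S0_of_fix hx W.e1_Is (W.mem_Y0.1 hY).2

theorem E_le_Y0 : W.E ≤ W.Y0 := fun _ hx => W.S0_le_Y0 (W.Et_le (W.E_le hx))

theorem Y0_E {x e : G} (hx : x ∈ W.Y0) (he : e ∈ W.E) : x * e = e * x := by
  obtain ⟨hxu, hx1⟩ := W.mem_Y0.1 hx
  rcases W.E_cases he with rfl | rfl | rfl | rfl
  · rw [mul_one, one_mul]
  · exact hxu
  · exact hx1
  · exact (Commute.mul_right hxu hx1).eq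

theorem Zt.mem_Y0 {m : G} (h : W.Zt m) : m ∈ W.Y0 := by
  obtain ⟨k, hk, hkm⟩ := W.conj_z h.1 h.2
  refine W.mem_Y0.2 ⟨W.mem_Cu.1 h.1, ?_⟩
  have he := W.E_normal hk W.e1_mem
  have hz := W.Y0_E (W.S0_le_Y0 W.z_mem_S0) he
  calc m * W.e1 = k⁻¹ * (k * m * k⁻¹ * (k * W.e1 * k⁻¹)) * k := by group
    _ = k⁻¹ * (k * W.e1 * k⁻¹ * (k * m * k⁻¹)) * k := by rw [hkm, hz]
    _ = _ := by group

theorem zt_conj {m : G} (h : W.Zt m) : ∃ k ∈ W.Y0, k * W.F.z * k⁻¹ = m := by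
  obtain ⟨k, hk, hkm⟩ := W.conj_z h.1 h.2
  by_cases hY : k ∈ W.Y0
  · exact ⟨k⁻¹, inv_mem hY, by rw [← hkm]; group⟩
  · obtain ⟨s, hs, hsv⟩ := W.exists_s
    refine ⟨(s * k)⁻¹, inv_mem (W.outer_mul hs (W.s_not_mem hsv) hk hY), ?_⟩
    calc (s * k)⁻¹ * W.F.z * (s * k)⁻¹⁻¹ = k⁻¹ * (s⁻¹ * W.F.z * s⁻¹⁻¹) * k := by group
      _ = k⁻¹ * W.F.z * k := by rw [W.z_conj (inv_mem hs)]
      _ = m := by rw [← hkm]; group

theorem zt_cent {m c : G} (h : W.Zt m) (hc : c ∈ W.Cu) (hcm : c * m = m * c) : c ^ 512 = 1 := by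
  obtain ⟨k, hk, rfl⟩ := W.zt_conj h
  have hk' := W.Y0_le hk
  have hS : k⁻¹ * c * k ∈ W.S := W.mem_S.2
    ⟨W.mem_Cu.1 (mul_mem (mul_mem (inv_mem hk') hc) hk'), by
      calc k⁻¹ * c * k * W.F.z = k⁻¹ * (c * (k * W.F.z * k⁻¹)) * k := by group
        _ = k⁻¹ * (k * W.F.z * k⁻¹ * c) * k := by rw [hcm]
        _ = _ := by group⟩
  have h := W.pow_S hS
  rwa [show k⁻¹ * c * k = k⁻¹ * c * k⁻¹⁻¹ by group, conj_pow, conj_eq_one_iff] at h

theorem zt_uniq {m m' : G} (h : W.Zt m) (h' : W.Zt m') (he : m⁻¹ * m' ∈ W.E) : m = m' := by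
  obtain ⟨k, hk, hkm⟩ := W.zt_conj h
  set e := m⁻¹ * m' with hedef
  have hk' := W.Y0_le hk
  have hez : W.Zt (W.F.z * e) := by
    have hc := Zt.conj W h' (inv_mem hk')
    have e1 : k⁻¹ * m' * k⁻¹⁻¹ = W.F.z * e := by
      calc k⁻¹ * m' * k⁻¹⁻¹ = k⁻¹ * (m * e) * k := by rw [hedef]; group
        _ = W.F.z * (k⁻¹ * e * k) := by rw [← hkm]; group
        _ = W.F.z * e := by rw [mul_assoc k⁻¹, ← W.Y0_E hk he]; group
    rwa [e1] at hc
  have hS : W.F.z * e ∈ W.S := mul_mem W.z_mem_S (W.S0_le (W.Et_le (W.E_le he)))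
  obtain ⟨-, α, β, hzp, hI⟩ := (W.zty_iff hS).1 hez.2
  obtain ⟨p, q, hp, hIe⟩ := W.E_le he
  have hz0 : W.F.Is W.F.z 0 0 := by rw [← W.F.pz_z]; exact W.F.Is_pz 1 0
  obtain ⟨a1, a2⟩ := Fr.Is.unique W.F hI (Fr.Is.mul W.F hz0 hIe)
  rw [zero_add] at a1 a2
  subst a1; subst a2
  obtain ⟨rfl, rfl⟩ := zp_add_etp 0 0 (Or.inl ⟨rfl, rfl⟩) α β hp (by rwa [zero_add, zero_add])
  exact inv_mul_eq_one.mp (W.E_unique he (one_mem _) hIe W.F.Is_one)

theorem zt_lift {x : G} (hx : x ∈ W.Y0) (h2 : x * x ∈ W.E) (hxE : x ∉ W.E) :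
    ∃ e ∈ W.E, ∃ m, W.Zt m ∧ x = e * m := by
  have hT : IsPGroup 2 (Subgroup.zpowers x) := by
    rintro ⟨y, i, rfl⟩
    refine ⟨2, Subtype.ext ?_⟩
    show ((x ^ i) ^ (2 ^ 2) : G) = 1
    have h4 : x ^ (4 : ℤ) = 1 := by
      rw [show (4 : ℤ) = 2 + 2 from rfl, zpow_add, zpow_two]; exact W.Et_sq (W.E_le h2)
    rw [show (2 : ℕ) ^ 2 = 4 from rfl, ← zpow_natCast, ← zpow_mul, mul_comm i, zpow_mul]
    show (x ^ (4 : ℤ)) ^ i = 1
    rw [h4, one_zpow]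
  obtain ⟨k, hk, hkx⟩ := W.Y0_two _ (by rwa [Subgroup.zpowers_le]) hT
  have hy := hkx x (Subgroup.mem_zpowers x)
  set y := k * x * k⁻¹ with hy'
  obtain ⟨α, β, hker, hI⟩ := W.mem_S0_iff.1 hy
  have hkc : ∀ e ∈ W.E, k * e * k⁻¹ = e := fun e he =>
    mul_inv_eq_iff_eq_mul.mpr (W.Y0_E hk he)
  have hsq : y * y = x * x := by
    calc y * y = k * (x * x) * k⁻¹ := by rw [hy']; group
      _ = x * x := hkc _ h2
  have h1 := Fr.Is.sq W.F hI
  rw [hsq] at h1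
  have hone : x * x = 1 := W.E_inter_V h2 ⟨_, _, h1⟩
  rw [hone] at h1
  obtain ⟨k1, k2⟩ := W.F.pz_eq_one h1.symm
  obtain ⟨p, hp, hzp⟩ := ker_inv_dec α β hker k1 k2
  obtain ⟨e, he, hIe⟩ := W.exists_E hp
  have hm1 : e * y ≠ 1 := fun h => hxE (by
    have hyE : y ∈ W.E := by rw [eq_inv_of_mul_eq_one_right h]; exact inv_mem he
    have : x = y := by
      calc x = k⁻¹ * y * k := by rw [hy']; group
        _ = y := by rw [mul_assoc, ← W.Y0_E hk hyE]; group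
    rwa [this])
  have hmI := Fr.Is.mul W.F hIe hI
  rw [add_comm p.1, add_comm p.2] at hmI
  have hmS : e * y ∈ W.S := W.S0_le (mul_mem (W.Et_le (W.E_le he)) hy)
  have hmc : IsConj W.F.z (e * y) := (W.zty_iff hmS).2 ⟨hm1, _, _, hzp, hmI⟩
  refine ⟨e, he, k⁻¹ * (e * y) * k⁻¹⁻¹,
    Zt.conj W ⟨W.S_le_Cu hmS, hmc⟩ (inv_mem (W.Y0_le hk)), ?_⟩
  have hee : e * e = 1 := W.Et_sq (W.E_le he)
  calc x = k⁻¹ * ((e * e) * y) * k := by rw [hee, hy']; group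
    _ = k⁻¹ * e * (e * y) * k := by group
    _ = e * (k⁻¹ * (e * y) * k⁻¹⁻¹) := by rw [W.Y0_E (inv_mem hk) he]; group

theorem Y0_two_card {T : Subgroup G} (hle : T ≤ W.Y0) (hT : IsPGroup 2 T) : Nat.card T ≤ 256 := by
  obtain ⟨k, -, hkT⟩ := W.Y0_two T hle hT
  rw [← W.card_S0, ← Subgroup.card_map_of_injective (K := T) (f := (MulAut.conj k).toMonoidHom) (MulAut.conj k).injective]
  exact Subgroup.card_le_of_le (by rintro _ ⟨x, hx, rfl⟩; exact hkT x hx)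

/-- A normal subgroup of `Y0` over `E` containing a conjugate of `z` is everything. -/
theorem normal_top (R : Subgroup G) (hle : R ≤ W.Y0) (hn : ∀ g ∈ W.Y0, ∀ r ∈ R, g * r * g⁻¹ ∈ R)
    (hE : W.E ≤ R) {m₁ : G} (hm₁ : W.Zt m₁) (hm₁R : m₁ ∈ R) : W.Y0 ≤ R := by
  haveI : Fact (Nat.Prime 2) := ⟨Nat.prime_two⟩
  have hzt : ∀ m, W.Zt m → m ∈ R := by
    intro m hm
    obtain ⟨k, hk, rfl⟩ := W.zt_conj hm
    obtain ⟨k', hk', rfl⟩ := W.zt_conj hm₁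
    have h := hn (k * k'⁻¹) (mul_mem hk (inv_mem hk')) _ hm₁R
    rwa [show k * k'⁻¹ * (k' * W.F.z * k'⁻¹) * (k * k'⁻¹)⁻¹ = k * W.F.z * k⁻¹ by group] at h
  have hVz : ∀ w ∈ W.V, w ≠ 1 → W.Zt w := fun w hw h1 => by
    obtain ⟨j, hj, hjw⟩ := W.exists_nv hw h1
    exact ⟨W.S_le_Cu (W.S0_le (W.Et_le (W.V_le_Et hw))), isConj_iff.2 ⟨j, hjw⟩⟩
  have hVR : ∀ w ∈ W.V, w ∈ R := fun w hw => by
    by_cases h1 : w = 1
    · rw [h1]; exact one_mem _
    · exact hzt w (hVz w hw h1)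
  -- the four generators
  have hgen : ∀ a b : U4, ZP a b → ∃ r ∈ R, W.F.Is r a b := by
    intro a b hab
    obtain ⟨r, hr⟩ := W.F.exists_Is a b
    by_cases h1 : r = 1
    · exact ⟨1, one_mem _, h1 ▸ hr⟩
    have hrS := W.S0_le (W.mem_S0_iff.2 ⟨a, b, (zp_ker a b hab).2, hr⟩)
    exact ⟨r, hzt r ⟨W.S_le_Cu hrS, (W.zty_iff hrS).2 ⟨h1, a, b, hab, hr⟩⟩, hr⟩
  have hS0R : W.S0 ≤ R := by
    intro x hx
    obtain ⟨α, β, hk, hI⟩ := W.mem_S0_iff.1 hx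
    obtain ⟨a, b, c, d, hdec⟩ := ker_dec α β hk
    obtain ⟨e, he, hIe⟩ := W.exists_E hdec
    obtain ⟨g1, g2, g3, g4, -⟩ := zp_gens
    have hpick : ∀ (t : ZMod 2) (p q : U4), ZP p q → ∃ r ∈ R, W.F.Is r (t • p) (t • q) := by
      intro t p q h
      rcases z2 t with rfl | rfl
      · exact ⟨1, one_mem _, by rw [zero_smul, zero_smul]; exact W.F.Is_one⟩
      · rw [one_smul, one_smul]; exact hgen p q h
    obtain ⟨r1, hr1, hI1⟩ := hpick a _ _ g1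
    obtain ⟨r2, hr2, hI2⟩ := hpick b _ _ g2
    obtain ⟨r3, hr3, hI3⟩ := hpick c _ _ g3
    obtain ⟨r4, hr4, hI4⟩ := hpick d _ _ g4
    have hI' := Fr.Is.mul W.F (Fr.Is.mul W.F (Fr.Is.mul W.F (Fr.Is.mul W.F hI hI1) hI2) hI3) hI4
    rw [smul_zero, smul_zero, smul_zero, smul_zero, add_zero, add_zero, add_zero, add_zero] at hI'
    obtain ⟨i, j, hij⟩ := Fr.Is.eq_mul_pz W.F hIe hI'
    have hprod : x * r1 * r2 * r3 * r4 ∈ R := by
      rw [hij]; exact mul_mem (hE he) (hVR _ ⟨i, j, rfl⟩)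
    have : x = x * r1 * r2 * r3 * r4 * (r1 * r2 * r3 * r4)⁻¹ := by group
    rw [this]; exact mul_mem hprod (inv_mem (mul_mem (mul_mem (mul_mem hr1 hr2) hr3) hr4))
  have hzV : W.F.z ∈ W.V := ⟨1, 0, W.F.pz_z.symm⟩
  let Rel : G → G → Prop := fun a b => ∃ g ∈ R, g * a * g⁻¹ = b
  have rtrans : ∀ {a b c}, Rel a b → Rel b c → Rel a c := by
    rintro a b c ⟨g, hg, rfl⟩ ⟨g', hg', rfl⟩
    exact ⟨g' * g, mul_mem hg' hg, by group⟩
  have rsymm : ∀ {a b}, Rel a b → Rel b a := by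
    rintro a b ⟨g, hg, rfl⟩
    exact ⟨g⁻¹, inv_mem hg, by group⟩
  have fuse : ∀ m ∈ W.S, W.Zt m → m ∉ W.V → ∀ w ∈ W.V, w ≠ 1 → Rel w m := by
    intro m hmS hm hmV w hw hw1
    obtain ⟨k, hk, hkm⟩ := W.zt_conj hm
    have hk' := W.Y0_le hk
    obtain ⟨hm0, -⟩ := W.zty_par hmS hm.2 hmV
    have hwm : w * m = m * w := W.Et_comm (W.V_le_Et hw) hm0
    set w' := k⁻¹ * w * k⁻¹⁻¹ with hw'
    have hw'Z : W.Zt w' := Zt.conj W (hVz w hw hw1) (inv_mem hk')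
    have hw'S : w' ∈ W.S := by
      refine W.mem_S.2 ⟨W.mem_Cu.1 hw'Z.1, ?_⟩
      calc w' * W.F.z = k⁻¹ * (w * m) * k := by rw [hw', ← hkm]; group
        _ = k⁻¹ * (m * w) * k := by rw [hwm]
        _ = _ := by rw [hw', ← hkm]; group
    have hw'V : w' ∉ W.V := fun h => hmV (by
      rw [← hkm]
      exact (W.nv_of hk' h (Zt.ne W hw'Z) (by
        rw [hw', show k * (k⁻¹ * w * k⁻¹⁻¹) * k⁻¹ = w by group]; exact hw)).2 _ hzV)
    obtain ⟨g, hg, hge⟩ := W.coset_conj hw'S hw'Z.2 hw'V hzV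
    have h1 : Rel w (m * w) := by
      refine ⟨k * g * k⁻¹, hn k hk g (hS0R hg), ?_⟩
      calc k * g * k⁻¹ * w * (k * g * k⁻¹)⁻¹ = k * (g * w' * g⁻¹) * k⁻¹ := by rw [hw']; group
        _ = w * m := by rw [hge, hw', ← hkm]; group
        _ = m * w := hwm
    obtain ⟨g', hg', hge'⟩ := W.coset_conj hmS hm.2 hmV hw
    exact rtrans h1 (rsymm ⟨g', hS0R hg', hge'⟩)
  -- a member of the class outside `V`
  obtain ⟨m₀, hm₀I⟩ := W.F.exists_Is E0 0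
  have hm₀n : m₀ ∉ W.V := fun ⟨i, j, h⟩ =>
    E0_ne (Fr.Is.unique W.F hm₀I (h ▸ W.F.Is_pz i j)).1
  have hm₀1 : m₀ ≠ 1 := fun h => hm₀n (h ▸ one_mem _)
  have hm₀S : m₀ ∈ W.S :=
    W.S0_le (W.mem_S0_iff.2 ⟨E0, 0, (zp_ker _ _ zp_gens.1).2, hm₀I⟩)
  have hm₀Z : W.Zt m₀ :=
    ⟨W.S_le_Cu hm₀S, (W.zty_iff hm₀S).2 ⟨hm₀1, E0, 0, zp_gens.1, hm₀I⟩⟩
  have hRel : ∀ m ∈ W.S, W.Zt m → Rel W.F.z m := by
    intro m hmS hm
    by_cases hmV : m ∈ W.V
    · exact rtrans (fuse m₀ hm₀S hm₀Z hm₀n _ hzV W.F.z_ne)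
        (rsymm (fuse m₀ hm₀S hm₀Z hm₀n m hmV (Zt.ne W hm)))
    · exact fuse m hmS hm hmV _ hzV W.F.z_ne
  -- Sylow in `R`
  have hS0c : Nat.card (W.S0.subgroupOf R) = 256 := by
    rw [Nat.card_congr (Subgroup.subgroupOfEquivOfLe hS0R).toEquiv, W.card_S0]
  obtain ⟨P, hP⟩ := (IsPGroup.of_card (p := 2) (n := 8) (G := W.S0.subgroupOf R)
    (by rw [hS0c]; norm_num)).exists_le_sylow
  have hPeq : W.S0.subgroupOf R = (P : Subgroup R) := Subgroup.eq_of_le_of_card_ge hP (by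
    rw [hS0c, ← Subgroup.card_map_of_injective (K := (P : Subgroup R)) (f := R.subtype) R.subtype_injective]
    exact W.Y0_two_card (by rintro _ ⟨x, -, rfl⟩; exact hle x.2) (P.2.map _))
  intro g hg
  set m := g * W.F.z * g⁻¹
  have hm : W.Zt m := Zt.conj W W.zt_z (W.Y0_le hg)
  obtain ⟨Q, hQ⟩ := ((zpowers_pgroup (Zt.sq W hm)).of_equiv (Subgroup.subgroupOfEquivOfLe
    (show Subgroup.zpowers m ≤ R by rw [Subgroup.zpowers_le]; exact hzt m hm)).symm).exists_le_sylow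
  obtain ⟨r, hr⟩ := MulAction.exists_smul_eq R Q P
  have hrm : (r : G) * m * (r : G)⁻¹ ∈ W.S0 := by
    have h : r * ⟨m, hzt m hm⟩ * r⁻¹ ∈ (P : Subgroup R) := by
      rw [← hr]
      exact ⟨⟨m, hzt m hm⟩, hQ (Subgroup.mem_zpowers m), rfl⟩
    rw [← hPeq] at h
    exact h
  obtain ⟨r', hr', hre⟩ := hRel _ (W.S0_le hrm) (Zt.conj W hm (W.Y0_le (hle r.2)))
  have hrY : r'⁻¹ * r * g ∈ W.Y0 := mul_mem (mul_mem (inv_mem (hle hr')) (hle r.2)) hg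
  have hS : r'⁻¹ * r * g ∈ W.S := W.mem_S.2 ⟨(W.mem_Y0.1 hrY).1, mul_inv_eq_iff_eq_mul.mp (by
    calc r'⁻¹ * r * g * W.F.z * (r'⁻¹ * r * g)⁻¹ = r'⁻¹ * (r * (g * W.F.z * g⁻¹) * (r : G)⁻¹) * r' := by group
      _ = W.F.z := by rw [← hre]; group)⟩
  have h := hS0R (W.S_Y0 hS hrY)
  have : g = (r : G)⁻¹ * r' * (r'⁻¹ * r * g) := by group
  rw [this]; exact mul_mem (mul_mem (inv_mem r.2) hr') h

/-- The quotient map. -/
noncomputable abbrev EY : Subgroup W.Y0 := W.E.subgroupOf W.Y0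

instance EY_normal : (W.EY).Normal := ⟨fun x hx g => by
  show ((g * x * g⁻¹ : W.Y0) : G) ∈ W.E
  have e : ((g * x * g⁻¹ : W.Y0) : G) = (x : G) := by
    simp only [Subgroup.coe_mul, InvMemClass.coe_inv]
    exact mul_inv_eq_iff_eq_mul.mpr (W.Y0_E g.2 hx)
  rw [e]; exact hx⟩

theorem mk_eq_one {x : W.Y0} : QuotientGroup.mk' W.EY x = 1 ↔ (x : G) ∈ W.E :=
  QuotientGroup.eq_one_iff _

theorem mk_eq {x y : W.Y0} :
    QuotientGroup.mk' W.EY x = QuotientGroup.mk' W.EY y ↔ (x : G)⁻¹ * y ∈ W.E :=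
  QuotientGroup.eq

theorem n0_mem : W.n0 ∈ W.Y0 :=
  W.mem_Y0.2 ⟨W.n0_cyc.1, mul_inv_eq_iff_eq_mul.mp (W.mem_E'.1 W.e1_mem).2⟩

theorem not_mem_E {x : G} (hx : x ∈ W.V) (h1 : x ≠ 1) : x ∉ W.E := fun h => h1 (W.E_inter_V h hx)

theorem simple : IsSimpleGroup (W.Y0 ⧸ W.EY) := by
  classical
  haveI : Fact (Nat.Prime 2) := ⟨Nat.prime_two⟩
  set π := QuotientGroup.mk' W.EY with hπ
  haveI : Nontrivial (W.Y0 ⧸ W.EY) :=
    ⟨⟨π ⟨W.F.z, W.S0_le_Y0 W.z_mem_S0⟩, 1,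
      fun h => W.not_mem_E ⟨1, 0, W.F.pz_z.symm⟩ W.F.z_ne ((W.mk_eq_one).1 h)⟩⟩
  refine ⟨fun N hN => ?_⟩
  set R := (N.comap π).map W.Y0.subtype with hR
  have memR : ∀ {x : W.Y0}, π x ∈ N → (x : G) ∈ R := fun {x} hx => ⟨x, hx, rfl⟩
  by_cases hz : ∃ m, W.Zt m ∧ m ∈ R
  · right
    obtain ⟨m, hm, hmR⟩ := hz
    have h := W.normal_top R (by rintro _ ⟨x, -, rfl⟩; exact x.2) (by
        rintro g hg _ ⟨x, hx, rfl⟩
        refine ⟨⟨g, hg⟩ * x * ⟨g, hg⟩⁻¹, ?_, rfl⟩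
        show π (⟨g, hg⟩ * x * ⟨g, hg⟩⁻¹) ∈ N
        rw [map_mul, map_mul, map_inv]; exact hN.conj_mem _ hx _)
      (fun e he => memR (x := ⟨e, W.E_le_Y0 he⟩) (by rw [(W.mk_eq_one).2 he]; exact one_mem _))
      hm hmR
    rw [Subgroup.eq_top_iff']
    intro y
    obtain ⟨x, rfl⟩ := QuotientGroup.mk'_surjective W.EY y
    obtain ⟨x', hx', hxx⟩ := h x.2
    obtain rfl : x' = x := Subtype.ext hxx
    exact hx'
  · left
    have hodd : Odd (Nat.card N) := by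
      rw [← Nat.not_even_iff_odd, even_iff_two_dvd]
      intro h2
      obtain ⟨y, hy⟩ := exists_prime_orderOf_dvd_card' 2 h2
      obtain ⟨x, hx⟩ := QuotientGroup.mk'_surjective W.EY (y : W.Y0 ⧸ W.EY)
      have hy1 : (y : W.Y0 ⧸ W.EY) ≠ 1 := fun h => by
        rw [← Subgroup.orderOf_coe, h, orderOf_one] at hy; omega
      have hy2 : (y : W.Y0 ⧸ W.EY) * y = 1 := by
        rw [← sq, ← hy, ← Subgroup.orderOf_coe, pow_orderOf_eq_one]
      rw [← hx] at hy1 hy2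
      rw [← map_mul] at hy2
      obtain ⟨e, he, m, hm, hxe⟩ := W.zt_lift x.2 ((W.mk_eq_one).1 hy2)
        (fun h => hy1 ((W.mk_eq_one).2 h))
      refine hz ⟨m, hm, ?_⟩
      have : π ⟨m, Zt.mem_Y0 W hm⟩ = π x := by
        rw [W.mk_eq]
        rw [show ((⟨m, Zt.mem_Y0 W hm⟩ : W.Y0) : G)⁻¹ * x = e by
          rw [hxe, ← W.Y0_E (Zt.mem_Y0 W hm) he]; simp]
        exact he
      exact memR (x := ⟨m, Zt.mem_Y0 W hm⟩) (by rw [this, hx]; exact y.2)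
    have lift : ∀ i j, W.F.pz i j ∈ W.Y0 := fun i j => W.S0_le_Y0 (W.pz_mem_S0 i j)
    have hfix : ∀ (i j : ZMod 2), ¬ (i = 0 ∧ j = 0) → ∀ y ∈ N,
        π ⟨_, lift i j⟩ * y = y * π ⟨_, lift i j⟩ → y = 1 := by
      intro i j hij y hy hcy
      obtain ⟨c, rfl⟩ := QuotientGroup.mk'_surjective W.EY y
      have hw1 : W.F.pz i j ≠ 1 := fun e => hij (W.F.pz_eq_one e)
      obtain ⟨t, -, htw⟩ := W.exists_nv (⟨i, j, rfl⟩ : W.F.pz i j ∈ W.V) hw1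
      have hwZ : W.Zt (W.F.pz i j) := ⟨W.Y0_le (lift i j), isConj_iff.2 ⟨t, htw⟩⟩
      have heq : π ⟨_, lift i j⟩ = π (c * ⟨_, lift i j⟩ * c⁻¹) := by
        rw [map_mul, map_mul, map_inv, ← hcy, mul_inv_cancel_right]
      rw [W.mk_eq] at heq
      have hu := W.zt_uniq hwZ (Zt.conj W hwZ (W.Y0_le c.2)) heq
      have hcw : (c : G) * W.F.pz i j = W.F.pz i j * c := mul_inv_eq_iff_eq_mul.mp hu.symm
      have hpow : π c ^ 512 = 1 := by
        rw [← map_pow, show c ^ 512 = 1 from Subtype.ext (by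
          simpa using W.zt_cent hwZ (W.Y0_le c.2) hcw), map_one]
      have h3 : orderOf (π c) ∣ Nat.card N := by
        rw [← Subgroup.orderOf_mk (π c) hy]; exact orderOf_dvd_natCard _
      have h4 : Nat.Coprime 512 (Nat.card N) := by
        rw [show 512 = 2 ^ 9 by norm_num]
        exact Nat.Coprime.pow_left 9 (Nat.coprime_two_left.2 hodd)
      exact orderOf_eq_one_iff.1
        (Nat.eq_one_of_dvd_coprimes h4 (orderOf_dvd_of_pow_eq_one hpow) h3)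
    have hsq : ∀ i j, π ⟨_, lift i j⟩ * π ⟨_, lift i j⟩ = 1 := fun i j => by
      rw [← map_mul, show (⟨_, lift i j⟩ : W.Y0) * ⟨_, lift i j⟩ = 1 from
        Subtype.ext (W.F.pz_sq i j), map_one]
    exact fpf_trivial N (π ⟨_, lift 1 0⟩) (π ⟨_, lift 0 1⟩) (hsq 1 0) (hsq 0 1)
      (hfix 1 0 (by simp)) (hfix 0 1 (by simp)) (fun y hy h => by
        refine hfix 1 1 (by simp) y hy ?_
        have e : π ⟨_, lift 1 0⟩ * π ⟨_, lift 0 1⟩ = π ⟨_, lift 1 1⟩ := by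
          rw [← map_mul]; congr 1; exact Subtype.ext (by simp [W.F.pz_mul])
        rwa [e] at h)

theorem cit : CIT.IsCIT (W.Y0 ⧸ W.EY) := by
  intro t ht
  obtain ⟨x, rfl⟩ := QuotientGroup.mk'_surjective W.EY t
  have h1 : (x : G) ∉ W.E := fun h => by
    rw [(W.mk_eq_one).2 h, orderOf_one] at ht; omega
  have h2 : (x : G) * x ∈ W.E := (W.mk_eq_one (x := x * x)).1 (by
    rw [map_mul, ← sq, ← ht, pow_orderOf_eq_one])
  obtain ⟨e, he, m, hm, hxe⟩ := W.zt_lift x.2 h2 h1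
  rintro ⟨y, hy⟩
  obtain ⟨c, rfl⟩ := QuotientGroup.mk'_surjective W.EY y
  rw [Subgroup.mem_centralizer_singleton_iff, ← map_mul, ← map_mul, W.mk_eq] at hy
  simp only [Subgroup.coe_mul] at hy
  have hcm : (c : G) * m = m * c := by
    have hu := W.zt_uniq (Zt.conj W hm (W.Y0_le c.2)) hm (by
      have e1 : ((c : G) * m * (c : G)⁻¹)⁻¹ * m = (c : G) * (((c : G) * x)⁻¹ * (x * c)) * (c : G)⁻¹ := by
        calc ((c : G) * m * (c : G)⁻¹)⁻¹ * m = (c : G) * m⁻¹ * (e⁻¹ * e) * ((c : G)⁻¹ * m) := by group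
          _ = (c : G) * (e * m)⁻¹ * ((e * (c : G)⁻¹) * m) := by group
          _ = (c : G) * (e * m)⁻¹ * ((c : G)⁻¹ * e * m) := by rw [← W.Y0_E (inv_mem c.2) he]
          _ = _ := by rw [hxe]; group
      rw [e1, W.Y0_E c.2 hy, mul_inv_cancel_right]
      exact hy)
    exact mul_inv_eq_iff_eq_mul.mp hu
  refine ⟨9, Subtype.ext ?_⟩
  show QuotientGroup.mk' W.EY c ^ 2 ^ 9 = 1
  rw [← map_pow, show c ^ 2 ^ 9 = 1 from Subtype.ext (by
    simpa using W.zt_cent hm (W.Y0_le c.2) hcm), map_one]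

theorem three_dvd : 3 ∣ Nat.card (W.Y0 ⧸ W.EY) := by
  by_contra h
  set a := QuotientGroup.mk' W.EY ⟨W.n0, W.n0_mem⟩
  have hn := W.n0_cyc
  have hc : W.n0 ^ (3 * 256) = 1 := by
    rw [pow_mul, show W.n0 ^ 3 = W.n0 * W.n0 * W.n0 by rw [pow_succ, pow_two]]
    have h1 := congrArg Subtype.val (pow_card_eq_one' (x := (⟨_, W.cube_mem hn⟩ : W.S0)))
    rw [W.card_S0] at h1
    exact h1
  have h1 : orderOf a ∣ 3 * 256 := orderOf_dvd_of_pow_eq_one (by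
    rw [← map_pow, show (⟨W.n0, W.n0_mem⟩ : W.Y0) ^ (3 * 256) = 1 from Subtype.ext (by simpa using hc),
      map_one])
  have h2 : orderOf a ∣ 256 := (Nat.Coprime.dvd_of_dvd_mul_left
    (Nat.Coprime.symm (Nat.prime_three.coprime_iff_not_dvd.2 fun hd =>
      h (hd.trans (orderOf_dvd_natCard _)))) h1)
  have hE : W.n0 ^ 256 ∈ W.E := (W.mk_eq_one (x := ⟨W.n0, W.n0_mem⟩ ^ 256)).1 (by
    rw [map_pow]; exact orderOf_dvd_iff_pow_eq_one.1 h2)
  -- it centralises `z`, hence so does `n0`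
  have hzc : W.n0 ^ 256 * W.F.z = W.F.z * W.n0 ^ 256 :=
    ((W.Y0_E (W.S0_le_Y0 W.z_mem_S0) hE).symm)
  have h3 : W.n0 ^ 3 * W.F.z = W.F.z * W.n0 ^ 3 := by
    rw [pow_succ, pow_two]; exact (W.F.mem_D.1 (W.mem_S0.1 (W.cube_mem hn)).2).1
  have h4 : W.n0 * W.F.z = W.F.z * W.n0 := by
    have e : W.n0 = W.n0 ^ 256 * ((W.n0 ^ 3) ^ 85)⁻¹ := by
      rw [← pow_mul, eq_mul_inv_iff_mul_eq, ← pow_succ']
    rw [e]
    exact (Commute.mul_left hzc (Commute.inv_left (Commute.pow_left h3 85))).eq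
  exact W.F.v_ne_z (hn.2.1.symm.trans (mul_inv_eq_iff_eq_mul.mpr h4))

theorem card_cent_z :
    Nat.card (Subgroup.centralizer
      ({QuotientGroup.mk' W.EY ⟨W.F.z, W.S0_le_Y0 W.z_mem_S0⟩} : Set (W.Y0 ⧸ W.EY))) = 64 := by
  set f := (QuotientGroup.mk' W.EY).comp (Subgroup.inclusion W.S0_le_Y0) with hf
  have hEle : W.E ≤ W.S0 := fun x hx => W.Et_le (W.E_le hx)
  have hker : f.ker = W.E.subgroupOf W.S0 := by
    ext x
    rw [MonoidHom.mem_ker, hf, MonoidHom.comp_apply, W.mk_eq_one]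
    exact Iff.rfl
  have hrange : f.range = Subgroup.centralizer
      ({QuotientGroup.mk' W.EY ⟨W.F.z, W.S0_le_Y0 W.z_mem_S0⟩} : Set (W.Y0 ⧸ W.EY)) := by
    ext y
    rw [Subgroup.mem_centralizer_singleton_iff]
    constructor
    · rintro ⟨x, rfl⟩
      rw [hf, MonoidHom.comp_apply, ← map_mul, ← map_mul]
      congr 1
      exact Subtype.ext (W.F.mem_D.1 (W.mem_S0.1 x.2).2).1
    · intro hy
      obtain ⟨c, rfl⟩ := QuotientGroup.mk'_surjective W.EY y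
      have heq : QuotientGroup.mk' W.EY ⟨W.F.z, W.S0_le_Y0 W.z_mem_S0⟩ =
          QuotientGroup.mk' W.EY (c * ⟨W.F.z, W.S0_le_Y0 W.z_mem_S0⟩ * c⁻¹) := by
        rw [map_mul, map_mul, map_inv, hy, mul_inv_cancel_right]
      rw [W.mk_eq] at heq
      have hu := W.zt_uniq W.zt_z (Zt.conj W W.zt_z (W.Y0_le c.2)) heq
      have hcS : (c : G) ∈ W.S :=
        W.mem_S.2 ⟨(W.mem_Y0.1 c.2).1, mul_inv_eq_iff_eq_mul.mp hu.symm⟩
      exact ⟨⟨c, W.S_Y0 hcS c.2⟩, rfl⟩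
  rw [← hrange, ← Subgroup.index_ker, hker]
  have h := Subgroup.card_mul_index (W.E.subgroupOf W.S0)
  rw [Nat.card_congr (Subgroup.subgroupOfEquivOfLe hEle).toEquiv, W.card_E, W.card_S0] at h
  omega

theorem l34 : ThreeOrders.L34 (W.Y0 ⧸ W.EY) := by
  haveI := W.simple
  haveI : Fact (Nat.Prime 2) := ⟨Nat.prime_two⟩
  set π := QuotientGroup.mk' W.EY with hπ
  set zb := π ⟨W.F.z, W.S0_le_Y0 W.z_mem_S0⟩ with hzb
  have hz1 : zb ≠ 1 := fun h =>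
    W.not_mem_E ⟨1, 0, W.F.pz_z.symm⟩ W.F.z_ne ((W.mk_eq_one).1 h)
  have hz2 : orderOf zb = 2 := orderOf_eq_prime (by
    rw [sq, hzb, ← map_mul, show (⟨W.F.z, W.S0_le_Y0 W.z_mem_S0⟩ : W.Y0) * ⟨W.F.z, W.S0_le_Y0 W.z_mem_S0⟩ = 1
      from Subtype.ext W.F.z_sq, map_one]) hz1
  have hnc : ∃ a b : W.Y0 ⧸ W.EY, a * b ≠ b * a := by
    refine ⟨π ⟨W.n0, W.n0_mem⟩, zb, fun h => ?_⟩
    have heq : zb = π (⟨W.n0, W.n0_mem⟩ * ⟨W.F.z, W.S0_le_Y0 W.z_mem_S0⟩ * ⟨W.n0, W.n0_mem⟩⁻¹) := by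
      rw [map_mul, map_mul, map_inv, ← hzb, h, mul_inv_cancel_right]
    rw [hzb, W.mk_eq] at heq
    simp only [Subgroup.coe_mul, InvMemClass.coe_inv] at heq
    rw [W.n0_cyc.2.1] at heq
    refine W.F.v_ne_z (inv_mul_eq_one.mp (W.E_inter_V heq ?_)).symm
    exact mul_mem (inv_mem ⟨1, 0, W.F.pz_z.symm⟩) ⟨0, 1, W.F.pz_v.symm⟩
  have hC := W.card_cent_z
  rcases CITClass.classify hnc W.cit with ⟨F, _, _, hF, ⟨e⟩⟩ | ⟨F, _, _, hF, ⟨e⟩⟩ | ⟨F, _, _, m, hm, hF, ⟨e⟩⟩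
  · exfalso
    have hC' : Nat.card (Subgroup.centralizer ({e zb} : Set (PSL2.PSL2 F))) = 64 := by
      rw [← hC]
      refine Nat.card_congr (Equiv.subtypeEquiv e.toEquiv fun a => ?_).symm
      simp only [Subgroup.mem_centralizer_singleton_iff, MulEquiv.toEquiv_eq_coe, MulEquiv.coe_toEquiv,
        hzb, hπ, ← map_mul, e.injective.eq_iff]
    have he2 : orderOf (e zb) = 2 := by rw [MulEquiv.orderOf_eq, hz2]
    have two : (∃ n : ℕ, Fintype.card F = 2 ^ n) → False := by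
      rintro ⟨n, hn⟩
      haveI : CharP F 2 := charP_of_card_eq_prime_pow (f := n) hn
      obtain ⟨t, ht⟩ := W.F.exists_Is G0 0
      have htS := W.mem_S0_iff.2 ⟨G0, 0, zp_gens.2.2.2.2, ht⟩
      set tb := π ⟨t, W.S0_le_Y0 htS⟩ with htb
      have ht2 : tb * tb = zb := by
        rw [htb, hzb, ← map_mul]
        congr 1
        refine Subtype.ext ?_
        show t * t = W.F.z
        rw [Fr.Is.sq W.F ht, qU_G0, bU_zero_right, add_zero, qU_zero, add_zero, W.F.pz_z]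
      have ht4 : orderOf tb = 4 := by
        refine orderOf_eq_prime_pow (p := 2) (n := 1) ?_ ?_
        · rw [pow_one, sq, ht2]; exact hz1
        · rw [show (2 : ℕ) ^ (1 + 1) = 2 * 2 from rfl, pow_mul, sq tb, ht2, sq, ← sq, ← hz2,
            pow_orderOf_eq_one]
      have h4 : orderOf (e tb) = 4 := by rw [MulEquiv.orderOf_eq, ht4]
      obtain ⟨y, hy, -, hord⟩ := PSL2.centralizer_torus (x := e tb) 2 (by rw [h4]; norm_num) (by rw [h4]; norm_num)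
      have hdvd : 4 ∣ orderOf y := h4 ▸ orderOf_dvd_of_mem_zpowers hy
      have hn1 : n ≠ 0 := by
        rintro rfl
        rw [pow_zero] at hn
        exact absurd hn (Nat.ne_of_gt Fintype.one_lt_card)
      have he : Even (2 ^ n) := Nat.even_pow.2 ⟨even_two, hn1⟩
      have hg : Nat.gcd 2 (Nat.card F - 1) = 1 := by
        rw [Nat.card_eq_fintype_card, hn]
        refine (Nat.prime_two.coprime_iff_not_dvd).2 ?_
        have := Nat.one_le_two_pow (n := n)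
        rw [Nat.even_iff] at he
        omega
      have := Nat.one_le_two_pow (n := n)
      rw [Nat.even_iff] at he
      rcases hord with h | h <;>
        · rw [hg, Nat.div_one, Nat.card_eq_fintype_card, hn] at h
          rw [h] at hdvd
          omega
    rcases hF with h9 | h | ⟨hp, k, hk⟩
    · have hodd : Odd (Nat.card F) := by rw [Nat.card_eq_fintype_card, h9]; decide
      have h := (PSL2.card_centralizer_involution hodd he2).1 (by rw [Nat.card_eq_fintype_card, h9])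
      rw [hC', Nat.card_eq_fintype_card, h9] at h
      omega
    · exact two h
    · rcases eq_or_ne (Fintype.card F) 2 with h2 | h2
      · exact two ⟨1, by rw [h2, pow_one]⟩
      · have hodd : Odd (Nat.card F) := by
          rw [Nat.card_eq_fintype_card]; exact hp.odd_of_ne_two h2
        have h4 : Nat.card F % 4 = 1 ∨ Nat.card F % 4 = 3 := by
          rw [Nat.odd_iff] at hodd; omega
        have hc := PSL2.card_centralizer_involution hodd he2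
        rw [hC'] at hc
        rcases h4 with h4 | h4
        · have h65 := hc.1 h4
          rw [Nat.card_eq_fintype_card] at h65
          rw [show Fintype.card F = 65 by omega] at hp
          norm_num at hp
        · have h63 := hc.2 h4
          rw [Nat.card_eq_fintype_card] at h63
          rw [show Fintype.card F = 63 by omega] at hp
          norm_num at hp
  · exact ThreeOrders.L34.of_equiv hF e
  · exfalso
    refine MaxOrders.three_not_dvd hm hF ?_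
    rw [← Nat.card_congr (e.trans (Suzuki.lieEquiv hm hF).symm).toEquiv]
    exact W.three_dvd

theorem card_Y0 : Nat.card W.Y0 = 80640 := by
  rw [Subgroup.card_eq_card_quotient_mul_card_subgroup W.EY, W.l34.card,
    Nat.card_congr (Subgroup.subgroupOfEquivOfLe W.E_le_Y0).toEquiv, W.card_E]

theorem card_Cu : Nat.card W.Cu = 161280 := by
  classical
  obtain ⟨s, hs, hsv⟩ := W.exists_s
  have hs0 := W.s_not_mem hsv
  have hsY : s ∉ W.Y0 := fun h => hs0 (W.S_Y0 hs h)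
  let f : Bool × W.Y0 → W.Cu := fun q =>
    ⟨(if q.1 then s⁻¹ else 1) * q.2.1,
      mul_mem (by split <;> [exact inv_mem (W.S_le_Cu hs); exact one_mem _]) (W.Y0_le q.2.2)⟩
  have hf : Function.Bijective f := by
    constructor
    · rintro ⟨a, x, hx⟩ ⟨b, y, hy⟩ he
      have he' : (if a then s⁻¹ else 1) * x = (if b then s⁻¹ else 1) * y := congrArg Subtype.val he
      cases a <;> cases b <;> simp only [Bool.false_eq_true, if_false, if_true, one_mul] at he'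
      · subst he'; rfl
      · exact absurd (by rw [show s = y * x⁻¹ by rw [he']; group]
                         exact mul_mem hy (inv_mem hx)) hsY
      · exact absurd (by rw [show s = x * y⁻¹ by rw [← he']; group]
                         exact mul_mem hx (inv_mem hy)) hsY
      · obtain rfl := mul_left_cancel he'; rfl
    · rintro ⟨x, hx⟩
      by_cases hxY : x ∈ W.Y0
      · exact ⟨(false, ⟨x, hxY⟩), Subtype.ext (one_mul x)⟩
      · exact ⟨(true, ⟨s * x, W.outer_mul hs hs0 hx hxY⟩), Subtype.ext (inv_mul_cancel_left s x)⟩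
  rw [← Nat.card_congr (Equiv.ofBijective f hf), Nat.card_prod, W.card_Y0,
    Nat.card_eq_fintype_card, Fintype.card_bool]

end Fu

end Cfsg.Agent.SuzType
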