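/-
The derived subgroup of `C(E)` and the pairs of involutions attached to `u` in a group of Suzuki
type (helper1).

* `L` : a complement to `E` in `C(E)`, isomorphic to `PSL₃(4)`; its involutions are the conjugates of
  `z` in `C(u)`
* `count_u` : there are 193 conjugates `y` of `u` with `u ∈ ⟨z y⟩`
-/
import Cfsg.Agent.Lib.SuzType.CentK

set_option autoImplicit false
open scoped commutatorElement

namespace Cfsg.Agent.SuzType

open Cfsg.Agent.Orth Cfsg.Agent.LargeExtraspecial Cfsg.Agent.LargeExtraspecial.Cfg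
open Fr (K1 K2 SingPar)

set_option synthInstance.maxSize 1024

theorem zp_card : (Finset.univ.filter fun p : U4 × U4 => ZP p.1 p.2).card = 7 := by decide +kernel

theorem zp_card' :
    (Finset.univ.filter fun p : U4 × U4 => ZP p.1 p.2 ∧ ¬ (p.1 = 0 ∧ p.2 = 0)).card = 6 := by
  decide +kernel

theorem zp_partner : ∀ α β : U4, ZP α β → ¬ (α = 0 ∧ β = 0) →
    (Finset.univ.filter fun p : U4 × U4 =>
      ZP p.1 p.2 ∧ (K1 α β p.1 p.2 = 1 ∧ K2 α β p.1 p.2 = 0)).card = 1 := by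
  decide +kernel

/-- An element generated by two involutions commutes with each of them if it is an involution. -/
theorem comm_of_dihedral {H : Type*} [Group H] {x y w : H} (hx : x * x = 1) (hy : y * y = 1)
    (hw : w * w = 1) (h : w ∈ Subgroup.zpowers (x * y)) : x * w = w * x ∧ y * w = w * y := by
  obtain ⟨i, rfl⟩ := h
  have hxi : x⁻¹ = x := inv_eq_of_mul_eq_one_right hx
  have hyi : y⁻¹ = y := inv_eq_of_mul_eq_one_right hy
  have hwi : ((x * y) ^ i)⁻¹ = (x * y) ^ i := inv_eq_of_mul_eq_one_right hw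
  constructor
  · refine mul_inv_eq_iff_eq_mul.mp ?_
    calc x * (x * y) ^ i * x⁻¹ = (x * (x * y) * x⁻¹) ^ i := conj_zpow.symm
      _ = ((x * y)⁻¹) ^ i := by
        congr 1
        rw [hxi, mul_inv_rev, hxi, hyi, ← mul_assoc x x y, hx, one_mul]
      _ = (x * y) ^ i := by rw [inv_zpow, hwi]
  · refine mul_inv_eq_iff_eq_mul.mp ?_
    calc y * (x * y) ^ i * y⁻¹ = (y * (x * y) * y⁻¹) ^ i := conj_zpow.symm
      _ = ((x * y)⁻¹) ^ i := by
        congr 1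
        rw [hyi, mul_inv_rev, hxi, hyi, mul_assoc, mul_assoc, hy, mul_one]
      _ = (x * y) ^ i := by rw [inv_zpow, hwi]

/-- A conjugacy orbit of a subgroup. -/
theorem orbit_card {H : Type*} [Group H] [Finite H] (K : Subgroup H) (a : H) :
    Nat.card {b : H // ∃ k ∈ K, k * a * k⁻¹ = b} *
      Nat.card ↥(K ⊓ Subgroup.centralizer ({a} : Set H)) = Nat.card K := by
  classical
  set C := (Subgroup.centralizer ({a} : Set H)).subgroupOf K with hC
  let f : K ⧸ C → {b : H // ∃ k ∈ K, k * a * k⁻¹ = b} := fun q =>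
    ⟨(q.out : H) * a * (q.out : H)⁻¹, q.out, q.out.2, rfl⟩
  have hf : Function.Bijective f := by
    constructor
    · intro p q h
      have h' : (p.out : H) * a * (p.out : H)⁻¹ = (q.out : H) * a * (q.out : H)⁻¹ :=
        congrArg Subtype.val h
      rw [← p.out_eq, ← q.out_eq]
      refine QuotientGroup.eq.2 ?_
      refine Subgroup.mem_subgroupOf.2 (Subgroup.mem_centralizer_singleton_iff.2 ?_)
      simp only [Subgroup.coe_mul, InvMemClass.coe_inv]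
      calc (p.out : H)⁻¹ * q.out * a = (p.out : H)⁻¹ * ((q.out : H) * a * (q.out : H)⁻¹) * q.out := by group
        _ = (p.out : H)⁻¹ * ((p.out : H) * a * (p.out : H)⁻¹) * q.out := by rw [h']
        _ = _ := by group
    · rintro ⟨b, k, hk, rfl⟩
      refine ⟨((⟨k, hk⟩ : K) : K ⧸ C), Subtype.ext ?_⟩
      obtain ⟨⟨c, hc⟩, he⟩ := QuotientGroup.mk_out_eq_mul C ⟨k, hk⟩
      replace hc := Subgroup.mem_centralizer_singleton_iff.1 (Subgroup.mem_subgroupOf.1 hc)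
      simp only [f, he, Subgroup.coe_mul]
      calc k * c * a * (k * c)⁻¹ = k * (c * a) * (c : H)⁻¹ * k⁻¹ := by group
        _ = k * a * k⁻¹ := by rw [hc]; group
  rw [← Nat.card_congr (Equiv.ofBijective f hf),
    Nat.card_congr (Subgroup.subgroupOfEquivOfLe
      (inf_le_left : K ⊓ Subgroup.centralizer ({a} : Set H) ≤ K)).toEquiv.symm,
    Subgroup.inf_subgroupOf_left, mul_comm, ← Subgroup.index_eq_card, Subgroup.card_mul_index]

variable {G : Type*} [Group G] [Finite G]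

namespace Fu

variable (W : Fu G)

/-- Counting a set of elements given by parameters. -/
theorem card_par_set (P : U4 → U4 → Prop) [DecidableRel P] :
    Nat.card {x : G // ∃ α β, P α β ∧ W.F.Is x α β} =
      4 * (Finset.univ.filter fun p : U4 × U4 => P p.1 p.2).card := by
  choose r hr using fun p : U4 × U4 => W.F.exists_Is p.1 p.2
  let f : {p : U4 × U4 // P p.1 p.2} × (ZMod 2 × ZMod 2) → {x : G // ∃ α β, P α β ∧ W.F.Is x α β} :=
    fun q => ⟨r q.1.1 * W.F.pz q.2.1 q.2.2, _, _, q.1.2, Fr.Is.mul_pz W.F (hr _) _ _⟩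
  have hf : Function.Bijective f := by
    constructor
    · rintro ⟨⟨p, hp⟩, i, j⟩ ⟨⟨p', hp'⟩, i', j'⟩ he
      have he' : r p * W.F.pz i j = r p' * W.F.pz i' j' := congrArg Subtype.val he
      obtain ⟨e1, e2⟩ := Fr.Is.unique W.F (Fr.Is.mul_pz W.F (hr p) i j)
        (he' ▸ Fr.Is.mul_pz W.F (hr p') i' j')
      obtain rfl : p = p' := Prod.ext e1 e2
      obtain ⟨rfl, rfl⟩ := W.F.pz_inj (mul_left_cancel he')
      rfl
    · rintro ⟨x, α, β, hP, hI⟩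
      obtain ⟨i, j, rfl⟩ := Fr.Is.eq_mul_pz W.F (hr (α, β)) hI
      exact ⟨⟨⟨(α, β), hP⟩, i, j⟩, rfl⟩
  rw [← Nat.card_congr (Equiv.ofBijective f hf), Nat.card_prod, Nat.card_prod, Nat.card_zmod,
    Nat.card_eq_fintype_card, Fintype.card_subtype]
  ring

/-- The derived subgroup of `C(E)`. -/
noncomputable def L : Subgroup G := ⁅W.Y0, W.Y0⁆

theorem L_le : W.L ≤ W.Y0 := Subgroup.commutator_le_self W.Y0

theorem Y0_normal {g x : G} (hg : g ∈ W.Cu) (hx : x ∈ W.Y0) : g * x * g⁻¹ ∈ W.Y0 := by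
  have hgi := inv_mem hg
  refine W.mem_Y0.2 ⟨W.mem_Cu.1 (mul_mem (mul_mem hg (W.Y0_le hx)) hgi), ?_⟩
  have he := W.E_normal hgi W.e1_mem
  calc g * x * g⁻¹ * W.e1 = g * (x * (g⁻¹ * W.e1 * g⁻¹⁻¹)) * g⁻¹ := by group
    _ = g * (g⁻¹ * W.e1 * g⁻¹⁻¹ * x) * g⁻¹ := by rw [W.Y0_E hx he]
    _ = _ := by group

theorem L_conj {g l : G} (hg : g ∈ W.Cu) (hl : l ∈ W.L) : g * l * g⁻¹ ∈ W.L := by
  have hle : W.Y0.map (MulAut.conj g).toMonoidHom ≤ W.Y0 := by
    rintro _ ⟨x, hx, rfl⟩; exact W.Y0_normal hg hx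
  have h : g * l * g⁻¹ ∈ W.L.map (MulAut.conj g).toMonoidHom := ⟨l, hl, rfl⟩
  rw [L, Subgroup.map_commutator] at h
  exact Subgroup.commutator_mono hle hle h

theorem V_le_L : W.V ≤ W.L := by
  have hn := W.n0_cyc
  have hz : W.F.z ∈ W.Y0 := W.S0_le_Y0 W.z_mem_S0
  have h0 : W.F.pz 1 1 ∈ W.L := by
    have h := Subgroup.commutator_mem_commutator W.n0_mem hz
    rw [commutatorElement_def, hn.2.1, inv_eq_of_mul_eq_one_right W.F.z_sq, ← W.F.zv,
      ← W.F.pz_zv] at h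
    exact h
  have h1 : W.F.pz 1 0 ∈ W.L := by
    have h := W.L_conj (W.mem_Cu.2 hn.1) h0
    rwa [Cyc.pz W hn, show (1 : ZMod 2) + 1 = 0 by decide] at h
  rintro _ ⟨i, j, rfl⟩
  rcases z2 i with rfl | rfl <;> rcases z2 j with rfl | rfl
  · rw [W.F.pz_zero]; exact one_mem _
  · have h := mul_mem h1 h0
    rwa [W.F.pz_mul, show (1 : ZMod 2) + 1 = 0 by decide, zero_add] at h
  · exact h1
  · exact h0

theorem zt_mem_L {m : G} (hm : W.Zt m) : m ∈ W.L := by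
  obtain ⟨k, hk, rfl⟩ := W.zt_conj hm
  exact W.L_conj (W.Y0_le hk) (W.V_le_L ⟨1, 0, W.F.pz_z.symm⟩)

theorem L_inter_E {x : G} (hx : x ∈ W.L) (hE : x ∈ W.E) : x = 1 := by
  classical
  set H := W.S0.subgroupOf W.Y0 with hH
  set φ : H →* Abelianization H := Abelianization.of with hφ
  have hxY : x ∈ W.Y0 := W.E_le_Y0 hE
  set g : W.Y0 := ⟨x, hxY⟩ with hg
  have hcent : ∀ (k : ℕ) (g₀ : W.Y0), g₀⁻¹ * g ^ k * g₀ ∈ H → g₀⁻¹ * g ^ k * g₀ = g ^ k := by
    intro k g₀ _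
    have hc : Commute g g₀ := Subtype.ext (W.Y0_E g₀.2 hE).symm
    rw [mul_assoc, (hc.pow_left k).eq, inv_mul_cancel_left]
  have ht := MonoidHom.transfer_eq_pow φ g hcent
  have h1 : (MonoidHom.transfer φ) g = 1 := by
    have hg' : g ∈ commutator W.Y0 := by
      have hx' : x ∈ (commutator W.Y0).map W.Y0.subtype := by
        rw [commutator_def, Subgroup.map_commutator, ← MonoidHom.range_eq_map, Subgroup.range_subtype]
        exact hx
      obtain ⟨y, hy, hyx⟩ := hx'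
      obtain rfl : y = g := Subtype.ext hyx
      exact hy
    exact Abelianization.commutator_subset_ker _ hg'
  rw [h1] at ht
  have hidx : H.index = 315 := by
    have h := H.card_mul_index
    rw [W.card_Y0, Nat.card_congr (Subgroup.subgroupOfEquivOfLe W.S0_le_Y0).toEquiv, W.card_S0] at h
    omega
  have hmem := (QuotientGroup.eq_one_iff _).1 ht.symm
  have hV : (commutator H).map (W.Y0.subtype.comp H.subtype) ≤ W.V := by
    rw [commutator_def, Subgroup.map_commutator, Subgroup.commutator_le]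
    rintro _ ⟨a, -, rfl⟩ _ ⟨b, -, rfl⟩
    obtain ⟨α, β, -, hI⟩ := W.mem_S0_iff.1 a.2
    obtain ⟨α', β', -, hI'⟩ := W.mem_S0_iff.1 b.2
    refine ⟨K1 α β α' β', K2 α β α' β', ?_⟩
    rw [commutatorElement_def, mul_inv_eq_iff_eq_mul, mul_inv_eq_iff_eq_mul]
    refine (Fr.Is.comm W.F hI hI').trans ?_
    show _ = _ * W.Y0.subtype b * W.Y0.subtype a
    rw [mul_assoc (W.F.pz _ _)]
    exact W.F.pz_comm (mul_mem (Fr.Is.mem_D W.F hI') (Fr.Is.mem_D W.F hI)) _ _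
  have hv := hV ⟨_, hmem, rfl⟩
  have he : x ^ 315 = x := by
    have h2 : x ^ 2 = 1 := by rw [sq]; exact W.Et_sq (W.E_le hE)
    rw [show 315 = 2 * 157 + 1 from rfl, pow_succ, pow_mul, h2, one_pow, one_mul]
  refine W.E_inter_V hE ?_
  rw [← he]
  simpa [hidx, hg] using hv

theorem decomp_Y0 {y : G} (hy : y ∈ W.Y0) : ∃ e ∈ W.E, ∃ l ∈ W.L, y = e * l := by
  haveI := W.simple
  set π := QuotientGroup.mk' W.EY with hπ
  set N := (W.L.subgroupOf W.Y0).map π with hN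
  haveI : (W.L.subgroupOf W.Y0).Normal := ⟨fun a ha g => by
    show ((g * a * g⁻¹ : W.Y0) : G) ∈ W.L
    exact W.L_conj (W.Y0_le g.2) ha⟩
  haveI : N.Normal := (inferInstance : (W.L.subgroupOf W.Y0).Normal).map π (QuotientGroup.mk'_surjective _)
  have htop : N = ⊤ := (inferInstance : N.Normal).eq_bot_or_eq_top.resolve_left fun h => by
    have hz : π ⟨W.F.z, W.S0_le_Y0 W.z_mem_S0⟩ ∈ N :=
      ⟨⟨W.F.z, W.S0_le_Y0 W.z_mem_S0⟩, W.V_le_L ⟨1, 0, W.F.pz_z.symm⟩, rfl⟩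
    rw [h, Subgroup.mem_bot] at hz
    exact W.not_mem_E ⟨1, 0, W.F.pz_z.symm⟩ W.F.z_ne ((W.mk_eq_one).1 hz)
  have hm : π ⟨y, hy⟩ ∈ N := htop ▸ Subgroup.mem_top _
  obtain ⟨l, hl, hle⟩ := hm
  have he := (W.mk_eq).1 hle
  refine ⟨(l : G)⁻¹ * y, he, l, hl, ?_⟩
  rw [← W.Y0_E l.2 he, mul_inv_cancel_left]

theorem exists_equiv_L : Nonempty (W.L ≃* W.Y0 ⧸ W.EY) := by
  refine ⟨MulEquiv.ofBijective ((QuotientGroup.mk' W.EY).comp (Subgroup.inclusion W.L_le)) ⟨?_, ?_⟩⟩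
  · intro a b h
    exact Subtype.ext (inv_mul_eq_one.mp
      (W.L_inter_E (mul_mem (inv_mem a.2) b.2) ((W.mk_eq).1 h)))
  · intro q
    obtain ⟨⟨y, hy⟩, rfl⟩ := QuotientGroup.mk'_surjective W.EY q
    obtain ⟨e, he, l, hl, rfl⟩ := W.decomp_Y0 hy
    refine ⟨⟨l, hl⟩, (W.mk_eq).2 ?_⟩
    show l⁻¹ * (e * l) ∈ W.E
    rwa [W.Y0_E (W.L_le hl) he |>.symm, inv_mul_cancel_left]

theorem l34_L : ThreeOrders.L34 W.L := by
  obtain ⟨φ⟩ := W.exists_equiv_L
  refine ⟨(Nat.card_congr φ.toEquiv).trans W.l34.card, fun x => ?_, ?_⟩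
  · rw [← φ.orderOf_eq]; exact W.l34.orders _
  · obtain ⟨y, hy⟩ := W.l34.four
    exact ⟨φ.symm y, by rw [MulEquiv.orderOf_eq, hy]⟩

theorem L_inv {l : G} (hl : l ∈ W.L) (h2 : l * l = 1) (h1 : l ≠ 1) : W.Zt l := by
  obtain ⟨e, he, m, hm, rfl⟩ :=
    W.zt_lift (W.L_le hl) (h2 ▸ one_mem _) fun h => h1 (W.L_inter_E hl h)
  have he1 := W.L_inter_E (by simpa using mul_mem hl (inv_mem (W.zt_mem_L hm))) he
  rw [he1, one_mul]; exact hm

theorem card_zt : Nat.card {m : G // W.Zt m} = 315 := by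
  have h := orbit_card W.Cu W.F.z
  rw [show W.Cu ⊓ Subgroup.centralizer ({W.F.z} : Set G) = W.S from rfl, W.card_S, W.card_Cu] at h
  have he : Nat.card {m : G // W.Zt m} = Nat.card {b : G // ∃ k ∈ W.Cu, k * W.F.z * k⁻¹ = b} := by
    refine Nat.card_congr (Equiv.subtypeEquivRight fun b => ⟨fun hb => ?_, ?_⟩)
    · obtain ⟨k, hk, rfl⟩ := W.zt_conj hb
      exact ⟨k, W.Y0_le hk, rfl⟩
    · rintro ⟨k, hk, rfl⟩
      exact Zt.conj W W.zt_z hk
  rw [he]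
  omega

theorem zt_S {m : G} (hm : W.Zt m) (hz : m * W.F.z = W.F.z * m) : m ∈ W.S :=
  W.mem_S.2 ⟨W.mem_Cu.1 hm.1, hz⟩

/-- The square of a product of two conjugates of `z` with parameters. -/
theorem sq_zz {a b : G} {α β α' β' : U4} (ha : W.F.Is a α β) (hb : W.F.Is b α' β')
    (ha2 : a * a = 1) (hb2 : b * b = 1) :
    a * b * (a * b) = W.F.pz (K1 α β α' β') (K2 α β α' β') := by
  have h := Fr.Is.comm W.F ha hb
  conv_lhs => arg 1; rw [h]
  rw [mul_assoc (b * a), ← W.F.pz_comm (mul_mem (Fr.Is.mem_D W.F ha) (Fr.Is.mem_D W.F hb)),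
    ← mul_assoc (b * a)]
  rw [show b * a * (a * b) = b * (a * a) * b by group, ha2, mul_one, hb2, one_mul]

theorem commuting_card : Nat.card {m : G // W.Zt m ∧ m * W.F.z = W.F.z * m} = 27 := by
  classical
  have h1 : {m : G | W.Zt m ∧ m * W.F.z = W.F.z * m} =
      {x : G | ∃ α β, ZP α β ∧ W.F.Is x α β} \ {1} := by
    ext m
    simp only [Set.mem_setOf_eq, Set.mem_diff, Set.mem_singleton_iff]
    constructor
    · rintro ⟨hm, hmz⟩
      obtain ⟨h, hp⟩ := (W.zty_iff (W.zt_S hm hmz)).1 hm.2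
      exact ⟨hp, h⟩
    · rintro ⟨⟨α, β, hp, hI⟩, h1⟩
      have hS := W.S0_le (W.mem_S0_iff.2 ⟨α, β, (zp_ker α β hp).2, hI⟩)
      exact ⟨⟨W.S_le_Cu hS, (W.zty_iff hS).2 ⟨h1, α, β, hp, hI⟩⟩, (W.mem_S.1 hS).2⟩
  have h28 := W.card_par_set ZP
  rw [zp_card] at h28
  show Nat.card ({m : G | W.Zt m ∧ m * W.F.z = W.F.z * m} : Set G) = 27
  rw [h1, Nat.card_coe_set_eq, Set.ncard_diff_singleton_of_mem
    (show (1 : G) ∈ {x : G | ∃ α β, ZP α β ∧ W.F.Is x α β} from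
      ⟨0, 0, Or.inl ⟨rfl, rfl⟩, W.F.Is_one⟩), ← Nat.card_coe_set_eq]
  exact congrArg (· - 1) h28

theorem outer_card :
    Nat.card {i : G // W.Zt i ∧ i * W.F.z = W.F.z * i ∧ i ∉ W.V} = 24 := by
  classical
  have h24 := W.card_par_set fun a b => ZP a b ∧ ¬ (a = 0 ∧ b = 0)
  rw [zp_card'] at h24
  refine (Nat.card_congr (Equiv.subtypeEquivRight fun i => ⟨?_, ?_⟩)).trans h24
  · rintro ⟨hi, hiz, hiV⟩
    obtain ⟨-, α, β, hp, h0, hI⟩ := W.zty_par (W.zt_S hi hiz) hi.2 hiV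
    exact ⟨α, β, ⟨hp, h0⟩, hI⟩
  · rintro ⟨α, β, ⟨hp, h0⟩, hI⟩
    have hS := W.S0_le (W.mem_S0_iff.2 ⟨α, β, (zp_ker α β hp).2, hI⟩)
    have hV : i ∉ W.V := fun ⟨a, b, h⟩ => h0 (Fr.Is.unique W.F hI (h ▸ W.F.Is_pz a b))
    exact ⟨⟨W.S_le_Cu hS, (W.zty_iff hS).2 ⟨fun h => hV (h ▸ one_mem _), α, β, hp, hI⟩⟩,
      (W.mem_S.1 hS).2, hV⟩

theorem four_fibre {i : G} (hi : W.Zt i) (hiz : i * W.F.z = W.F.z * i) (hiV : i ∉ W.V) :
    Nat.card {m : G // W.Zt m ∧ W.F.z * m * (W.F.z * m) = i} = 4 := by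
  classical
  obtain ⟨k, hk, hki⟩ := W.zt_conj hi
  have hk' := W.Y0_le hk
  set z' := k⁻¹ * W.F.z * k⁻¹⁻¹ with hz'
  have hz'Z : W.Zt z' := Zt.conj W W.zt_z (inv_mem hk')
  have hz'S : z' ∈ W.S := by
    refine W.zt_S hz'Z ?_
    calc z' * W.F.z = k⁻¹ * (W.F.z * i) * k := by rw [hz', ← hki]; group
      _ = k⁻¹ * (i * W.F.z) * k := by rw [hiz]
      _ = _ := by rw [hz', ← hki]; group
  have hz'V : z' ∉ W.V := fun h => hiV (by
    rw [← hki]
    exact (W.nv_of hk' h (Zt.ne W hz'Z) (by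
      rw [hz', show k * (k⁻¹ * W.F.z * k⁻¹⁻¹) * k⁻¹ = W.F.z by group]
      exact ⟨1, 0, W.F.pz_z.symm⟩)).2 _ ⟨1, 0, W.F.pz_z.symm⟩)
  obtain ⟨-, α, β, hp, h0, hI⟩ := W.zty_par hz'S hz'Z.2 hz'V
  have h4 := W.card_par_set fun a b => ZP a b ∧ (K1 α β a b = 1 ∧ K2 α β a b = 0)
  rw [zp_partner α β hp h0] at h4
  refine Eq.trans (Nat.card_congr (Equiv.subtypeEquiv
    (MulAut.conj k⁻¹).toEquiv fun m => ?_)) h4
  simp only [MulEquiv.toEquiv_eq_coe, MulEquiv.coe_toEquiv, MulAut.conj_apply]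
  set m' := k⁻¹ * m * k⁻¹⁻¹ with hm'
  constructor
  · rintro ⟨hm, he⟩
    have hm'Z : W.Zt m' := Zt.conj W hm (inv_mem hk')
    have hsq : z' * m' * (z' * m') = W.F.z := by
      calc z' * m' * (z' * m') = k⁻¹ * (W.F.z * m * (W.F.z * m)) * k := by rw [hz', hm']; group
        _ = W.F.z := by rw [he, ← hki]; group
    have hcz : m' * W.F.z = W.F.z * m' :=
      (comm_of_dihedral (Zt.sq W hz'Z) (Zt.sq W hm'Z) W.F.z_sq
        ⟨2, by show (z' * m') ^ (2 : ℤ) = W.F.z; rw [zpow_two, hsq]⟩).2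
    obtain ⟨-, a, b, hab, hI'⟩ := (W.zty_iff (W.zt_S hm'Z hcz)).1 hm'Z.2
    rw [W.sq_zz hI hI' (Zt.sq W hz'Z) (Zt.sq W hm'Z), ← W.F.pz_z] at hsq
    exact ⟨a, b, ⟨hab, W.F.pz_inj hsq⟩, hI'⟩
  · rintro ⟨a, b, ⟨hab, k1, k2⟩, hI'⟩
    have hS := W.S0_le (W.mem_S0_iff.2 ⟨a, b, (zp_ker a b hab).2, hI'⟩)
    have h1 : m' ≠ 1 := by
      intro h
      rw [h] at hI'
      obtain ⟨rfl, rfl⟩ := Fr.Is.unique W.F hI' W.F.Is_one
      simp [K1, bU_zero_left, bU_zero_right] at k1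
    have hm'Z : W.Zt m' := ⟨W.S_le_Cu hS, (W.zty_iff hS).2 ⟨h1, a, b, hab, hI'⟩⟩
    have hsq : z' * m' * (z' * m') = W.F.z := by
      rw [W.sq_zz hI hI' (Zt.sq W hz'Z) (Zt.sq W hm'Z), k1, k2, W.F.pz_z]
    refine ⟨?_, ?_⟩
    · have := Zt.conj W hm'Z hk'
      rwa [hm', show k * (k⁻¹ * m * k⁻¹⁻¹) * k⁻¹ = m by group] at this
    · calc W.F.z * m * (W.F.z * m) = k * (z' * m' * (z' * m')) * k⁻¹ := by rw [hz', hm']; group
        _ = i := by rw [hsq, hki]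

theorem four_card :
    Nat.card {m : G // W.Zt m ∧ (W.F.z * m * (W.F.z * m) ≠ 1 ∧ (W.F.z * m) ^ 4 = 1)} = 96 := by
  classical
  haveI := Fintype.ofFinite G
  let T := {i : G // W.Zt i ∧ i * W.F.z = W.F.z * i ∧ i ∉ W.V}
  have key : ∀ m, W.Zt m → W.F.z * m * (W.F.z * m) ≠ 1 → (W.F.z * m) ^ 4 = 1 →
      W.Zt (W.F.z * m * (W.F.z * m)) ∧
        W.F.z * m * (W.F.z * m) * W.F.z = W.F.z * (W.F.z * m * (W.F.z * m)) ∧
        W.F.z * m * (W.F.z * m) ∉ W.V := by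
    intro m hm hne h4
    set i := W.F.z * m * (W.F.z * m) with hi
    have hiL : i ∈ W.L := mul_mem (mul_mem (W.zt_mem_L W.zt_z) (W.zt_mem_L hm))
      (mul_mem (W.zt_mem_L W.zt_z) (W.zt_mem_L hm))
    have hi2 : i * i = 1 := by rw [hi, ← h4, pow_succ, pow_succ, pow_succ, pow_one]; group
    have hmem : i ∈ Subgroup.zpowers (W.F.z * m) :=
      ⟨2, by show (W.F.z * m) ^ (2 : ℤ) = i; rw [zpow_two]⟩
    obtain ⟨c1, c2⟩ := comm_of_dihedral W.F.z_sq (Zt.sq W hm) hi2 hmem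
    refine ⟨W.L_inv hiL hi2 hne, c1.symm, fun hiV => ?_⟩
    have hS0 := W.mem_S0_of_fix' W.e1_Is (W.E_le W.e1_mem) hm.1 hiV hne c2
      (W.mem_Y0.1 (Zt.mem_Y0 W hm)).2
    refine hne ?_
    rw [hi]
    calc W.F.z * m * (W.F.z * m) = W.F.z * (m * W.F.z) * m := by group
      _ = W.F.z * (W.F.z * m) * m := by rw [(W.mem_S.1 (W.S0_le hS0)).2]
      _ = W.F.z * W.F.z * (m * m) := by group
      _ = 1 := by rw [W.F.z_sq, Zt.sq W hm, one_mul]
  have hs : Nat.card (Σ i : T, {m : G // W.Zt m ∧ W.F.z * m * (W.F.z * m) = i.1}) = 96 := by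
    rw [Nat.card_sigma, Finset.sum_congr rfl fun i _ => W.four_fibre i.2.1 i.2.2.1 i.2.2.2,
      Finset.sum_const, smul_eq_mul, Finset.card_univ, ← Nat.card_eq_fintype_card, W.outer_card]
  rw [← hs]
  refine (Nat.card_congr ?_).symm
  exact
    { toFun := fun q => ⟨q.2.1, q.2.2.1,
        fun h => Zt.ne W q.1.2.1 (q.2.2.2.symm.trans h), by
          rw [show 4 = 2 * 2 from rfl, pow_mul, sq (W.F.z * q.2.1), q.2.2.2, sq, Zt.sq W q.1.2.1]⟩
      invFun := fun m => ⟨⟨W.F.z * m.1 * (W.F.z * m.1), key m.1 m.2.1 m.2.2.1 m.2.2.2⟩, m.1, m.2.1, rfl⟩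
      left_inv := by
        rintro ⟨⟨i, hi⟩, m, hm, he⟩
        obtain rfl : W.F.z * m * (W.F.z * m) = i := he
        rfl
      right_inv := fun m => rfl }

theorem odd_card : Nat.card {m : G // W.Zt m ∧ Odd (orderOf (W.F.z * m))} = 193 := by
  classical
  set A : Set G := {m | W.Zt m}
  set B : Set G := {m | W.Zt m ∧ m * W.F.z = W.F.z * m}
  set C : Set G := {m | W.Zt m ∧ (W.F.z * m * (W.F.z * m) ≠ 1 ∧ (W.F.z * m) ^ 4 = 1)}
  set O : Set G := {m | W.Zt m ∧ Odd (orderOf (W.F.z * m))}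
  have hA : A.ncard = 315 := W.card_zt
  have hB : B.ncard = 27 := W.commuting_card
  have hC : C.ncard = 96 := W.four_card
  have comm_iff : ∀ m, W.Zt m → (m * W.F.z = W.F.z * m ↔ W.F.z * m * (W.F.z * m) = 1) := by
    intro m hm
    have hm2 := Zt.sq W hm
    constructor
    · intro h
      calc W.F.z * m * (W.F.z * m) = W.F.z * (m * W.F.z) * m := by group
        _ = W.F.z * W.F.z * (m * m) := by rw [h]; group
        _ = 1 := by rw [W.F.z_sq, hm2, one_mul]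
    · intro h
      calc m * W.F.z = W.F.z * W.F.z * (m * W.F.z) * (m * m) := by rw [W.F.z_sq, hm2]; group
        _ = W.F.z * (W.F.z * m * (W.F.z * m)) * m := by group
        _ = W.F.z * m := by rw [h, mul_one]
  have hdisj : Disjoint (B \ {W.F.z}) C := by
    rw [Set.disjoint_left]
    rintro m ⟨hm, -⟩ hm'
    exact hm'.2.1 ((comm_iff m hm.1).1 hm.2)
  have hO : O = A \ ((B \ {W.F.z}) ∪ C) := by
    ext m
    simp only [A, B, C, O, Set.mem_setOf_eq, Set.mem_diff, Set.mem_union, Set.mem_singleton_iff]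
    constructor
    · rintro ⟨hm, hodd⟩
      refine ⟨hm, ?_⟩
      rintro (⟨⟨-, hc⟩, hne⟩ | ⟨-, hne, h4⟩)
      · have h2 : orderOf (W.F.z * m) ∣ 2 := orderOf_dvd_of_pow_eq_one (by
          rw [sq]; exact (comm_iff m hm).1 hc)
        have h1 : orderOf (W.F.z * m) = 1 :=
          Nat.eq_one_of_dvd_coprimes (Nat.coprime_two_left.2 hodd) h2 dvd_rfl
        exact hne ((inv_eq_of_mul_eq_one_right (orderOf_eq_one_iff.1 h1)).symm.trans
          (inv_eq_of_mul_eq_one_right W.F.z_sq))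
      · have h1 : orderOf (W.F.z * m) = 1 :=
          Nat.eq_one_of_dvd_coprimes (Nat.Coprime.pow_left 2 (Nat.coprime_two_left.2 hodd))
            (show orderOf (W.F.z * m) ∣ 2 ^ 2 from orderOf_dvd_of_pow_eq_one h4) dvd_rfl
        exact hne (by rw [orderOf_eq_one_iff.1 h1, mul_one])
    · rintro ⟨hm, hno⟩
      refine ⟨hm, ?_⟩
      have hmem : W.F.z * m ∈ W.L := mul_mem (W.zt_mem_L W.zt_z) (W.zt_mem_L hm)
      have ho := (W.l34_L).orders ⟨_, hmem⟩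
      rw [← Subgroup.orderOf_coe] at ho
      have ho' : orderOf (W.F.z * m) ∣ 7 ∨ orderOf (W.F.z * m) ∣ 5 ∨ orderOf (W.F.z * m) ∣ 3 ∨
          orderOf (W.F.z * m) ∣ 4 := ho
      rcases ho' with h | h | h | h
      · exact Odd.of_dvd_nat (by decide) h
      · exact Odd.of_dvd_nat (by decide) h
      · exact Odd.of_dvd_nat (by decide) h
      · by_cases hc : W.F.z * m * (W.F.z * m) = 1
        · by_cases hz : m = W.F.z
          · rw [hz, W.F.z_sq, orderOf_one]; exact odd_one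
          · exact absurd (Or.inl ⟨⟨hm, (comm_iff m hm).2 hc⟩, hz⟩) hno
        · exact absurd (Or.inr ⟨hm, hc, orderOf_dvd_iff_pow_eq_one.1 h⟩) hno
  have hsub : (B \ {W.F.z}) ∪ C ⊆ A := by
    rintro m (⟨hm, -⟩ | hm) <;> exact hm.1
  show O.ncard = 193
  rw [hO, Set.ncard_diff hsub, Set.ncard_union_eq hdisj, Set.ncard_diff_singleton_of_mem
    (show W.F.z ∈ B from ⟨W.zt_z, rfl⟩), hA, hB, hC]

theorem uz_conj : IsConj W.u (W.u * W.F.z) := by
  have h := Fr.Is.mul_pz W.F W.hu 1 0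
  rw [W.F.pz_z] at h
  obtain ⟨g, -, hg⟩ := W.F.typB_conj W.hu h
  exact isConj_iff.2 ⟨g, hg⟩

/-- The conjugates `y` of `u` with `u ∈ ⟨z y⟩`. -/
theorem count_u :
    Nat.card {y : G // IsConj W.u y ∧ W.u ∈ Subgroup.zpowers (W.F.z * y)} = 193 := by
  classical
  rw [← W.odd_card]
  have hzY := W.S0_le_Y0 W.z_mem_S0
  have huL : W.u ∉ W.L := fun h => W.u_ne (W.L_inter_E h W.u_mem_E)
  have hmem : ∀ m, W.Zt m ∧ Odd (orderOf (W.F.z * m)) →
      IsConj W.u (W.u * m) ∧ W.u ∈ Subgroup.zpowers (W.F.z * (W.u * m)) := by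
    rintro m ⟨hm, hodd⟩
    have hm2 := Zt.sq W hm
    set a := W.F.z * m with ha
    have hau : Commute W.u a := by
      show W.u * (W.F.z * m) = W.F.z * m * W.u
      rw [← mul_assoc, W.uz, mul_assoc, ← W.mem_Cu.1 hm.1, mul_assoc]
    have hk : (W.F.z * (W.u * m)) ^ orderOf a = W.u := by
      have e : W.F.z * (W.u * m) = W.u * a := by rw [ha, ← mul_assoc, ← W.uz, mul_assoc]
      rw [e, hau.mul_pow, pow_orderOf_eq_one, mul_one]
      obtain ⟨t, ht⟩ := hodd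
      rw [ht, pow_succ, pow_mul, sq, W.u_sq, one_pow, one_mul]
    refine ⟨?_, ⟨(orderOf a : ℤ), by show _ ^ (_ : ℤ) = _; rw [zpow_natCast]; exact hk⟩⟩
    obtain ⟨t, ht⟩ := hodd
    have hza : W.F.z * a * W.F.z⁻¹ = a⁻¹ := by
      rw [ha, mul_inv_rev, ← mul_assoc, W.F.z_sq, one_mul, inv_eq_of_mul_eq_one_right W.F.z_sq,
        inv_eq_of_mul_eq_one_right hm2]
    set g := a ^ t
    have hgz : g * W.F.z * g⁻¹ = m := by
      have e : W.F.z * g⁻¹ * W.F.z⁻¹ = g := by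
        rw [show g⁻¹ = (a⁻¹) ^ t from (inv_pow a t).symm, ← conj_pow, ← hza]
        calc (W.F.z * (W.F.z * a * W.F.z⁻¹) * W.F.z⁻¹) ^ t
            = ((W.F.z * W.F.z) * a * (W.F.z * W.F.z)⁻¹) ^ t := by group
          _ = _ := by rw [W.F.z_sq]; simp [g]
      calc g * W.F.z * g⁻¹ = g * (W.F.z * g⁻¹ * W.F.z⁻¹) * W.F.z := by group
        _ = a ^ (2 * t) * W.F.z := by rw [e, ← pow_add, two_mul]
        _ = a⁻¹ * W.F.z := by
          congr 1
          refine eq_inv_of_mul_eq_one_left ?_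
          rw [← pow_succ, ← ht, pow_orderOf_eq_one]
        _ = m := by
          rw [ha, mul_inv_rev, inv_eq_of_mul_eq_one_right hm2, inv_eq_of_mul_eq_one_right W.F.z_sq,
            mul_assoc, W.F.z_sq, mul_one]
    have hgu : g * W.u = W.u * g := ((hau.pow_right t).symm).eq
    refine W.uz_conj.trans (isConj_iff.2 ⟨g, ?_⟩)
    calc g * (W.u * W.F.z) * g⁻¹ = (g * W.u) * (W.F.z * g⁻¹) := by group
      _ = W.u * (g * W.F.z * g⁻¹) := by rw [hgu]; group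
      _ = W.u * m := by rw [hgz]
  refine (Nat.card_congr (Equiv.ofBijective
    (fun m : {m : G // W.Zt m ∧ Odd (orderOf (W.F.z * m))} =>
      (⟨W.u * m.1, hmem m.1 m.2⟩ :
        {y : G // IsConj W.u y ∧ W.u ∈ Subgroup.zpowers (W.F.z * y)})) ⟨?_, ?_⟩)).symm
  · intro a b h
    exact Subtype.ext (mul_left_cancel (congrArg Subtype.val h))
  rintro ⟨y, hy, hu⟩
  have hy2 : y * y = 1 := by
    obtain ⟨g, rfl⟩ := isConj_iff.1 hy
    calc g * W.u * g⁻¹ * (g * W.u * g⁻¹) = g * (W.u * W.u) * g⁻¹ := by group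
      _ = 1 := by rw [W.u_sq]; group
  have hyu := (comm_of_dihedral W.F.z_sq hy2 W.u_sq hu).2
  have hyC : y ∈ W.Cu := W.mem_Cu.2 hyu
  obtain ⟨j, hj⟩ : ∃ j : ℕ, (W.F.z * y) ^ j = W.u := by
    rw [← mem_powers_iff_mem_zpowers] at hu
    exact hu
  by_cases hY : y ∈ W.Y0
  · obtain ⟨e, he, l, hl, rfl⟩ := W.decomp_Y0 hY
    have hel : Commute e l := (W.Y0_E (W.L_le hl) he).symm
    have hl2 : l * l = 1 := by
      rw [← hy2, hel.symm.mul_mul_mul_comm, W.Et_sq (W.E_le he), one_mul]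
    have hez : Commute e (W.F.z * l) := (W.Y0_E (mul_mem hzY (W.L_le hl)) he).symm
    have e1 : W.F.z * (e * l) = e * (W.F.z * l) := by
      rw [← mul_assoc, W.Y0_E hzY he, mul_assoc]
    rw [e1, hez.mul_pow] at hj
    have hzl : W.F.z * l ∈ W.L := mul_mem (W.zt_mem_L W.zt_z) hl
    have hpow : (W.F.z * l) ^ j = 1 := W.L_inter_E (pow_mem hzl j) (by
      rw [show (W.F.z * l) ^ j = (e ^ j)⁻¹ * W.u by rw [← hj]; group]
      exact mul_mem (inv_mem (pow_mem he j)) W.u_mem_E)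
    rw [hpow, mul_one] at hj
    have he2 : e ^ 2 = 1 := by rw [sq]; exact W.Et_sq (W.E_le he)
    obtain ⟨t, ht⟩ : Odd j := by
      rw [← Nat.not_even_iff_odd]
      rintro ⟨t, rfl⟩
      rw [← two_mul, pow_mul, he2, one_pow] at hj
      exact W.u_ne hj.symm
    rw [ht, pow_succ, pow_mul, he2, one_pow, one_mul] at hj
    subst hj
    have hodd : Odd (orderOf (W.F.z * l)) :=
      Odd.of_dvd_nat ⟨t, ht⟩ (orderOf_dvd_of_pow_eq_one hpow)
    have hl1 : l ≠ 1 := by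
      intro h
      rw [h, mul_one, orderOf_eq_prime (by rw [sq]; exact W.F.z_sq) W.F.z_ne] at hodd
      exact absurd hodd (by decide)
    exact ⟨⟨l, W.L_inv hl hl2 hl1, hodd⟩, rfl⟩
  · exfalso
    have hsq : W.F.z * y * (W.F.z * y) ∈ W.L := by
      have h := W.L_conj hyC (W.zt_mem_L W.zt_z)
      rw [inv_eq_of_mul_eq_one_right hy2] at h
      rw [show W.F.z * y * (W.F.z * y) = W.F.z * (y * W.F.z * y) by group]
      exact mul_mem (W.zt_mem_L W.zt_z) h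
    rcases Nat.even_or_odd j with ⟨t, rfl⟩ | ⟨t, rfl⟩
    · apply huL
      rw [← hj, ← two_mul, pow_mul, sq]
      exact pow_mem hsq t
    · apply hY
      rw [pow_succ, pow_mul, sq (W.F.z * y)] at hj
      have : y = W.F.z⁻¹ * ((W.F.z * y * (W.F.z * y)) ^ t)⁻¹ * W.u := by rw [← hj]; group
      rw [this]
      exact mul_mem (mul_mem (inv_mem hzY) (inv_mem (W.L_le (pow_mem hsq t))))
        (W.E_le_Y0 W.u_mem_E)

end Fu

end Cfsg.Agent.SuzType
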