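/-
The lines of the conjugates of `z` in `C(z)` outside the radical (helper1).

* `Ln x w` : `w` is a nonzero value of `ρ x + 1`; for a conjugate `x` of `z` these are the three
  points of a singular line, and they are the singular fixed points of `ρ x`
* `card_avoid` : 192 such conjugates have a line avoiding five given points
* `card_Cz`, `card_orbit_u` : `C(z)` has order 3317760 and 6480 conjugates of `u`
-/
import Cfsg.Agent.Lib.SuzType.CountU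

set_option autoImplicit false
open scoped commutatorElement

namespace Cfsg.Agent.SuzType

open Cfsg.Agent.Orth Cfsg.Agent.LargeExtraspecial Cfsg.Agent.LargeExtraspecial.Cfg
open QuadraticMap (polar)
open Fr (K1 K2 SingPar)

set_option synthInstance.maxSize 1024

/-- A cyclic group has at most one involution. -/
theorem invol_uniq {H : Type*} [Group H] {a z i : H} (hz : z ∈ Subgroup.zpowers a)
    (hi : i ∈ Subgroup.zpowers a) (hz2 : z * z = 1) (hz1 : z ≠ 1) (hi2 : i * i = 1) (hi1 : i ≠ 1) :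
    z = i := by
  obtain ⟨k, rfl⟩ := hz
  obtain ⟨l, rfl⟩ := hi
  simp only at hz2 hz1 hi2 hi1 ⊢
  rw [← zpow_add, ← orderOf_dvd_iff_zpow_eq_one] at hz2 hi2
  rw [Ne, ← orderOf_dvd_iff_zpow_eq_one] at hz1 hi1
  obtain ⟨p, hp⟩ := hz2
  obtain ⟨q, hq⟩ := hi2
  rw [← orderOf_dvd_sub_iff_zpow_eq_zpow]
  rcases Int.even_or_odd p with ⟨r, rfl⟩ | ⟨r, rfl⟩
  · exact absurd ⟨r, by linarith⟩ hz1
  rcases Int.even_or_odd q with ⟨s, rfl⟩ | ⟨s, rfl⟩
  · exact absurd ⟨s, by linarith⟩ hi1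
  exact ⟨r - s, by linarith⟩

/-- Coordinates of `V6`. -/
abbrev V3 : Type := ZMod 2 × ZMod 2 × U4

/-- The coordinates. -/
def tr (x : V6) : V3 := (cv x, cp x, pu x)

/-- The coordinates, as an equivalence. -/
def trE : V6 ≃ V3 where
  toFun := tr
  invFun p := p.1 • v0 + p.2.1 • p0 + io p.2.2
  left_inv x := (decomp x).symm
  right_inv p := by
    obtain ⟨a, b, c⟩ := p
    refine Prod.ext ?_ (Prod.ext ?_ ?_)
    · simp [tr, SuzType.cv, v0, p0, io]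
    · simp [tr, cp, v0, p0, io]
    · show pu _ = c
      rw [pu_add, pu_add, pu_smul, pu_smul, pu_v0, pu_p0, pu_io, smul_zero, smul_zero, zero_add,
        zero_add]

theorem trE_apply (x : V6) : trE x = tr x := rfl

theorem tr_add (x y : V6) : tr (x + y) = tr x + tr y :=
  Prod.ext (cv_add x y) (Prod.ext (cp_add x y) (pu_add x y))

theorem tr_inj {x y : V6} (h : tr x = tr y) : x = y := trE.injective h

theorem tr_zero : tr 0 = 0 := by
  have h := tr_add 0 0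
  rw [add_zero] at h
  exact add_eq_left.mp h.symm

theorem tr_eq_zero {x : V6} : tr x = 0 ↔ x = 0 :=
  ⟨fun h => tr_inj (h.trans tr_zero.symm), fun h => h ▸ tr_zero⟩

theorem tr_v0 : tr v0 = (1, 0, 0) := Prod.ext cv_v0 (Prod.ext cp_v0 pu_v0)

/-- The form. -/
abbrev q3 (p : V3) : ZMod 2 := p.1 * p.2.1 + qU p.2.2
/-- Its polar form. -/
abbrev b3 (p q : V3) : ZMod 2 := p.1 * q.2.1 + p.2.1 * q.1 + bU p.2.2 q.2.2

theorem q3_tr (x : V6) : q3 (tr x) = qm x := (qm_eq x).symm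
theorem b3_tr (x y : V6) : b3 (tr x) (tr y) = polar ⇑qm x y := (polar_eq x y).symm

/-- Five of the fixed points of `ρ u`. -/
abbrev Z5 (p : V3) : Prop := p ≠ 0 ∧ p.2.1 = 0 ∧ (p.2.2 = 0 ∨ p.2.2 = E0 ∨ p.2.2 = F0)

/-- Pairs spanning a line avoiding the five points. -/
abbrev Good (a b : V3) : Prop :=
  a ≠ 0 ∧ b ≠ 0 ∧ a ≠ b ∧ q3 a = 0 ∧ q3 b = 0 ∧ b3 a b = 0 ∧ ¬ Z5 a ∧ ¬ Z5 b ∧ ¬ Z5 (a + b)

/-- Parameters of a conjugate of `z` outside the radical with `v0` on its line. -/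
abbrev RP (α β : U4) : Prop := qU β = 0 ∧ β ≠ 0 ∧ (α = 0 ∨ α = β)

/-- The points of a line through `v0`. -/
abbrev Pt (β : U4) (p : V3) : Prop := p ≠ 0 ∧ p.2.1 = 0 ∧ (p.2.2 = 0 ∨ p.2.2 = β)

theorem rp_card : ∀ β, qU β = 0 → β ≠ 0 →
    (Finset.univ.filter fun p : U4 × U4 => RP p.1 p.2 ∧ p.2 = β).card = 2 := by decide +kernel

theorem rp_sing : ∀ α β, RP α β → qU α = 0 ∧ qU β = 0 ∧ bU α β = 0 := by decide +kernel

theorem pt_pairs : ∀ β, qU β = 0 → β ≠ 0 →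
    (Finset.univ.filter fun p : V3 × V3 => Pt β p.1 ∧ Pt β p.2 ∧ p.1 ≠ p.2).card = 6 := by
  decide +kernel

theorem pt_three : ∀ β : U4, β ≠ 0 → ∀ a, Pt β a → ∀ b, Pt β b → a ≠ b →
    ∀ c, Pt β c → c = a ∨ c = b ∨ c = a + b := by decide +kernel

theorem pt_sing : ∀ β, qU β = 0 → ∀ a, Pt β a → q3 a = 0 ∧ ∀ b, Pt β b → b3 a b = 0 := by
  decide +kernel

theorem pt_fix : ∀ β, qU β = 0 → β ≠ 0 → ∀ p : V3, p ≠ 0 → q3 p = 0 → p.2.1 = 0 →
    bU p.2.2 β = 0 → Pt β p := by decide +kernel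

theorem good_card : (Finset.univ.filter fun p : V3 × V3 => Good p.1 p.2).card = 144 := by
  decide +kernel

theorem bU_onto : ∀ β : U4, β ≠ 0 → ∀ c : ZMod 2, ∃ s : U4, bU s β = c := by decide +kernel

theorem sing_mem : ∀ p : V3, p ≠ 0 → q3 p = 0 → b3 (1, 0, 0) p = 0 → p ≠ (1, 0, 0) →
    p.2.1 = 0 ∧ qU p.2.2 = 0 ∧ p.2.2 ≠ 0 := by decide +kernel

/-- Isometries as bijections. -/
noncomputable def apE (ω : IsoGrp qm) : V6 ≃ V6 :=
  ⟨fun x => ap ω x, fun x => ap ω⁻¹ x, fun x => ap_inv_ap ω x, fun x => ap_ap_inv ω x⟩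

theorem apE_apply (ω : IsoGrp qm) (x : V6) : apE ω x = ap ω x := rfl

variable {G : Type*} [Group G]

namespace Fr

variable (F : Fr G)

/-- The nonzero values of `ρ x + 1`. -/
def Ln (x : G) (w : V6) : Prop := w ≠ 0 ∧ ∃ t, ap (F.T.ρ x) t + t = w

/-- Conjugates of `z` in `C(z)` outside the radical. -/
def ZT (x : G) : Prop := x * F.z = F.z * x ∧ x ∉ F.Q ∧ IsConj F.z x

theorem ZT.sq {x : G} (h : F.ZT x) : x * x = 1 := by
  obtain ⟨g, rfl⟩ := isConj_iff.1 h.2.2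
  calc g * F.z * g⁻¹ * (g * F.z * g⁻¹) = g * (F.z * F.z) * g⁻¹ := by group
    _ = 1 := by rw [F.z_sq]; group

theorem ZT.ne {x : G} (h : F.ZT x) : x ≠ 1 := fun e => h.2.1 (e ▸ one_mem _)

theorem ρ_cj {g x : G} (hg : g * F.z = F.z * g) (hx : x * F.z = F.z * x) :
    F.T.ρ (g * x * g⁻¹) = F.T.ρ g * F.T.ρ x * (F.T.ρ g)⁻¹ := by
  rw [F.T.ρ_mul (g * x) g⁻¹ (Commute.mul_left hg hx).eq (Commute.inv_left hg).eq,
    F.T.ρ_mul g x hg hx, F.T.ρ_inv hg]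

theorem ap_cj {g x : G} (hg : g * F.z = F.z * g) (hx : x * F.z = F.z * x) (t : V6) :
    Orth.ap (F.T.ρ (g * x * g⁻¹)) (Orth.ap (F.T.ρ g) t) = Orth.ap (F.T.ρ g) (Orth.ap (F.T.ρ x) t) := by
  rw [F.ρ_cj hg hx, ap_mul, ap_mul, ap_inv_ap]

theorem ZT.cj {g x : G} (hg : g * F.z = F.z * g) (h : F.ZT x) : F.ZT (g * x * g⁻¹) :=
  ⟨((Commute.mul_left hg h.1).mul_left (Commute.inv_left hg)).eq,
    fun hm => h.2.1 ((F.T.data.norm_iff g hg x).1 hm), h.2.2.trans (isConj_iff.2 ⟨g, rfl⟩)⟩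

theorem ln_cj {g x : G} (hg : g * F.z = F.z * g) (hx : x * F.z = F.z * x) (w : V6) :
    F.Ln (g * x * g⁻¹) (Orth.ap (F.T.ρ g) w) ↔ F.Ln x w := by
  constructor
  · rintro ⟨h0, t, ht⟩
    refine ⟨fun e => h0 (by rw [e, map_zero]), Orth.ap (F.T.ρ g)⁻¹ t, ap_inj (F.T.ρ g) ?_⟩
    rw [map_add, ← F.ap_cj hg hx, ap_ap_inv, ht]
  · rintro ⟨h0, t, ht⟩
    refine ⟨fun e => h0 (ap_inj _ (e.trans (map_zero _).symm)), Orth.ap (F.T.ρ g) t, ?_⟩
    rw [F.ap_cj hg hx, ← map_add, ht]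

theorem Ln.add {x : G} {a b : V6} (ha : F.Ln x a) (hb : F.Ln x b) (hne : a ≠ b) :
    F.Ln x (a + b) := by
  obtain ⟨-, s, rfl⟩ := ha
  obtain ⟨-, t, rfl⟩ := hb
  refine ⟨fun e => hne (add_eq_zero_v e), s + t, ?_⟩
  rw [map_add]; abel

theorem Ln.fixed {x : G} {w : V6} (hx : x * F.z = F.z * x) (h2 : x * x = 1) (h : F.Ln x w) :
    Orth.ap (F.T.ρ x) w = w := by
  obtain ⟨-, t, rfl⟩ := h
  rw [map_add, ← ap_mul, ← F.T.ρ_mul x x hx hx, h2, F.T.ρ_one, ap_one, add_comm]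

variable [Finite G]

theorem ln_R {x : G} {α β : U4} (hI : F.Is x α β) (hp : RP α β) (w : V6) :
    F.Ln x w ↔ Pt β (tr w) := by
  obtain ⟨hq, hb0, -⟩ := hp
  have him : ∀ t, Orth.ap (F.T.ρ x) t + t = cp t • io β + bU (pu t) β • v0 := by
    intro t
    rw [Is.ap F hI, hq, mul_zero, zero_add, add_comm _ t, ← add_assoc, ← add_assoc,
      ZModModule.add_self, zero_add]
  constructor
  · rintro ⟨h0, t, rfl⟩
    refine ⟨fun e => h0 (tr_eq_zero.1 e), ?_, ?_⟩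
    · simp only [tr]
      rw [him, cp_add]; simp [cp, io, v0]
    · simp only [tr]
      rw [him, pu_add, pu_smul, pu_smul, pu_io, pu_v0, smul_zero, add_zero]
      rcases z2 (cp t) with h | h <;> simp [h]
  · rintro ⟨h0, hcp, hpu⟩
    refine ⟨fun e => h0 (e ▸ tr_zero), ?_⟩
    obtain ⟨s, hs⟩ := bU_onto β hb0 (SuzType.cv w)
    have e : w = (if pu w = β then (1 : ZMod 2) else 0) • io β + SuzType.cv w • v0 := by
      refine tr_inj (Prod.ext ?_ (Prod.ext ?_ ?_))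
      · simp only [tr]
        rw [cv_add]; simp [SuzType.cv, io, v0]
      · simp only [tr]
        rw [cp_add]; simp only [show cp w = 0 from hcp]; simp [cp, io, v0]
      · simp only [tr]
        rw [pu_add, pu_smul, pu_smul, pu_io, pu_v0, smul_zero, add_zero]
        rcases hpu with h | h
        · rw [show pu w = 0 from h, if_neg (fun e => hb0 e.symm), zero_smul]
        · rw [show pu w = β from h, if_pos rfl, one_smul]
    refine ⟨(if pu w = β then (1 : ZMod 2) else 0) • p0 + io s, ?_⟩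
    conv_rhs => rw [e]
    rw [him, cp_add, pu_add, cp_io, add_zero, pu_io, pu_smul, pu_p0, smul_zero, zero_add, hs]
    split <;> simp [cp, p0]

theorem fix_R {x : G} {α β : U4} (hI : F.Is x α β) (hp : RP α β) {w : V6} (h0 : w ≠ 0)
    (hq : qm w = 0) (hf : Orth.ap (F.T.ρ x) w = w) : F.Ln x w := by
  have e := Is.ap F hI w
  rw [hf, hp.1, mul_zero, zero_add, add_assoc] at e
  have e' := left_eq_add.mp e
  have h1 := congrArg pu e'
  rw [pu_add, pu_smul, pu_smul, pu_io, pu_v0, smul_zero, add_zero] at h1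
  have hcp : cp w = 0 := by
    rcases z2 (cp w) with h | h
    · exact h
    · rw [h, one_smul, show pu (0 : V6) = 0 from congrArg (fun p : V3 => p.2.2) tr_zero] at h1
      simp [hp.2.1, Ne.symm hp.2.1] at h1
  rw [hcp, zero_smul, zero_add] at e'
  have h2 : bU (pu w) β = 0 := by
    rcases z2 (bU (pu w) β) with h | h
    · exact h
    · rw [h, one_smul] at e'; exact absurd e' v0_ne
  exact (F.ln_R hI hp w).2 (pt_fix β hp.1 hp.2.1 (tr w) (fun e => h0 (tr_eq_zero.1 e))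
    (by rw [q3_tr, hq]) hcp h2)

theorem v0_ln {x : G} {α β : U4} (hI : F.Is x α β) (hp : RP α β) : F.Ln x v0 :=
  (F.ln_R hI hp v0).2 ⟨by rw [tr_v0]; decide, by rw [tr_v0], Or.inl (by rw [tr_v0])⟩

theorem zt_R {x : G} {α β : U4} (hI : F.Is x α β) (hp : RP α β) : F.ZT x := by
  obtain ⟨k1, k2, k3⟩ := rp_sing α β hp
  have hQ : x ∉ F.Q := fun hQ => by
    obtain ⟨h0, t, ht⟩ := F.v0_ln hI hp
    rw [F.T.ρ_Q hQ, ap_one, ZModModule.add_self] at ht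
    exact h0 ht.symm
  have h2 : x * x = 1 := by rw [Is.sq F hI, k1, k2, k3, add_zero, F.pz_zero]
  refine ⟨Is.comm_z F hI, hQ, ?_⟩
  rcases F.inv_cases hI h2 (fun e => hQ (e ▸ one_mem _)) with ⟨-, -, h, -⟩ | ⟨-, h⟩
  · rw [k3] at h; exact absurd h zero_ne_one
  · exact h

theorem rp_of_zt {x : G} {α β : U4} (hI : F.Is x α β) (hx : F.ZT x) : RP α β := by
  rcases F.inv_cases hI (ZT.sq F hx) (ZT.ne F hx) with ⟨-, -, -, h⟩ | ⟨⟨-, k2, -, k4⟩, -⟩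
  · exact absurd hx.2.2 h
  · have hβ : β ≠ 0 := by
      rintro rfl
      obtain ⟨a, ha, b, hb, rfl, -, hθ⟩ := hI
      exact hx.2.1 (mul_mem (mem_A.mp ha).1 (F.θ_ker hb hθ).1)
    exact ⟨k2, hβ, k4.imp id fun h => h.resolve_left hβ⟩

theorem R_of_ln {x : G} (hx : F.ZT x) (h : F.Ln x v0) : ∃ α β, RP α β ∧ F.Is x α β := by
  obtain ⟨-, t, ht⟩ := h
  have h2 := ZT.sq F hx
  obtain ⟨q, hq, hqc⟩ := F.T.c_surj t
  have hq' := F.T.data.norm x hx.1 q hq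
  set w := x * q * x⁻¹ * q⁻¹ with hw
  have hwQ : w ∈ F.Q := mul_mem hq' (inv_mem hq)
  have hwc : F.T.c w = v0 := by
    rw [hw, F.T.c_mul _ hq' _ (inv_mem hq), F.T.c_inv hq, F.T.ρ_conj x hx.1 q hq, hqc, ht]
  have hw2 : w * w = 1 := by rw [F.T.sq w hwQ, hwc, qm_v0, pw_zero]
  have hcomm : x * w = w * x := by
    have e : x * w * x⁻¹ = w⁻¹ := by
      calc x * w * x⁻¹ = (x * x) * q * (x * x)⁻¹ * (x * q⁻¹ * x⁻¹) := by rw [hw]; group
        _ = w⁻¹ := by rw [h2, hw]; group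
    rw [inv_eq_of_mul_eq_one_right hw2] at e
    exact mul_inv_eq_iff_eq_mul.mp e
  have hxv : x * F.v = F.v * x := by
    rcases F.T.c_eq F.hv hwQ (by rw [hwc]; exact F.cv) with e | e
    · rw [show F.v = w from e.symm]; exact hcomm
    · have hv : F.v = w * F.z := by rw [e, mul_assoc, F.z_sq, mul_one]
      rw [hv]
      exact (Commute.mul_right hcomm hx.1).eq
  obtain ⟨a, ha, b, hb, hab⟩ := F.mem_AB (F.mem_D.2 ⟨hx.1, hxv⟩) h2 ht
  have hI : F.Is x (F.κ a) (F.θ b) := ⟨a, ha, b, hb, hab, rfl, rfl⟩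
  exact ⟨_, _, F.rp_of_zt hI hx, hI⟩

theorem exists_R {x : G} (hx : F.ZT x) :
    ∃ g, g * F.z = F.z * g ∧ ∃ α β, RP α β ∧ F.Is (g * x * g⁻¹) α β := by
  obtain ⟨g, hg, hP | hB⟩ := F.classify hx.1 (ZT.sq F hx) hx.2.1
  · have hx' := ZT.cj F hg hx
    have hI : F.Is (g * x * g⁻¹) 0 (F.θ (g * x * g⁻¹)) :=
      ⟨1, one_mem _, g * x * g⁻¹, mem_A.mpr ⟨hP, hx'.1⟩, (one_mul _).symm, by
        rw [κ, F.T.c_one]; funext i; fin_cases i <;> rfl, rfl⟩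
    exact ⟨g, hg, _, _, F.rp_of_zt hI hx', hI⟩
  · exact absurd (ZT.cj F hg hx).2.2 (F.typB_not_conj hB)

theorem Ln.sing {x : G} (hx : F.ZT x) {w : V6} (h : F.Ln x w) : qm w = 0 := by
  obtain ⟨g, hg, α, β, hp, hI⟩ := F.exists_R hx
  have h' := (F.ln_R hI hp _).1 ((F.ln_cj hg hx.1 w).2 h)
  rw [← Q_ap (F.T.ρ g) w, ← q3_tr]
  exact (pt_sing β hp.1 _ h').1

theorem Ln.orth {x : G} (hx : F.ZT x) {a b : V6} (ha : F.Ln x a) (hb : F.Ln x b) :
    polar ⇑qm a b = 0 := by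
  obtain ⟨g, hg, α, β, hp, hI⟩ := F.exists_R hx
  have ha' := (F.ln_R hI hp _).1 ((F.ln_cj hg hx.1 a).2 ha)
  have hb' := (F.ln_R hI hp _).1 ((F.ln_cj hg hx.1 b).2 hb)
  rw [← polar_ap (F.T.ρ g) a b, ← b3_tr]
  exact (pt_sing β hp.1 _ ha').2 _ hb'

theorem Ln.three {x : G} (hx : F.ZT x) {a b c : V6} (ha : F.Ln x a) (hb : F.Ln x b) (hne : a ≠ b)
    (hc : F.Ln x c) : c = a ∨ c = b ∨ c = a + b := by
  obtain ⟨g, hg, α, β, hp, hI⟩ := F.exists_R hx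
  have h := fun {w : V6} (hw : F.Ln x w) => (F.ln_R hI hp _).1 ((F.ln_cj hg hx.1 w).2 hw)
  rcases pt_three β hp.2.1 _ (h ha) _ (h hb) (fun e => hne (ap_inj _ (tr_inj e))) _ (h hc) with
    e | e | e
  · exact Or.inl (ap_inj _ (tr_inj e))
  · exact Or.inr (Or.inl (ap_inj _ (tr_inj e)))
  · rw [← tr_add, ← map_add] at e
    exact Or.inr (Or.inr (ap_inj _ (tr_inj e)))

/-- The singular fixed points are the points of the line. -/
theorem ln_of_fixed {x : G} (hx : F.ZT x) {w : V6} (h0 : w ≠ 0) (hq : qm w = 0)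
    (hf : Orth.ap (F.T.ρ x) w = w) : F.Ln x w := by
  obtain ⟨g, hg, α, β, hp, hI⟩ := F.exists_R hx
  refine (F.ln_cj hg hx.1 w).1 (F.fix_R hI hp (fun e => h0 (ap_inj _ (e.trans (map_zero _).symm)))
    (by rw [Q_ap, hq]) ?_)
  rw [F.ap_cj hg hx.1, hf]

/-- A point of the line may be moved to `v0`. -/
theorem to_R {x : G} (hx : F.ZT x) {w : V6} (h : F.Ln x w) :
    ∃ g, g * F.z = F.z * g ∧ Orth.ap (F.T.ρ g) w = v0 ∧ ∃ α β, RP α β ∧ F.Is (g * x * g⁻¹) α β := by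
  obtain ⟨ω, hω, hωw⟩ := exists_omega_to_v0 h.1 (Ln.sing F hx h)
  obtain ⟨g, hg, hgρ⟩ := F.T.ρ_surj ω hω
  rw [← hgρ] at hωw
  refine ⟨g, hg, hωw, F.R_of_ln (ZT.cj F hg hx) ?_⟩
  rw [← hωw]
  exact (F.ln_cj hg hx.1 w).2 h

theorem card_ln_pairs {x : G} (hx : F.ZT x) :
    Nat.card {p : V6 × V6 // F.Ln x p.1 ∧ F.Ln x p.2 ∧ p.1 ≠ p.2} = 6 := by
  obtain ⟨g, hg, α, β, hp, hI⟩ := F.exists_R hx
  let e : V6 ≃ V3 := (apE (F.T.ρ g)).trans trE
  rw [Nat.card_congr (Equiv.subtypeEquiv (e.prodCongr e)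
    (q := fun p : V3 × V3 => Pt β p.1 ∧ Pt β p.2 ∧ p.1 ≠ p.2) fun p => ?_),
    Nat.card_eq_fintype_card, Fintype.card_subtype, pt_pairs β hp.1 hp.2.1]
  have hl : ∀ w, F.Ln x w ↔ Pt β (e w) := fun w =>
    (F.ln_cj hg hx.1 w).symm.trans (F.ln_R hI hp _)
  rw [hl, hl]
  exact and_congr_right fun _ => and_congr_right fun _ => e.injective.ne_iff.symm

theorem card_Cz : Nat.card (Subgroup.centralizer ({F.z} : Set G)) = 3317760 := by
  set C := Subgroup.centralizer ({F.z} : Set G)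
  have hm : ∀ g : C, (g : G) * F.z = F.z * g := fun g => Subgroup.mem_centralizer_singleton_iff.1 g.2
  let f : C →* ↥(Cfsg.Omega (ZMod 2) ⇑qm) :=
    MonoidHom.mk' (fun g => ⟨F.T.ρ g, F.T.ρ_mem g (hm g)⟩)
      fun a b => Subtype.ext (F.T.ρ_mul a b (hm a) (hm b))
  have hs : Function.Surjective f := fun ω => by
    obtain ⟨g, hg, he⟩ := F.T.ρ_surj ω ω.2
    exact ⟨⟨g, Subgroup.mem_centralizer_singleton_iff.2 hg⟩, Subtype.ext he⟩
  have hker : f.ker = F.Q.subgroupOf C := by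
    ext g
    rw [MonoidHom.mem_ker, Subgroup.mem_subgroupOf, ← F.T.ρ_ker g (hm g)]
    exact Subtype.ext_iff
  have hQC : F.Q ≤ C := fun q hq => Subgroup.mem_centralizer_singleton_iff.2 (F.T.Qz hq)
  have h := f.ker.card_mul_index
  rw [Subgroup.index_ker, MonoidHom.range_eq_top.2 hs, Subgroup.card_top, card_omega, hker,
    Nat.card_congr (Subgroup.subgroupOfEquivOfLe hQC).toEquiv, F.T.card_Q] at h
  omega

end Fr

namespace Fu

variable [Finite G] (W : Fu G)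

theorem card_through {a b : V6} (ha : a ≠ 0) (hb : b ≠ 0) (hne : a ≠ b) (hqa : qm a = 0)
    (hqb : qm b = 0) (hab : polar ⇑qm a b = 0) :
    Nat.card {x : G // W.F.ZT x ∧ W.F.Ln x a ∧ W.F.Ln x b} = 8 := by
  obtain ⟨ω, hω, hωa⟩ := exists_omega_to_v0 ha hqa
  obtain ⟨g, hg, hgρ⟩ := W.F.T.ρ_surj ω hω
  rw [← hgρ] at hωa
  set b' := ap (W.F.T.ρ g) b
  obtain ⟨hcp, hqs, hs0⟩ := sing_mem (tr b')
    (fun e => hb (ap_inj _ ((tr_eq_zero.1 e).trans (map_zero _).symm)))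
    (by rw [q3_tr, Q_ap, hqb]) (by rw [← tr_v0, b3_tr, ← hωa, polar_ap, hab])
    (fun e => hne (ap_inj _ (hωa.trans (tr_inj (e.trans tr_v0.symm)).symm)))
  have h8 := W.card_par_set fun α β => RP α β ∧ β = (tr b').2.2
  rw [rp_card _ hqs hs0] at h8
  refine Eq.trans (Nat.card_congr (Equiv.subtypeEquiv (MulAut.conj g).toEquiv fun x => ?_)) h8
  simp only [MulEquiv.toEquiv_eq_coe, MulEquiv.coe_toEquiv, MulAut.conj_apply]
  constructor
  · rintro ⟨hx, hxa, hxb⟩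
    have hv := (W.F.ln_cj hg hx.1 a).2 hxa
    rw [hωa] at hv
    obtain ⟨α, β, hp, hI⟩ := W.F.R_of_ln (Fr.ZT.cj W.F hg hx) hv
    obtain ⟨-, -, h⟩ := (W.F.ln_R hI hp _).1 ((W.F.ln_cj hg hx.1 b).2 hxb)
    exact ⟨α, β, ⟨hp, (h.resolve_left hs0).symm⟩, hI⟩
  · rintro ⟨α, β, ⟨hp, rfl⟩, hI⟩
    have hx' := W.F.zt_R hI hp
    have hg' : g⁻¹ * W.F.z = W.F.z * g⁻¹ := (Commute.inv_left hg).eq
    have hx := Fr.ZT.cj W.F hg' hx'
    rw [show g⁻¹ * (g * x * g⁻¹) * g⁻¹⁻¹ = x by group] at hx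
    refine ⟨hx, (W.F.ln_cj hg hx.1 a).1 ?_, (W.F.ln_cj hg hx.1 b).1 ?_⟩
    · rw [hωa]; exact W.F.v0_ln hI hp
    · exact (W.F.ln_R hI hp _).2 ⟨fun e => hb (ap_inj _ ((tr_eq_zero.1 e).trans (map_zero _).symm)),
        hcp, Or.inr rfl⟩

theorem card_avoid :
    Nat.card {x : G // W.F.ZT x ∧ ∀ w, W.F.Ln x w → ¬ Z5 (tr w)} = 192 := by
  classical
  let S := {x : G // W.F.ZT x ∧ ∀ w, W.F.Ln x w → ¬ Z5 (tr w)}
  let P := {p : V6 × V6 // Good (tr p.1) (tr p.2)}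
  haveI := Fintype.ofFinite G
  have hP : Nat.card P = 144 := by
    refine (Nat.card_congr (Equiv.subtypeEquiv (trE.prodCongr trE)
      (q := fun p : V3 × V3 => Good p.1 p.2) fun p => Iff.rfl)).trans ?_
    rw [Nat.card_eq_fintype_card, Fintype.card_subtype, good_card]
  have hgood : ∀ p : P, p.1.1 ≠ 0 ∧ p.1.2 ≠ 0 ∧ p.1.1 ≠ p.1.2 ∧ qm p.1.1 = 0 ∧ qm p.1.2 = 0 ∧
      polar ⇑qm p.1.1 p.1.2 = 0 := by
    rintro ⟨⟨a, b⟩, h1, h2, h3, h4, h5, h6, -⟩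
    rw [q3_tr] at h4 h5
    rw [b3_tr] at h6
    exact ⟨fun e => h1 (tr_eq_zero.2 e), fun e => h2 (tr_eq_zero.2 e),
      fun e => h3 (congrArg tr e), h4, h5, h6⟩
  have h1 : Nat.card (Σ x : S, {p : V6 × V6 // W.F.Ln x.1 p.1 ∧ W.F.Ln x.1 p.2 ∧ p.1 ≠ p.2}) =
      Nat.card S * 6 := by
    rw [Nat.card_sigma, Finset.sum_congr rfl fun x _ => W.F.card_ln_pairs x.2.1, Finset.sum_const,
      smul_eq_mul, Finset.card_univ, ← Nat.card_eq_fintype_card]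
  have h2 : Nat.card (Σ p : P, {x : G // W.F.ZT x ∧ W.F.Ln x p.1.1 ∧ W.F.Ln x p.1.2}) = 1152 := by
    rw [Nat.card_sigma, Finset.sum_congr rfl fun p _ =>
      W.card_through (hgood p).1 (hgood p).2.1 (hgood p).2.2.1 (hgood p).2.2.2.1
        (hgood p).2.2.2.2.1 (hgood p).2.2.2.2.2,
      Finset.sum_const, smul_eq_mul, Finset.card_univ, ← Nat.card_eq_fintype_card, hP]
  have h3 : Nat.card (Σ x : S, {p : V6 × V6 // W.F.Ln x.1 p.1 ∧ W.F.Ln x.1 p.2 ∧ p.1 ≠ p.2}) =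
      Nat.card (Σ p : P, {x : G // W.F.ZT x ∧ W.F.Ln x p.1.1 ∧ W.F.Ln x p.1.2}) := by
    refine Nat.card_congr
      { toFun := fun q => ⟨⟨q.2.1, ?_⟩, q.1.1, q.1.2.1, q.2.2.1, q.2.2.2.1⟩
        invFun := fun q => ⟨⟨q.2.1, q.2.2.1, ?_⟩, q.1.1, q.2.2.2.1, q.2.2.2.2, (hgood q.1).2.2.1⟩
        left_inv := fun q => rfl
        right_inv := fun q => rfl }
    · obtain ⟨⟨x, hx, hav⟩, ⟨a, b⟩, ha, hb, hne⟩ := q
      refine ⟨fun e => ha.1 (tr_eq_zero.1 e), fun e => hb.1 (tr_eq_zero.1 e),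
        fun e => hne (tr_inj e), by rw [q3_tr, Fr.Ln.sing W.F hx ha],
        by rw [q3_tr, Fr.Ln.sing W.F hx hb], by rw [b3_tr, Fr.Ln.orth W.F hx ha hb],
        hav a ha, hav b hb, ?_⟩
      rw [← tr_add]
      exact hav _ (Fr.Ln.add W.F ha hb hne)
    · obtain ⟨⟨⟨a, b⟩, hG⟩, x, hx, ha, hb⟩ := q
      intro w hw
      rcases Fr.Ln.three W.F hx ha hb ((hgood ⟨_, hG⟩).2.2.1) hw with rfl | rfl | rfl
      · exact hG.2.2.2.2.2.2.1
      · exact hG.2.2.2.2.2.2.2.1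
      · rw [tr_add]; exact hG.2.2.2.2.2.2.2.2
  show Nat.card S = 192
  omega

theorem orbit_u {y : G} (hy : y * W.F.z = W.F.z * y) (hc : IsConj W.u y) :
    ∃ g, g * W.F.z = W.F.z * g ∧ g * W.u * g⁻¹ = y := by
  have hy2 : y * y = 1 := by
    obtain ⟨k, rfl⟩ := isConj_iff.1 hc
    calc k * W.u * k⁻¹ * (k * W.u * k⁻¹) = k * (W.u * W.u) * k⁻¹ := by group
      _ = 1 := by rw [W.u_sq]; group
  have hy1 : y ≠ 1 := fun e => W.u_ne (isConj_one_left.mp (e ▸ hc))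
  have hnz : ¬ IsConj W.F.z y := fun h => W.u_not_conj (h.trans hc.symm)
  obtain ⟨g, hg, hP | hB⟩ := W.F.classify hy hy2 fun hQ => hnz (W.F.isConj_of_mem_Q hQ hy2 hy1)
  · refine absurd ((W.F.isConj_of_mem_P hP ?_ ?_).trans (isConj_iff.2 ⟨g⁻¹, by group⟩)) hnz
    · calc g * y * g⁻¹ * (g * y * g⁻¹) = g * (y * y) * g⁻¹ := by group
        _ = 1 := by rw [hy2]; group
    · exact fun e => hy1 (conj_eq_one_iff.mp e)
  · obtain ⟨k, hk, hku⟩ := W.F.typB_conj W.hu hB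
    refine ⟨g⁻¹ * k, (Commute.mul_left (Commute.inv_left hg) hk).eq, ?_⟩
    calc g⁻¹ * k * W.u * (g⁻¹ * k)⁻¹ = g⁻¹ * (k * W.u * k⁻¹) * g := by group
      _ = y := by rw [hku]; group

theorem card_orbit_u :
    Nat.card {y : G // y * W.F.z = W.F.z * y ∧ IsConj W.u y} = 6480 := by
  have h := orbit_card (Subgroup.centralizer ({W.F.z} : Set G)) W.u
  rw [inf_comm, show Subgroup.centralizer ({W.u} : Set G) ⊓ Subgroup.centralizer ({W.F.z} : Set G)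
    = W.S from rfl, W.card_S, W.F.card_Cz] at h
  have he : Nat.card {y : G // y * W.F.z = W.F.z * y ∧ IsConj W.u y} =
      Nat.card {b : G // ∃ k ∈ Subgroup.centralizer ({W.F.z} : Set G), k * W.u * k⁻¹ = b} := by
    refine Nat.card_congr (Equiv.subtypeEquivRight fun b => ⟨?_, ?_⟩)
    · rintro ⟨hb, hc⟩
      obtain ⟨g, hg, rfl⟩ := W.orbit_u hb hc
      exact ⟨g, Subgroup.mem_centralizer_singleton_iff.2 hg, rfl⟩
    · rintro ⟨k, hk, rfl⟩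
      rw [Subgroup.mem_centralizer_singleton_iff] at hk
      exact ⟨((Commute.mul_left hk W.uz).mul_left (Commute.inv_left hk)).eq, isConj_iff.2 ⟨k, rfl⟩⟩
  rw [he]
  omega

end Fu

end Cfsg.Agent.SuzType
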