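/-
The pairs of involutions attached to `z` in a group of Suzuki type (helper1).

* `mem_Q_iff`, `through_iff`, `off_iff` : when `z ∈ ⟨x u⟩` for a conjugate `x` of `z` in `C(z)`,
  by the position of `x`
* `count_z` : there are 236 conjugates `x` of `z` with `z ∈ ⟨x u⟩`
-/
import Cfsg.Agent.Lib.SuzType.Lines
import Cfsg.Agent.Lib.Involution.Basic

set_option autoImplicit false
open scoped commutatorElement

namespace Cfsg.Agent.SuzType

open Cfsg.Agent.Orth Cfsg.Agent.LargeExtraspecial Cfsg.Agent.LargeExtraspecial.Cfg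
open QuadraticMap (polar)
open Fr (K1 K2 SingPar)

set_option synthInstance.maxSize 1024

/-- The fixed points of `ρ u`. -/
abbrev Fx (p : V3) : Prop := p.2.1 = 0 ∧ bU p.2.2 W0 = 0

/-- The action of `ρ u`. -/
abbrev f3 (p : V3) : V3 := (p.1 + (p.2.1 + bU p.2.2 W0), p.2.1, p.2.2 + p.2.1 • W0)

/-- The points of the radical counted. -/
abbrev TQ (p : V3) : Prop :=
  q3 p = 0 ∧ p ≠ 0 ∧ (p.2.1 = 1 ∨ (p.2.1 = 0 ∧ bU p.2.2 W0 = 0 ∧ bU p.2.2 A0 = 1))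

theorem tq_card : (Finset.univ.filter fun p : V3 => TQ p).card = 18 := by decide +kernel

theorem eta_facts : ∀ p : V3, q3 p = 0 → q3 (p + f3 p) = p.2.1 ∧ (p + f3 p = 0 ↔ Fx p) := by
  decide +kernel

theorem f3_fix : ∀ p : V3, f3 p = p ↔ Fx p := by decide +kernel

theorem fx_cases : ∀ p : V3, p ≠ 0 → q3 p = 0 → Fx p → Z5 p ∨ bU p.2.2 A0 = 1 := by decide +kernel

theorem z5_fx : ∀ p : V3, Z5 p → Fx p ∧ bU p.2.2 A0 = 0 := by decide +kernel

theorem rp_yes : (Finset.univ.filter fun p : U4 × U4 =>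
    RP p.1 p.2 ∧ (K1 p.1 p.2 A0 W0 = 1 ∧ K2 p.1 p.2 A0 W0 = 0)).card = 2 := by decide +kernel

theorem rp_zp : ∀ α β, RP α β → Ker α β → ∀ p, Pt β p → Fx p := by decide +kernel

theorem rp_comm : ∀ α β, RP α β → ∀ α' β', RP α' β' → β ≠ β' →
    ((α = 0 ↔ α' = 0) → ¬ (K1 α β α' β' = 0 ∧ K2 α β α' β' = 0) ∧
        ¬ (K1 α β α' β' = 1 ∧ K2 α β α' β' = 0)) ∧
      (¬ (α = 0 ↔ α' = 0) → K1 α β α' β' = 1 ∧ K2 α β α' β' = 0) := by
  decide +kernel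

theorem no_swap : ∀ w : V3, w ≠ 0 → q3 w = 0 → Fx w → ∀ t : V3, t ≠ 0 → q3 t = 0 → b3 w t = 0 →
    t ≠ w → w ≠ (1, 0, 0) → t ≠ (1, 0, 0) → w + t ≠ (1, 0, 0) → f3 t ≠ t ∧ f3 t ≠ w + t := by
  decide +kernel

theorem smul_fact : ∀ c : ZMod 2, ∀ a : U4, bU a W0 = 0 → bU a A0 = c →
    K1 A0 W0 a 0 = c ∧ K2 A0 W0 a 0 = 0 := by decide +kernel

variable {G : Type*} [Group G] [Finite G]

namespace Fu

variable (W : Fu G)

theorem tr_ap_u (t : V6) : tr (ap (W.F.T.ρ W.u) t) = f3 (tr t) := by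
  have h := W.ap_u t
  have e : ap (W.F.T.ρ W.u) t = t + (cp t • io W0 + (cp t + bU (pu t) W0) • v0) := by
    rw [← h, add_left_comm, ZModModule.add_self, add_zero]
  rw [e, tr_add]
  refine Prod.ext ?_ (Prod.ext ?_ ?_)
  · simp only [tr, Prod.fst_add]
    rw [cv_add]
    simp [SuzType.cv, io, v0]
  · simp only [tr, Prod.fst_add, Prod.snd_add]
    rw [cp_add]
    simp [cp, io, v0]
  · simp only [tr, Prod.snd_add]
    rw [pu_add, pu_smul, pu_smul, pu_io, pu_v0, smul_zero, add_zero]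

theorem fix_iff (w : V6) : ap (W.F.T.ρ W.u) w = w ↔ Fx (tr w) := by
  rw [← f3_fix, ← W.tr_ap_u]
  exact ⟨fun h => congrArg tr h, fun h => tr_inj h⟩

theorem u_inv : W.u⁻¹ = W.u := inv_eq_of_mul_eq_one_right W.u_sq

theorem sq_xu (x : G) : x * W.u * (x * W.u) = x * (W.u * x * W.u⁻¹) := by
  rw [W.u_inv]; group

theorem z_conj_zpowers {g a : G} (hg : g * W.F.z = W.F.z * g) :
    W.F.z ∈ Subgroup.zpowers (g * a * g⁻¹) ↔ W.F.z ∈ Subgroup.zpowers a := by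
  have hz : g * W.F.z * g⁻¹ = W.F.z := mul_inv_eq_iff_eq_mul.mpr hg
  constructor
  · rintro ⟨i, hi⟩
    refine ⟨i, ?_⟩
    simp only [conj_zpow] at hi ⊢
    calc a ^ i = g⁻¹ * (g * a ^ i * g⁻¹) * g := by group
      _ = g⁻¹ * (g * W.F.z * g⁻¹) * g := by rw [hi, hz]
      _ = W.F.z := by group
  · rintro ⟨i, hi⟩
    refine ⟨i, ?_⟩
    simp only [conj_zpow] at hi ⊢
    rw [hi, hz]

theorem sq_mem {H : Type*} [Group H] {a : H} : a * a ∈ Subgroup.zpowers a := mul_mem (Subgroup.mem_zpowers a) (Subgroup.mem_zpowers a)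

/-- Elements of the radical. -/
theorem mem_Q_iff {x : G} (hQ : x ∈ W.F.Q) :
    (IsConj W.F.z x ∧ W.F.z ∈ Subgroup.zpowers (x * W.u)) ↔ TQ (tr (W.F.T.c x)) := by
  set a := x * W.u with ha
  set p := tr (W.F.T.c x) with hp
  have huQ : W.u ∉ W.F.Q := (W.F.typB_inv W.hu).2.1
  have hx' := W.F.T.data.norm W.u W.uz x hQ
  have hy : x * (W.u * x * W.u⁻¹) ∈ W.F.Q := mul_mem hQ hx'
  have hyc : tr (W.F.T.c (x * (W.u * x * W.u⁻¹))) = p + f3 p := by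
    rw [W.F.T.c_mul x hQ _ hx', W.F.T.ρ_conj W.u W.uz x hQ, tr_add, W.tr_ap_u]
  have ha1 : a ≠ 1 := fun e => huQ (by
    rw [show W.u = x⁻¹ from (inv_eq_of_mul_eq_one_right e).symm]; exact inv_mem hQ)
  have haz : a ≠ W.F.z := fun e => huQ (by
    rw [show W.u = x⁻¹ * a by rw [ha, inv_mul_cancel_left], e]
    exact mul_mem (inv_mem hQ) W.F.T.data.z_mem)
  have hfix : x * x = 1 → Fx p → a * a = W.F.pz (bU p.2.2 A0) 0 := by
    intro h2 hf
    have hA : x ∈ A W.F.Q W.F.v := W.F.mem_A_iff.2 ⟨hQ, hf.1⟩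
    have hI : W.F.Is x p.2.2 0 := W.F.Is_A hA
    obtain ⟨k1, k2⟩ := smul_fact _ _ hf.2 rfl
    rw [ha, W.sq_zz hI W.hu h2 W.u_sq]
    congr 1
    · rw [← k1]; simp only [K1, bU_comm]; ring
    · rw [← k2]; simp only [K2, bU_comm]; ring
  constructor
  · rintro ⟨hc, hz⟩
    have h2 : x * x = 1 := by
      obtain ⟨g, rfl⟩ := isConj_iff.1 hc
      calc g * W.F.z * g⁻¹ * (g * W.F.z * g⁻¹) = g * (W.F.z * W.F.z) * g⁻¹ := by group
        _ = 1 := by rw [W.F.z_sq]; group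
    have hq : q3 p = 0 := by
      rw [hp, q3_tr]; exact pw_inj W.F.z_ne (by rw [← W.F.T.sq x hQ, h2, pw_zero])
    obtain ⟨e1, e2⟩ := eta_facts p hq
    rcases z2 p.2.1 with hcp | hcp
    · rw [hcp] at e1
      by_cases hf : Fx p
      · have h4 := hfix h2 hf
        rcases z2 (bU p.2.2 A0) with hb | hb <;> rw [hb] at h4
        · rw [W.F.pz_zero] at h4
          exact absurd (invol_uniq hz (Subgroup.mem_zpowers a) W.F.z_sq W.F.z_ne h4 ha1).symm haz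
        · refine ⟨hq, fun h0 => ?_, Or.inr ⟨hcp, hf.2, hb⟩⟩
          rw [h0] at hb; simp [bU] at hb
      · exfalso
        have hne : p + f3 p ≠ 0 := fun h => hf (e2.1 h)
        refine hne ?_
        have h := invol_uniq hz (sq_mem (a := a)) W.F.z_sq W.F.z_ne
          (by rw [ha, W.sq_xu, W.F.T.sq _ hy, ← q3_tr, hyc, e1, pw_zero])
          (fun h => hne (by
            rw [← hyc, ← W.sq_xu, ← ha, h, W.F.T.c_one, tr_zero]))
        rw [← hyc, ← W.sq_xu, ← ha, ← h]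
        rw [show W.F.T.c W.F.z = 0 from W.F.T.c_z, tr_zero]
    · exact ⟨hq, fun h0 => by rw [h0] at hcp; exact zero_ne_one hcp, Or.inl hcp⟩
  · rintro ⟨hq, h0, hor⟩
    have h2 : x * x = 1 := by rw [W.F.T.sq x hQ, ← q3_tr, ← hp, hq, pw_zero]
    have h1 : x ≠ 1 := fun e => h0 (by rw [hp, e, W.F.T.c_one, tr_zero])
    refine ⟨W.F.isConj_of_mem_Q hQ h2 h1, ?_⟩
    obtain ⟨e1, -⟩ := eta_facts p hq
    rcases hor with hcp | ⟨hcp, hw, hb⟩
    · have h4 : a * a * (a * a) = W.F.z := by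
        rw [ha, W.sq_xu, W.F.T.sq _ hy, ← q3_tr, hyc, e1, hcp, pw_one]
      rw [← h4]; exact mul_mem sq_mem sq_mem
    · have h4 := hfix h2 ⟨hcp, hw⟩
      rw [hb, W.F.pz_z] at h4
      rw [← h4]; exact sq_mem

theorem card_Q_part : Nat.card {x : G // x ∈ W.F.Q ∧ TQ (tr (W.F.T.c x))} = 36 := by
  classical
  choose r hr hrc using fun p : V3 => W.F.T.c_surj (trE.symm p)
  have hc : ∀ p i, tr (W.F.T.c (r p * pw W.F.z i)) = p := by
    intro p i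
    have h0 : W.F.T.c (pw W.F.z i) = 0 := by
      rcases z2 i with rfl | rfl <;> simp [W.F.T.c_one, W.F.T.c_z]
    rw [W.F.T.c_mul _ (hr p) _ (pw_mem W.F.T.data.z_mem i), h0, add_zero, hrc]
    exact trE.apply_symm_apply p
  let f : {p : V3 // TQ p} × ZMod 2 → {x : G // x ∈ W.F.Q ∧ TQ (tr (W.F.T.c x))} := fun q =>
    ⟨r q.1.1 * pw W.F.z q.2, mul_mem (hr _) (pw_mem W.F.T.data.z_mem _), by rw [hc]; exact q.1.2⟩
  have hf : Function.Bijective f := by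
    constructor
    · rintro ⟨⟨p, hp⟩, i⟩ ⟨⟨p', hp'⟩, i'⟩ he
      have he' : r p * pw W.F.z i = r p' * pw W.F.z i' := congrArg Subtype.val he
      obtain rfl : p = p' := by rw [← hc p i, he', hc]
      obtain rfl := pw_inj W.F.z_ne (mul_left_cancel he')
      rfl
    · rintro ⟨x, hx, hT⟩
      have h : W.F.T.c (r (tr (W.F.T.c x))) = W.F.T.c x := by
        rw [hrc]; exact trE.symm_apply_apply _
      rcases W.F.T.c_eq (hr _) hx h with e | e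
      · exact ⟨⟨⟨_, hT⟩, 0⟩, Subtype.ext (by simp [f, ← e])⟩
      · exact ⟨⟨⟨_, hT⟩, 1⟩, Subtype.ext (by simp [f, ← e])⟩
  rw [← Nat.card_congr (Equiv.ofBijective f hf), Nat.card_prod, Nat.card_zmod,
    Nat.card_eq_fintype_card, Fintype.card_subtype, tq_card]

theorem ne_u {x : G} (hc : IsConj W.F.z x) : x ≠ W.u := fun e => W.u_not_conj (e ▸ hc)

/-- Conjugates of `z` with `v0` on their line. -/
theorem through_iff {x : G} {α β : U4} (hI : W.F.Is x α β) (hp : RP α β) :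
    W.F.z ∈ Subgroup.zpowers (x * W.u) ↔ K1 α β A0 W0 = 1 ∧ K2 α β A0 W0 = 0 := by
  have hx := W.F.zt_R hI hp
  have hsq := W.sq_zz hI W.hu (Fr.ZT.sq W.F hx) W.u_sq
  constructor
  · intro hz
    by_cases h0 : K1 α β A0 W0 = 0 ∧ K2 α β A0 W0 = 0
    · exfalso
      rw [h0.1, h0.2, W.F.pz_zero] at hsq
      have ha1 : x * W.u ≠ 1 := fun e =>
        W.ne_u hx.2.2 ((eq_inv_of_mul_eq_one_left e).trans W.u_inv)
      have e := invol_uniq hz (Subgroup.mem_zpowers _) W.F.z_sq W.F.z_ne hsq ha1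
      have hu' : W.F.Is W.u α β := by
        rw [show W.u = x⁻¹ * W.F.pz 1 0 by rw [W.F.pz_z, e, inv_mul_cancel_left]]
        exact Fr.Is.mul_pz W.F (Fr.Is.inv W.F hI) _ _
      obtain ⟨-, rfl⟩ := Fr.Is.unique W.F hu' W.hu
      exact absurd hp.1 (by decide)
    · have e := invol_uniq hz sq_mem W.F.z_sq W.F.z_ne
        (by rw [hsq]; exact W.F.pz_sq _ _) (fun e => h0 (W.F.pz_eq_one (hsq.symm.trans e)))
      rw [hsq, ← W.F.pz_z] at e
      exact ⟨(W.F.pz_inj e).1.symm, (W.F.pz_inj e).2.symm⟩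
  · rintro ⟨h1, h2⟩
    rw [h1, h2, W.F.pz_z] at hsq
    rw [← hsq]; exact sq_mem

theorem card_through_part :
    Nat.card {x : G // W.F.ZT x ∧ W.F.Ln x v0 ∧ W.F.z ∈ Subgroup.zpowers (x * W.u)} = 8 := by
  have h := W.card_par_set fun α β => RP α β ∧ (K1 α β A0 W0 = 1 ∧ K2 α β A0 W0 = 0)
  rw [rp_yes] at h
  refine (Nat.card_congr (Equiv.subtypeEquivRight fun x => ⟨?_, ?_⟩)).trans h
  · rintro ⟨hx, hv, hz⟩
    obtain ⟨α, β, hp, hI⟩ := W.F.R_of_ln hx hv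
    exact ⟨α, β, ⟨hp, (W.through_iff hI hp).1 hz⟩, hI⟩
  · rintro ⟨α, β, ⟨hp, hk⟩, hI⟩
    exact ⟨W.F.zt_R hI hp, W.F.v0_ln hI hp, (W.through_iff hI hp).2 hk⟩

/-- A common fixed point off `v0` decides. -/
theorem swap_iff {x : G} (hx : W.F.ZT x) (hv : ¬ W.F.Ln x v0) {w : V6} (hw : W.F.Ln x w)
    (hf : Fx (tr w)) :
    W.F.z ∈ Subgroup.zpowers (x * W.u) ↔ bU (pu w) A0 = 1 := by
  obtain ⟨q, hq, hqc⟩ := W.F.T.c_surj w
  have hqA : q ∈ A W.F.Q W.F.v := W.F.mem_A_iff.2 ⟨hq, by rw [hqc]; exact hf.1⟩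
  have hqI : W.F.Is q (pu w) 0 := by
    have h := W.F.Is_A hqA
    rwa [show W.F.κ q = pu w by rw [Fr.κ, hqc]] at h
  obtain ⟨g, hg, hgw, α, β, hp, hI⟩ := W.F.to_R hx hw
  set b := bU (pu w) A0
  set h := g * W.u * g⁻¹ with hh
  have hhz : h * W.F.z = W.F.z * h :=
    ((Commute.mul_left hg W.uz).mul_left (Commute.inv_left hg)).eq
  have hqu : W.u * q * W.u⁻¹ = q * W.F.pz b 0 := by
    have hc := Fr.Is.comm W.F W.hu hqI
    obtain ⟨k1, k2⟩ := smul_fact b (pu w) hf.2 rfl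
    rw [k1, k2] at hc
    rw [mul_inv_eq_iff_eq_mul, hc, mul_assoc, mul_assoc, W.F.pz_comm W.u_mem_D]
  have hhv : h * W.F.v * h⁻¹ = W.F.v * W.F.pz b 0 := by
    have hgq := W.F.T.data.norm g hg q hq
    have hcw : W.F.T.c (g * q * g⁻¹) = W.F.T.c W.F.v := by
      rw [W.F.T.ρ_conj g hg q hq, hqc, hgw]; exact W.F.cv.symm
    have hgpz : g * W.F.pz b 0 * g⁻¹ = W.F.pz b 0 := by
      rcases z2 b with e | e <;> rw [e]
      · rw [W.F.pz_zero]; group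
      · rw [W.F.pz_z]; exact mul_inv_eq_iff_eq_mul.mpr hg
    have e1 : h * (g * q * g⁻¹) * h⁻¹ = g * q * g⁻¹ * W.F.pz b 0 := by
      calc h * (g * q * g⁻¹) * h⁻¹ = g * (W.u * q * W.u⁻¹) * g⁻¹ := by rw [hh]; group
        _ = g * q * g⁻¹ * (g * W.F.pz b 0 * g⁻¹) := by rw [hqu]; group
        _ = _ := by rw [hgpz]
    rcases W.F.T.c_eq W.F.hv hgq hcw.symm with e | e <;> rw [e] at e1
    · exact e1
    · refine mul_right_cancel (b := W.F.z) ?_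
      calc h * W.F.v * h⁻¹ * W.F.z = h * W.F.v * (h⁻¹ * W.F.z) := by group
        _ = h * (W.F.v * W.F.z) * h⁻¹ := by rw [(Commute.inv_left hhz).eq]; group
        _ = W.F.v * W.F.z * W.F.pz b 0 := e1
        _ = _ := by
          rw [mul_assoc W.F.v W.F.z, W.F.pz_comm (Fr.z_mem_D W.F), ← mul_assoc]
  set x1 := g * x * g⁻¹ with hx1
  have hy : ∃ α' β', W.F.Is (h * x1 * h⁻¹) α' β' ∧ (b = 0 → (α = 0 ↔ α' = 0)) ∧
      (b = 1 → ¬ (α = 0 ↔ α' = 0)) := by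
    rcases z2 b with hb | hb <;> rw [hb] at hhv ⊢
    · have hD : h ∈ W.F.D := W.F.mem_D.2 ⟨hhz, mul_inv_eq_iff_eq_mul.mp (by
        rw [hhv, W.F.pz_zero, mul_one])⟩
      refine ⟨_, _, Fr.Is.conj W.F hD hI, fun _ => ?_, fun e => absurd e zero_ne_one⟩
      exact ⟨fun e => by rw [e, W.F.phi_zero], fun e =>
        W.F.phi_inj hD (e.trans (W.F.phi_zero h).symm)⟩
    · rw [W.F.pz_z] at hhv
      obtain ⟨p, hp', hpc⟩ := W.F.T.c_surj p0
      have hD : h * p ∈ W.F.D := by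
        refine W.F.mem_D.2 ⟨(Commute.mul_left hhz (W.F.T.Qz hp')).eq, mul_inv_eq_iff_eq_mul.mp ?_⟩
        calc h * p * W.F.v * (h * p)⁻¹ = h * (p * W.F.v * p⁻¹) * h⁻¹ := by group
          _ = (h * W.F.z * h⁻¹) * (h * W.F.v * h⁻¹) := by
            rw [W.F.conj_vz hp' hpc, W.F.pz_zv]; group
          _ = W.F.v := by
            rw [mul_inv_eq_iff_eq_mul.mpr hhz, hhv, ← mul_assoc, W.F.zv, mul_assoc, W.F.z_sq, mul_one]
      have hs := Fr.Is.shift W.F (inv_mem hp') (by rw [W.F.T.c_inv hp', hpc]) hI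
      have h' := Fr.Is.conj W.F hD hs
      rw [show h * p * (p⁻¹ * x1 * p⁻¹⁻¹) * (h * p)⁻¹ = h * x1 * h⁻¹ by group] at h'
      refine ⟨_, _, h', fun e => absurd e one_ne_zero, fun _ hiff => ?_⟩
      have hz' : W.F.phi (h * p) (α + β) = 0 ↔ α + β = 0 :=
        ⟨fun e => W.F.phi_inj hD (e.trans (W.F.phi_zero _).symm), fun e => by rw [e, W.F.phi_zero]⟩
      rw [hz'] at hiff
      rcases hp.2.2 with e | e
      · exact hp.2.1 (by simpa [e] using hiff.1 e)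
      · refine hp.2.1 ?_
        rw [← e]; exact hiff.2 (by rw [e, ZModModule.add_self])
  obtain ⟨α', β', hI', hb0, hb1⟩ := hy
  have hx1' : h * x1 * h⁻¹ = g * (W.u * x * W.u⁻¹) * g⁻¹ := by rw [hh, hx1]; group
  have hp' : RP α' β' := W.F.rp_of_zt hI' (Fr.ZT.cj W.F hhz (Fr.ZT.cj W.F hg hx))
  have hne : β ≠ β' := by
    rintro rfl
    have hρ : W.F.T.ρ (h * x1 * h⁻¹) = W.F.T.ρ x1 := ext_ap fun t => by
      rw [Fr.Is.ap W.F hI', Fr.Is.ap W.F hI]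
    have hux : (W.u * x * W.u⁻¹) * W.F.z = W.F.z * (W.u * x * W.u⁻¹) :=
      ((Commute.mul_left W.uz hx.1).mul_left (Commute.inv_left W.uz)).eq
    rw [hx1', hx1, W.F.ρ_cj hg hux, W.F.ρ_cj hg hx.1] at hρ
    have hρ' : W.F.T.ρ (W.u * x * W.u⁻¹) = W.F.T.ρ x := mul_left_cancel (mul_right_cancel hρ)
    have hln : ∀ t, W.F.Ln x t → W.F.Ln x (ap (W.F.T.ρ W.u) t) := by
      intro t ht
      have h' := (W.F.ln_cj W.uz hx.1 t).2 ht
      rwa [Fr.Ln, hρ'] at h'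
    have hb' : W.F.Ln x (ap (W.F.T.ρ g)⁻¹ (io β)) := by
      refine (W.F.ln_cj hg hx.1 _).1 ?_
      rw [ap_ap_inv]
      refine (W.F.ln_R hI hp _).2 ⟨fun e => hp.2.1 ?_, cp_io β, Or.inr (pu_io β)⟩
      rw [← pu_io β, tr_eq_zero.1 e]; exact congrArg (fun p : V3 => p.2.2) tr_zero
    set t := ap (W.F.T.ρ g)⁻¹ (io β) with ht
    have htw : t ≠ w := fun e => hp.2.1 (by
      have e' := congrArg (ap (W.F.T.ρ g)) e
      rw [ht, ap_ap_inv, hgw] at e'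
      rw [← pu_io β, e', pu_v0])
    have hv' : ∀ s, W.F.Ln x s → tr s ≠ (1, 0, 0) := fun s hs e =>
      hv (by rwa [← tr_inj (e.trans tr_v0.symm)])
    obtain ⟨n1, n2⟩ := no_swap (tr w) (fun e => hw.1 (tr_eq_zero.1 e))
      (by rw [q3_tr, Fr.Ln.sing W.F hx hw]) hf (tr t) (fun e => hb'.1 (tr_eq_zero.1 e))
      (by rw [q3_tr, Fr.Ln.sing W.F hx hb']) (by rw [b3_tr, Fr.Ln.orth W.F hx hw hb'])
      (fun e => htw (tr_inj e)) (hv' w hw) (hv' t hb')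
      (by rw [← tr_add]; exact hv' _ (Fr.Ln.add W.F hw hb' htw.symm))
    rcases Fr.Ln.three W.F hx hw hb' htw.symm (hln t hb') with e | e | e
    · exact htw (ap_inj (W.F.T.ρ W.u) (e.trans ((W.fix_iff w).2 hf).symm))
    · exact n1 (by rw [← W.tr_ap_u, e])
    · exact n2 (by rw [← W.tr_ap_u, e, tr_add])
  obtain ⟨c0, c1⟩ := rp_comm α β hp α' β' hp' hne
  set a := g * (x * W.u) * g⁻¹ with ha
  have hsq : a * a = x1 * (h * x1 * h⁻¹) := by
    rw [hx1', hx1, ha]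
    calc g * (x * W.u) * g⁻¹ * (g * (x * W.u) * g⁻¹) = g * (x * W.u * (x * W.u)) * g⁻¹ := by group
      _ = _ := by rw [W.sq_xu]; group
  have h4 : a * a * (a * a) = W.F.pz (K1 α β α' β') (K2 α β α' β') := by
    rw [hsq]
    exact W.sq_zz hI hI' (Fr.ZT.sq W.F (Fr.ZT.cj W.F hg hx))
      (Fr.ZT.sq W.F (Fr.ZT.cj W.F hhz (Fr.ZT.cj W.F hg hx)))
  rw [← W.z_conj_zpowers (a := x * W.u) hg, ← ha]
  constructor
  · intro hz
    rcases z2 b with hb | hb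
    · exfalso
      obtain ⟨n0, n1⟩ := c0 (hb0 hb)
      have e := invol_uniq hz (mul_mem sq_mem sq_mem) W.F.z_sq W.F.z_ne
        (by rw [h4]; exact W.F.pz_sq _ _) (fun e => n0 (W.F.pz_eq_one (h4.symm.trans e)))
      rw [h4, ← W.F.pz_z] at e
      exact n1 ⟨(W.F.pz_inj e).1.symm, (W.F.pz_inj e).2.symm⟩
    · exact hb
  · intro hb
    obtain ⟨k1, k2⟩ := c1 (hb1 hb)
    rw [k1, k2, W.F.pz_z] at h4
    rw [← h4]
    exact mul_mem sq_mem sq_mem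

/-- Without `z` in `⟨x u⟩` there is a common fixed point. -/
theorem common {x : G} (hx : W.F.ZT x) (hz : W.F.z ∉ Subgroup.zpowers (x * W.u)) :
    ∃ w, W.F.Ln x w ∧ Fx (tr w) := by
  have hx2 := Fr.ZT.sq W.F hx
  have ox := Involution.orderOf_of_sq hx2 (Fr.ZT.ne W.F hx)
  have ou := Involution.orderOf_of_sq W.u_sq W.u_ne
  obtain ⟨i, oi, hix, hiu, hi⟩ := Involution.exists_commuting_involution ox ou
    (Involution.even_of_not_isConj ox ou fun h => W.u_not_conj (hx.2.2.trans h))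
  have hi2 := Involution.mul_self oi
  have hi1 := Involution.ne_one oi
  have hiz : i * W.F.z = W.F.z * i := by
    obtain ⟨k, rfl⟩ := hi
    exact ((Commute.mul_left hx.1 W.uz).zpow_left k).eq
  have hρ : ∀ {s : G}, s * W.F.z = W.F.z * s → Commute i s →
      ∀ t, ap (W.F.T.ρ s) (ap (W.F.T.ρ i) t) = ap (W.F.T.ρ i) (ap (W.F.T.ρ s) t) := by
    intro s hs hc t
    rw [← ap_mul, ← ap_mul, ← W.F.T.ρ_mul s i hs hiz, ← W.F.T.ρ_mul i s hiz hs, hc.eq]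
  by_cases hQ : i ∈ W.F.Q
  · set w := W.F.T.c i with hw
    have hfix : ∀ {s : G}, s * W.F.z = W.F.z * s → Commute i s → ap (W.F.T.ρ s) w = w := by
      intro s hs hc
      rw [hw, ← W.F.T.ρ_conj s hs i hQ, mul_inv_eq_iff_eq_mul.mpr hc.symm.eq]
    have h0 : w ≠ 0 := fun e => (W.F.T.c_ker i hQ e).elim hi1 fun e' => hz (show W.F.T.z ∈ _ by rw [← e']; exact hi)
    have hq : qm w = 0 := pw_inj W.F.z_ne (by rw [← W.F.T.sq i hQ, hi2, pw_zero])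
    exact ⟨w, W.F.ln_of_fixed hx h0 hq (hfix hx.1 hix), (W.fix_iff w).1 (hfix W.uz hiu)⟩
  have hiS : i ∈ W.S := W.mem_S.2 ⟨hiu.eq, hiz⟩
  by_cases hic : IsConj W.F.z i
  · have hiT : W.F.ZT i := ⟨hiz, hQ, hic⟩
    have hv : W.F.Ln i v0 := W.F.ln_of_fixed hiT v0_ne qm_v0 (W.fix_v0 hiS)
    obtain ⟨α, β, hp, hI⟩ := W.F.R_of_ln hiT hv
    obtain ⟨α', β', hk, hI'⟩ := W.mem_S0_iff.1
      (W.mem_S0.2 ⟨hiu.eq, Fr.Is.mem_D W.F hI⟩)
    obtain ⟨rfl, rfl⟩ := Fr.Is.unique W.F hI hI'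
    have hfx : ∀ {s}, W.F.Ln i s → Fx (tr s) := fun hs =>
      rp_zp α β hp hk _ ((W.F.ln_R hI hp _).1 hs)
    have hperm : W.F.Ln i (ap (W.F.T.ρ x) v0) := by
      obtain ⟨-, t, ht⟩ := hv
      refine ⟨fun e => v0_ne (ap_inj _ (e.trans (map_zero _).symm)), ap (W.F.T.ρ x) t, ?_⟩
      rw [← hρ hx.1 hix, ← map_add, ht]
    have hxx : ∀ t, ap (W.F.T.ρ x) (ap (W.F.T.ρ x) t) = t := fun t => by
      rw [← ap_mul, ← W.F.T.ρ_mul x x hx.1 hx.1, hx2, W.F.T.ρ_one, ap_one]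
    by_cases he : ap (W.F.T.ρ x) v0 = v0
    · exact ⟨v0, W.F.ln_of_fixed hx v0_ne qm_v0 he, hfx hv⟩
    · have hs := Fr.Ln.add W.F hperm hv he
      refine ⟨_, W.F.ln_of_fixed hx hs.1 (Fr.Ln.sing W.F hiT hs) ?_, hfx hs⟩
      rw [map_add, hxx, add_comm]
  · obtain ⟨g, hg, hP | hB⟩ := W.F.classify hiz hi2 hQ
    · refine absurd ((W.F.isConj_of_mem_P hP ?_ ?_).trans (isConj_iff.2 ⟨g⁻¹, by group⟩)) hic
      · calc g * i * g⁻¹ * (g * i * g⁻¹) = g * (i * i) * g⁻¹ := by group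
          _ = 1 := by rw [hi2]; group
      · exact fun e => hi1 (conj_eq_one_iff.mp e)
    obtain ⟨k, hk, hku⟩ := W.F.typB_conj hB W.hu
    set m := k * g with hm
    have hmz : m * W.F.z = W.F.z * m := (Commute.mul_left hk hg).eq
    have hmi : m * i * m⁻¹ = W.u := by rw [← hku, hm]; group
    set w := ap (W.F.T.ρ m)⁻¹ v0 with hw
    have hfix : ∀ {s : G}, s * W.F.z = W.F.z * s → Commute i s → ap (W.F.T.ρ s) w = w := by
      intro s hs hc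
      have hS : m * s * m⁻¹ ∈ W.S := W.mem_S.2 ⟨by
          rw [← hmi]
          calc m * s * m⁻¹ * (m * i * m⁻¹) = m * (s * i) * m⁻¹ := by group
            _ = m * (i * s) * m⁻¹ := by rw [hc.eq]
            _ = _ := by group,
        ((Commute.mul_left hmz hs).mul_left (Commute.inv_left hmz)).eq⟩
      have h := W.fix_v0 hS
      rw [W.F.ρ_cj hmz hs, ap_mul, ap_mul] at h
      refine ap_inj (W.F.T.ρ m) ?_
      rw [ap_ap_inv]; exact h
    have h0 : w ≠ 0 := fun e => v0_ne (ap_inj (W.F.T.ρ m)⁻¹ (e.trans (map_zero _).symm))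
    exact ⟨w, W.F.ln_of_fixed hx h0 (by rw [hw, Q_ap, qm_v0]) (hfix hx.1 hix),
      (W.fix_iff w).1 (hfix W.uz hiu)⟩

/-- Conjugates of `z` whose line misses `v0`. -/
theorem off_iff {x : G} (hx : W.F.ZT x) (hv : ¬ W.F.Ln x v0) :
    W.F.z ∈ Subgroup.zpowers (x * W.u) ↔ ∀ w, W.F.Ln x w → ¬ Z5 (tr w) := by
  constructor
  · intro hz w hw h5
    obtain ⟨hf, hb⟩ := z5_fx _ h5
    have h1 := (W.swap_iff hx hv hw hf).1 hz
    rw [show bU (pu w) A0 = 0 from hb] at h1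
    exact zero_ne_one h1
  · intro hav
    by_contra hz
    obtain ⟨w, hw, hf⟩ := W.common hx hz
    rcases fx_cases (tr w) (fun e => hw.1 (tr_eq_zero.1 e))
      (by rw [q3_tr, Fr.Ln.sing W.F hx hw]) hf with h | h
    · exact hav w hw h
    · exact hz ((W.swap_iff hx hv hw hf).2 h)

/-- The conjugates `x` of `z` with `z ∈ ⟨x u⟩`. -/
theorem count_z :
    Nat.card {x : G // IsConj W.F.z x ∧ W.F.z ∈ Subgroup.zpowers (x * W.u)} = 236 := by
  classical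
  set A : Set G := {x | x ∈ W.F.Q ∧ TQ (tr (W.F.T.c x))} with hA
  set B : Set G := {x | W.F.ZT x ∧ W.F.Ln x v0 ∧ W.F.z ∈ Subgroup.zpowers (x * W.u)} with hB
  set C : Set G := {x | W.F.ZT x ∧ ∀ w, W.F.Ln x w → ¬ Z5 (tr w)} with hC
  have h5 : Z5 (tr v0) := by rw [tr_v0]; decide
  have hS : {x : G | IsConj W.F.z x ∧ W.F.z ∈ Subgroup.zpowers (x * W.u)} = A ∪ B ∪ C := by
    ext x
    simp only [hA, hB, hC, Set.mem_setOf_eq, Set.mem_union]
    constructor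
    · rintro ⟨hc, hz⟩
      by_cases hQ : x ∈ W.F.Q
      · exact Or.inl (Or.inl ⟨hQ, (W.mem_Q_iff hQ).1 ⟨hc, hz⟩⟩)
      have hx2 : x * x = 1 := by
        obtain ⟨g, rfl⟩ := isConj_iff.1 hc
        calc g * W.F.z * g⁻¹ * (g * W.F.z * g⁻¹) = g * (W.F.z * W.F.z) * g⁻¹ := by group
          _ = 1 := by rw [W.F.z_sq]; group
      have hx : W.F.ZT x := ⟨(comm_of_dihedral hx2 W.u_sq W.F.z_sq hz).1, hQ, hc⟩
      by_cases hv : W.F.Ln x v0
      · exact Or.inl (Or.inr ⟨hx, hv, hz⟩)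
      · exact Or.inr ⟨hx, (W.off_iff hx hv).1 hz⟩
    · rintro ((⟨hQ, hT⟩ | ⟨hx, -, hz⟩) | ⟨hx, hav⟩)
      · exact (W.mem_Q_iff hQ).2 hT
      · exact ⟨hx.2.2, hz⟩
      · exact ⟨hx.2.2, (W.off_iff hx fun hv => hav v0 hv h5).2 hav⟩
  have d1 : Disjoint A B := Set.disjoint_left.2 fun x ha hb => hb.1.2.1 ha.1
  have d2 : Disjoint (A ∪ B) C := by
    rw [Set.disjoint_left]
    rintro x (ha | hb) hc
    · exact hc.1.2.1 ha.1
    · exact hc.2 v0 hb.2.1 h5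
  show Nat.card ({x : G | IsConj W.F.z x ∧ W.F.z ∈ Subgroup.zpowers (x * W.u)} : Set G) = 236
  rw [hS, Nat.card_coe_set_eq, Set.ncard_union_eq d2, Set.ncard_union_eq d1,
    show A.ncard = 36 from W.card_Q_part, show B.ncard = 8 from W.card_through_part,
    show C.ncard = 192 from W.card_avoid]

end Fu

end Cfsg.Agent.SuzType
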