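/-
Groups with an involution centraliser `GL(2,3)` and 3-part 9, and their large stabilisers (helper1).

* `gl_word`, `sl_det`, `table_top` : generation of `GL(2,3)` by a quaternion part, an element of order 3
  and an element outside `SL(2,3)`
* `m11` : the group is `M11`
* `index_not_three` : a subgroup meeting `C(t)` in a Sylow 2-subgroup and of index at most 121 has
  index prime to 3
-/
import Cfsg.Agent.Lib.GL23Ident.Simple
import Cfsg.Agent.Lib.GL23Cent.Simple
import Cfsg.Agent.Lib.Order7920.Unique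
import Cfsg.Agent.S0215
import Mathlib.GroupTheory.Transfer

set_option autoImplicit false

namespace Cfsg.Agent.SuzType.Eleven

open Cfsg Cfsg.Agent.GL23Cent

/-- Powers of a table element. -/
def tpow (k : Fin 48) : ℕ → Fin 48
  | 0 => k1
  | n + 1 => GL23Cent.mul (tpow k n) k

theorem sl_det : ∀ k : Fin 48,
    (GL23Cent.mul k k = kz → eps k = 1) ∧ (GL23Cent.mul k (GL23Cent.mul k k) = k1 → eps k = 1) ∧
    (isRefl k → eps k ≠ 1) := by
  decide +kernel

theorem gl_word : ∀ a y : Fin 48, GL23Cent.mul a a = kz → GL23Cent.mul y (GL23Cent.mul y y) = k1 →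
    y ≠ k1 → ∀ k, eps k = 1 → ∃ i : Fin 4, ∃ j : Fin 4, ∃ l : Fin 3,
      k = GL23Cent.mul (GL23Cent.mul (tpow a i)
        (tpow (GL23Cent.mul (GL23Cent.mul y a) (GL23Cent.mul y y)) j)) (tpow y l) := by
  decide +kernel

theorem coset : ∀ k l : Fin 48, eps l ≠ 1 → eps k = 1 ∨ eps (GL23Cent.mul k l) = 1 := by
  decide +kernel

theorem sl_three : ∀ k : Fin 48, eps k = 1 → ∃ a b c : Fin 48,
    GL23Cent.mul a (GL23Cent.mul a a) = k1 ∧ GL23Cent.mul b (GL23Cent.mul b b) = k1 ∧
      GL23Cent.mul c (GL23Cent.mul c c) = k1 ∧ k = GL23Cent.mul (GL23Cent.mul a b) c := by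
  decide +kernel

theorem odd_moves : ∀ k : Fin 48, GL23Cent.mul k (GL23Cent.mul k k) = k1 → k ≠ k1 →
    ∃ c : Fin 48, ∃ y : Fin 48,
      y = GL23Cent.mul k (GL23Cent.mul (GL23Cent.mul c k) (GL23Ident.inv48 c)) ∧ y ≠ k1 ∧
        GL23Cent.mul (GL23Cent.mul y y) (GL23Cent.mul y y) = k1 := by
  decide +kernel

theorem refl_cent : ∀ k : Fin 48, isRefl k →
    (Finset.univ.filter fun l => GL23Cent.mul k l = GL23Cent.mul l k).card = 4 := by
  decide +kernel

theorem sq_ne_neg_one : ∀ s : ZMod 3, s * s + 1 ≠ 0 := by decide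

theorem eleven_arith : ∀ n : Fin 241, n.val ∣ 240 → 8 ∣ n.val → n.val % 11 ≠ 1 := by decide +kernel

theorem five_arith : ∀ (u : Fin 4) (d n : Fin 49), (u.val = 3 ∨ u.val = 1) → d.val * n.val = 16 * u.val → n.val % 5 = 1 →
    ¬ 8 ∣ d.val → d.val ∣ 15 := by decide +kernel

variable {C : Type*} [Group C] (T : Table C)

theorem φ_pow (x : C) : ∀ n : ℕ, T.φ (x ^ n) = tpow (T.φ x) n
  | 0 => by rw [pow_zero, T.φ_one]; rfl
  | n + 1 => by rw [pow_succ, T.φ_mul, φ_pow x n]; rfl

include T

/-- Words in a quaternion part and an element of order 3. -/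
theorem table_word {a y z : C} (hz : T.φ z = kz) (ha : a * a = z) (hy : y ^ 3 = 1) (hy1 : y ≠ 1)
    (k : C) (hk : eps (T.φ k) = 1) :
    ∃ i j l : ℕ, k = a ^ i * (y * a * y⁻¹) ^ j * y ^ l := by
  have hy3 : GL23Cent.mul (T.φ y) (GL23Cent.mul (T.φ y) (T.φ y)) = k1 := by
    rw [← T.φ_mul, ← T.φ_mul, T.eq_one_iff]
    calc y * (y * y) = y ^ 3 := by rw [pow_succ, pow_two, mul_assoc]
      _ = 1 := hy
  obtain ⟨i, j, l, h⟩ := gl_word (T.φ a) (T.φ y) (by rw [← T.φ_mul, ha, hz]) hy3
    (fun e => hy1 (T.eq_one_iff.1 e)) _ hk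
  refine ⟨i, j, l, T.φ.injective ?_⟩
  rw [h, T.φ_mul, T.φ_mul, φ_pow, φ_pow, φ_pow]
  congr 3
  have hyi : y⁻¹ = y * y := inv_eq_of_mul_eq_one_right (by rw [← hy, pow_succ, pow_two, mul_assoc])
  rw [hyi, T.φ_mul, T.φ_mul, T.φ_mul]

/-- Generation of the whole group. -/
theorem table_top {a y z d : C} (hz : T.φ z = kz) (ha : a * a = z) (hy : y ^ 3 = 1) (hy1 : y ≠ 1)
    (hd : eps (T.φ d) ≠ 1) (K : Subgroup C) (haK : a ∈ K) (hyK : y ∈ K) (hdK : d ∈ K) : K = ⊤ := by
  have hsl : ∀ k, eps (T.φ k) = 1 → k ∈ K := by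
    intro k hk
    obtain ⟨i, j, l, rfl⟩ := table_word T hz ha hy hy1 k hk
    exact mul_mem (mul_mem (pow_mem haK i)
      (pow_mem (mul_mem (mul_mem hyK haK) (inv_mem hyK)) j)) (pow_mem hyK l)
  refine eq_top_iff.2 fun k _ => ?_
  rcases coset (T.φ k) (T.φ d) hd with h | h
  · exact hsl k h
  · have := mul_mem (hsl (k * d) (by rw [T.φ_mul]; exact h)) (inv_mem hdK)
    rwa [mul_inv_cancel_right] at this

omit T

section Group

variable {M : Type*} [Group M] [Finite M] {t : M}

/-- An involution centraliser `GL(2,3)` and 3-part 9: the group is `M11`. -/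
theorem m11 (ht : orderOf t = 2)
    (e : Subgroup.centralizer ({t} : Set M) ≃* GL (Fin 2) (ZMod 3))
    (h9 : 9 ∣ Nat.card M) (h27 : ¬ 27 ∣ Nat.card M) :
    Spor.IsoM11 M ∧ Nat.card M = 7920 ∧ IsSimpleGroup M ∧ ∀ u : M, orderOf u = 2 → IsConj t u := by
  classical
  haveI : Fact (Nat.Prime 2) := ⟨Nat.prime_two⟩
  haveI : Fact (Nat.Prime 3) := ⟨Nat.prime_three⟩
  let T := Table.ofEquiv e
  set C := Subgroup.centralizer ({t} : Set M) with hC
  set tC : C := ⟨t, mem_cent_iff.mpr rfl⟩
  have hkz : T.φ tC = kz := phi_t T ht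
  have htt : t * t = 1 := by rw [← sq, ← ht, pow_orderOf_eq_one]
  have hti : t⁻¹ = t := inv_eq_of_mul_eq_one_right htt
  have hcardC : Nat.card C = 48 := T.card_eq
  obtain ⟨P, hP⟩ := GL23Ident.exists_sylow_P16 T ht
  have hPC : (P : Subgroup M) ≤ C := by
    rw [hP]
    rintro _ ⟨k, -, rfl⟩
    exact GL23Ident.elG_mem T k
  have htP : t ∈ (P : Subgroup M) := by
    rw [hP]
    exact ⟨kz, by decide +kernel, GL23Ident.elG_kz T ht⟩
  -- fusion
  obtain ⟨g, hgP, hgne⟩ : ∃ g : M, g * t * g⁻¹ ∈ (P : Subgroup M) ∧ g * t * g⁻¹ ≠ t := by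
    by_contra hiso
    push_neg at hiso
    obtain ⟨N, hN, hodd, hcomm⟩ := S0215.result P t ht htP hiso
    have hfac : ∀ x : M, ∃ m ∈ N, ∃ c ∈ C, x = m * c := by
      intro x
      set n := t * x * t⁻¹ * x⁻¹ with hn
      have hnN : n ∈ N := hcomm x
      have hinv : t * n * t = n⁻¹ := by
        rw [hn, hti]
        calc t * (t * x * t * x⁻¹) * t = (t * t) * (x * t * x⁻¹ * t) := by group
          _ = (t * x * t * x⁻¹)⁻¹ := by
            rw [htt, one_mul, mul_inv_rev, mul_inv_rev, mul_inv_rev, inv_inv, hti]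
            group
      set x' := n⁻¹ with hx'
      set k := orderOf x' with hk
      have hko : Odd k := hodd.of_dvd_nat (Subgroup.orderOf_dvd_natCard _ (inv_mem hnN))
      obtain ⟨j, hj⟩ := hko
      set m := x' ^ (j + 1) with hm
      have hm2 : m * m = x' := by
        rw [hm, ← pow_add, show j + 1 + (j + 1) = k + 1 by omega, pow_succ, hk, pow_orderOf_eq_one,
          one_mul]
      have hmt : t * m * t = m⁻¹ := by
        have hx : t * x' * t⁻¹ = x'⁻¹ := by
          rw [hx', hti, show t * n⁻¹ * t = (t⁻¹ * n * t⁻¹)⁻¹ by group, hti, hinv]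
        calc t * m * t = (t * x' * t⁻¹) ^ (j + 1) := by rw [conj_pow, hm, hti]
          _ = m⁻¹ := by rw [hx, inv_pow, hm]
      have hmconj : m * t * m⁻¹ = x * t * x⁻¹ := by
        have h1 : m⁻¹ = t * m * t := hmt.symm
        calc m * t * m⁻¹ = m * t * (t * m * t) := by rw [h1]
          _ = m * (t * t) * m * t := by group
          _ = x' * t := by rw [htt, mul_one, hm2]
          _ = x * t * x⁻¹ := by rw [hx', hn]; group
      refine ⟨m, pow_mem (inv_mem hnN) _, m⁻¹ * x, ?_, by group⟩
      refine mem_cent_iff.mpr ?_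
      calc m⁻¹ * x * t = m⁻¹ * (x * t * x⁻¹) * x := by group
        _ = t * (m⁻¹ * x) := by rw [← hmconj]; group
    have hNC : ∀ x ∈ N, x ∈ C → x = 1 := by
      intro x hx hxC
      by_contra hx1
      have h3 : (⟨x, hxC⟩ : C) ^ 3 = 1 := by
        have d1 : orderOf x ∣ 48 := hcardC ▸ Subgroup.orderOf_dvd_natCard _ hxC
        have d2 : Odd (orderOf x) := hodd.of_dvd_nat (Subgroup.orderOf_dvd_natCard _ hx)
        have : orderOf x ∣ 3 := by
          have hco : Nat.Coprime (orderOf x) (2 ^ 4) := (Nat.coprime_pow_right_iff (by norm_num) _ _).2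
            (Nat.coprime_two_right.2 d2)
          exact hco.dvd_of_dvd_mul_left (by simpa using d1)
        exact Subtype.ext (orderOf_dvd_iff_pow_eq_one.1 this)
      have hk : GL23Cent.mul (T.φ ⟨x, hxC⟩) (GL23Cent.mul (T.φ ⟨x, hxC⟩) (T.φ ⟨x, hxC⟩)) = k1 := by
        rw [← T.φ_mul, ← T.φ_mul, T.eq_one_iff, ← h3, pow_succ, pow_two, mul_assoc]
      obtain ⟨c, y, hy, hy1, hy4⟩ := odd_moves _ hk fun e' => hx1 (congrArg Subtype.val (T.eq_one_iff.1 e'))
      obtain ⟨c', rfl⟩ := T.φ.surjective c
      obtain ⟨y', rfl⟩ := T.φ.surjective y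
      have hinv : GL23Ident.inv48 (T.φ c') = T.φ c'⁻¹ := by
        have h1 := GL23Ident.elG_inv T (T.φ c')
        apply GL23Ident.elG_injective T
        rw [h1]
        simp [GL23Ident.elG]
      rw [hinv, ← T.φ_mul, ← T.φ_mul, ← T.φ_mul] at hy
      have hy' := T.φ.injective hy
      rw [← T.φ_mul, ← T.φ_mul, T.eq_one_iff] at hy4
      have hyN : (y' : M) ∈ N := by
        rw [hy']
        exact mul_mem hx (hN.conj_mem x hx c')
      have d1 : orderOf (y' : M) ∣ 2 ^ 2 := orderOf_dvd_of_pow_eq_one (by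
        have h := congrArg Subtype.val hy4
        rw [show (2 : ℕ) ^ 2 = 2 + 2 by norm_num, pow_add, pow_two]
        exact h)
      have d2 : Odd (orderOf (y' : M)) := hodd.of_dvd_nat (Subgroup.orderOf_dvd_natCard _ hyN)
      exact hy1 (T.eq_one_iff.2 (Subtype.ext (orderOf_eq_one_iff.1
        (((Nat.coprime_pow_right_iff (by norm_num) _ _).2 (Nat.coprime_two_right.2 d2)).eq_one_of_dvd d1))))
    have hcard : Nat.card M = Nat.card N * 48 := by
      rw [← hcardC, ← Nat.card_prod]
      refine (Nat.card_eq_of_bijective (fun p : N × C => (p.1 : M) * p.2) ⟨?_, ?_⟩).symm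
      · rintro ⟨m, c⟩ ⟨m', c'⟩ h
        have h' : (m' : M)⁻¹ * m = c' * (c : M)⁻¹ := by
          rw [eq_mul_inv_iff_mul_eq, mul_assoc, inv_mul_eq_iff_eq_mul]; exact h
        have h1 := hNC _ (mul_mem (inv_mem m'.2) m.2) (h' ▸ mul_mem c'.2 (inv_mem c.2))
        have e1 : m' = m := Subtype.ext (inv_mul_eq_one.1 h1)
        subst e1
        exact Prod.ext rfl (Subtype.ext (mul_left_cancel h))
      · intro x
        obtain ⟨m, hm, c, hc, rfl⟩ := hfac x
        exact ⟨(⟨m, hm⟩, ⟨c, hc⟩), rfl⟩
    -- `t` inverts `N`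
    have hinvN : ∀ n ∈ N, t * n * t⁻¹ = n⁻¹ := by
      haveI := hN
      let φ : N →* N := (MulAut.conjNormal t : MulAut N).toMonoidHom
      have hfp : MonoidHom.FixedPointFree φ := fun n hn => Subtype.ext (hNC _ n.2 (mem_cent_iff.mpr (by
        have h := congrArg Subtype.val hn
        simp only [φ, MulEquiv.coe_toMonoidHom, MulAut.conjNormal_apply] at h
        exact (mul_inv_eq_iff_eq_mul.mp h).symm)))
      have h2 : Function.Involutive φ := fun n => Subtype.ext (by
        simp only [φ, MulEquiv.coe_toMonoidHom, MulAut.conjNormal_apply, hti]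
        calc t * (t * (n : M) * t) * t = (t * t) * n * (t * t) := by group
          _ = n := by rw [htt, one_mul, mul_one])
      intro n hn
      have h := congrArg Subtype.val (congrFun (hfp.coe_eq_inv_of_involutive h2) ⟨n, hn⟩)
      simpa [φ] using h
    have hab : ∀ a ∈ N, ∀ b ∈ N, a * b = b * a := fun a ha b hb => by
      have h := hinvN (a * b) (mul_mem ha hb)
      rw [show t * (a * b) * t⁻¹ = (t * a * t⁻¹) * (t * b * t⁻¹) by group, hinvN a ha, hinvN b hb,
        mul_inv_rev] at h
      have := congrArg (·⁻¹) h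
      simpa [mul_inv_rev] using this.symm
    let R : Subgroup M :=
      { carrier := {x | x ∈ N ∧ x ^ 3 = 1}
        one_mem' := ⟨one_mem _, one_pow _⟩
        mul_mem' := fun {a b} ha hb =>
          ⟨mul_mem ha.1 hb.1, by rw [(show Commute a b from hab a ha.1 b hb.1).mul_pow, ha.2, hb.2, one_mul]⟩
        inv_mem' := fun {a} ha => ⟨inv_mem ha.1, by rw [inv_pow, ha.2, inv_one]⟩ }
    have hR : IsPGroup 3 R := fun x => ⟨1, Subtype.ext (by rw [pow_one]; exact x.2.2)⟩
    obtain ⟨n, hn⟩ := IsPGroup.iff_card.1 hR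
    have hRN : R ≤ N := fun x hx => hx.1
    have hRd : Nat.card R ∣ Nat.card N := Subgroup.card_dvd_of_le hRN
    obtain ⟨r, hr⟩ := exists_prime_orderOf_dvd_card' (G := N) 3 (by
      have h : 9 ∣ Nat.card N * 48 := hcard ▸ h9
      omega)
    have hr3 : (r : M) ^ 3 = 1 := by
      rw [← hr, ← Subgroup.orderOf_coe, pow_orderOf_eq_one]
    have hr1 : (r : M) ≠ 1 := fun e => by
      rw [orderOf_eq_one_iff.2 (Subtype.ext e)] at hr; omega
    have hRr : R = Subgroup.zpowers (r : M) := by
      have hle : Subgroup.zpowers (r : M) ≤ R := Subgroup.zpowers_le.2 ⟨r.2, hr3⟩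
      refine (Subgroup.eq_of_le_of_card_ge hle ?_).symm
      rw [Nat.card_zpowers, Subgroup.orderOf_coe, hr, hn]
      rcases n with _ | _ | n
      · norm_num
      · norm_num
      · exfalso
        refine h27 (hcard ▸ ?_)
        rw [hn, pow_succ, pow_succ, mul_assoc] at hRd
        exact Nat.mul_dvd_mul ((dvd_mul_left 9 _).trans (by simpa using hRd)) (by norm_num : 3 ∣ 48)
    -- an element squaring to `t` acts on `R`
    obtain ⟨k, hk⟩ : ∃ k : Fin 48, GL23Cent.mul k k = kz := by decide +kernel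
    set a := ((T.φ.symm k : C) : M) with ha
    have haa : a * a = t := by
      have h : T.φ.symm k * T.φ.symm k = tC := T.φ.injective (by
        rw [T.φ_mul, Equiv.apply_symm_apply, hk, hkz])
      exact congrArg Subtype.val h
    have har : a * r * a⁻¹ ∈ R := ⟨hN.conj_mem r r.2 a, by rw [conj_pow, hr3]; group⟩
    rw [hRr, Subgroup.mem_zpowers_iff] at har
    obtain ⟨i, hi⟩ := har
    have h2 : t * r * t⁻¹ = (r : M) ^ (i * i) := by
      rw [← haa, show a * a * r * (a * a)⁻¹ = a * (a * r * a⁻¹) * a⁻¹ by group, ← hi, ← conj_zpow,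
        ← hi, ← zpow_mul]
    rw [hinvN r r.2] at h2
    have hmod : (r : M) ^ (i * i + 1) = 1 := by rw [zpow_add_one, ← h2, inv_mul_cancel]
    have hd := orderOf_dvd_iff_zpow_eq_one.2 hmod
    rw [Subgroup.orderOf_coe, hr] at hd
    refine sq_ne_neg_one i ?_
    have := (ZMod.intCast_zmod_eq_zero_iff_dvd (i * i + 1) 3).2 hd
    push_cast at this
    exact this
  -- no quotient of order two
  set x : M := g * t * g⁻¹ with hx
  have hxC : x ∈ C := hPC hgP
  set xC : C := ⟨x, hxC⟩
  have hx2 : orderOf x = 2 := by rw [hx, Involution.orderOf_conj]; exact ht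
  have hrefl : isRefl (T.φ xC) := by
    have hxx : x * x = 1 := by rw [← sq, ← hx2, pow_orderOf_eq_one]
    refine ⟨?_, fun e' => ?_, fun e' => hgne (eq_t_of_phi T ht e')⟩
    · rw [← T.φ_mul, T.eq_one_iff]; exact Subtype.ext hxx
    · have : x = 1 := congrArg Subtype.val (T.eq_one_iff.1 e')
      rw [this, orderOf_one] at hx2; omega
  have hO : pResidual 2 M = ⊤ := by
    set K := pResidual 2 M with hK
    have hodd : ∀ y : M, Nat.Coprime (orderOf y) 2 → y ∈ K := fun y hy => Subgroup.subset_closure hy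
    have hKn : K.Normal := ⟨fun y hy h => by
      rw [hK, pResidual] at hy ⊢
      induction hy using Subgroup.closure_induction with
      | mem u hu => exact Subgroup.subset_closure (by
          show Nat.Coprime (orderOf (h * u * h⁻¹)) 2
          rw [show h * u * h⁻¹ = MulAut.conj h u from rfl, MulEquiv.orderOf_eq]
          exact hu)
      | one => simp
      | mul u w _ _ h1 h2 =>
        rw [show h * (u * w) * h⁻¹ = (h * u * h⁻¹) * (h * w * h⁻¹) by group]; exact mul_mem h1 h2
      | inv u _ h1 => rw [show h * u⁻¹ * h⁻¹ = (h * u * h⁻¹)⁻¹ by group]; exact inv_mem h1⟩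
    have hsl : ∀ c : C, eps (T.φ c) = 1 → (c : M) ∈ K := by
      intro c hc
      obtain ⟨a, b, d, ha, hb, hd, hcd⟩ := sl_three _ hc
      have h3 : ∀ a : Fin 48, GL23Cent.mul a (GL23Cent.mul a a) = k1 →
          ((T.φ.symm a : C) : M) ∈ K := by
        intro a ha
        refine hodd _ ?_
        have h : T.φ.symm a * (T.φ.symm a * T.φ.symm a) = 1 := T.eq_one_iff.1 (by
          rw [T.φ_mul, T.φ_mul, Equiv.apply_symm_apply, ha])
        have hd : orderOf ((T.φ.symm a : C) : M) ∣ 3 := orderOf_dvd_of_pow_eq_one (by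
          rw [pow_succ, pow_two, mul_assoc]; exact congrArg Subtype.val h)
        exact Nat.Coprime.coprime_dvd_left hd (by norm_num)
      have : c = T.φ.symm a * T.φ.symm b * T.φ.symm d := T.φ.injective (by
        rw [T.φ_mul, T.φ_mul, Equiv.apply_symm_apply, Equiv.apply_symm_apply, Equiv.apply_symm_apply]
        exact hcd)
      rw [this]
      exact mul_mem (mul_mem (h3 a ha) (h3 b hb)) (h3 d hd)
    have htK : t ∈ K := hsl tC (by rw [hkz]; decide +kernel)
    have hxK : x ∈ K := hKn.conj_mem t htK g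
    have hCK : ∀ c : C, (c : M) ∈ K := by
      intro c
      rcases coset (T.φ c) (T.φ xC) ((sl_det _).2.2 hrefl) with h | h
      · exact hsl c h
      · have h' := mul_mem (hsl (c * xC) (by rw [T.φ_mul]; exact h)) (inv_mem hxK)
        simpa [xC] using h'
    by_contra hne
    have hidx : K.index ≠ 1 := fun h => hne (Subgroup.index_eq_one.1 h)
    obtain ⟨q, hq, hqd⟩ := Nat.exists_prime_and_dvd hidx
    haveI := Fact.mk hq
    by_cases hq2 : q = 2
    · subst hq2
      exact P.not_dvd_index ((hqd.trans (Subgroup.index_dvd_of_le (fun y hy => hCK ⟨y, hPC hy⟩))))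
    · obtain ⟨Pq⟩ : Nonempty (Sylow q M) := inferInstance
      have hle : (Pq : Subgroup M) ≤ K := fun y hy => hodd y (by
        obtain ⟨n, hn⟩ := Pq.2.exists_card_eq
        have h1 : orderOf y ∣ q ^ n := hn ▸ Subgroup.orderOf_dvd_natCard _ hy
        exact Nat.Coprime.coprime_dvd_left h1
          (((Nat.coprime_primes hq Nat.prime_two).2 hq2).pow_left n))
      exact Pq.not_dvd_index (hqd.trans (Subgroup.index_dvd_of_le hle))
  haveI hs := GL23Ident.isSimpleGroup T ht hO
  have hcard : Nat.card M = 7920 := (GL23Cent.card_of_simple t ht e).resolve_right fun h =>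
    h27 (h ▸ (by norm_num))
  exact ⟨Order7920.nonempty_mulEquiv_m11 hcard, hcard, hs, GL23Ident.invol_conj T ht hO⟩

/-- Large stabilisers in a group with the properties of `M11`. -/
theorem index_not_three (ht : orderOf t = 2)
    (e : Subgroup.centralizer ({t} : Set M) ≃* GL (Fin 2) (ZMod 3))
    (hcard : Nat.card M = 7920) (hconj : ∀ u : M, orderOf u = 2 → IsConj t u)
    (S : Subgroup M) (h16 : Nat.card ↥(S ⊓ Subgroup.centralizer ({t} : Set M)) = 16)
    (hidx : S.index ≤ 121) : ¬ 3 ∣ S.index := by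
  classical
  haveI : Fact (Nat.Prime 2) := ⟨Nat.prime_two⟩
  let T := Table.ofEquiv e
  set C := Subgroup.centralizer ({t} : Set M) with hC
  have hC48 : Nat.card C = 48 := T.card_eq
  intro h3
  have hmul : Nat.card S * S.index = 7920 := hcard ▸ S.card_mul_index
  obtain ⟨s, hs⟩ : 16 ∣ Nat.card S := h16 ▸ Subgroup.card_dvd_of_le inf_le_left
  -- no element of order 5 or 11 commutes with an involution
  have hno : ∀ (p : ℕ), p = 5 ∨ p = 11 → ∀ r u : M, orderOf r = p → orderOf u = 2 → r * u ≠ u * r := by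
    intro p hp r u hr hu hru
    obtain ⟨g, hg⟩ := isConj_iff.1 (hconj u hu)
    have hrC : g⁻¹ * r * g ∈ C := by
      refine mem_cent_iff.mpr ?_
      have : t = g⁻¹ * u * g := by rw [← hg]; group
      rw [this]
      calc g⁻¹ * r * g * (g⁻¹ * u * g) = g⁻¹ * (r * u) * g := by group
        _ = g⁻¹ * (u * r) * g := by rw [hru]
        _ = _ := by group
    have hd := hC48 ▸ Subgroup.orderOf_dvd_natCard _ hrC
    rw [show g⁻¹ * r * g = MulAut.conj g⁻¹ r by simp, show MulAut.conj g⁻¹ r =
      (MulAut.conj g⁻¹).toMonoidHom r from rfl,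
      orderOf_injective (MulAut.conj g⁻¹).toMonoidHom (MulAut.conj g⁻¹).injective, hr] at hd
    rcases hp with rfl | rfl <;> norm_num at hd
  -- normalisers of Sylow subgroups of order 5 or 11
  have hnorm : ∀ (p : ℕ) [Fact p.Prime], p = 5 ∨ p = 11 → ∀ R : Sylow p S,
      Nat.card (R : Subgroup S) = p →
      ∀ k : ℕ, 2 ^ k ∣ Nat.card (Subgroup.normalizer ((R : Subgroup S) : Set S)) → 2 ^ k ∣ p - 1 := by
    intro p _ hp R hR k hk
    set N := Subgroup.normalizer ((R : Subgroup S) : Set S)
    set f := (R : Subgroup S).normalizerMonoidHom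
    have hodd : Nat.Coprime (2 ^ k) (Nat.card f.ker) := by
      refine Nat.Coprime.pow_left _ ((Nat.Prime.coprime_iff_not_dvd Nat.prime_two).2 fun h2 => ?_)
      obtain ⟨u, hu⟩ := exists_prime_orderOf_dvd_card' (G := f.ker) 2 h2
      obtain ⟨r, hr⟩ := exists_prime_orderOf_dvd_card' (G := (R : Subgroup S)) p (by rw [hR])
      have hu' : ((u : N) : S) ∈ Subgroup.centralizer ((R : Subgroup S) : Set S) := by
        have h := (SetLike.ext_iff.1 (Subgroup.normalizerMonoidHom_ker _) _).1 u.2
        exact Subgroup.mem_subgroupOf.1 h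
      refine hno p hp (((r : S)) : M) (((u : N) : S) : M)
        (by rw [Subgroup.orderOf_coe, Subgroup.orderOf_coe, hr])
        (by rw [Subgroup.orderOf_coe, Subgroup.orderOf_coe, Subgroup.orderOf_coe, hu]) ?_
      exact congrArg Subtype.val (Subgroup.mem_centralizer_iff.1 hu' r r.2)
    have hprod : Nat.card f.ker * Nat.card f.range = Nat.card N := by
      rw [← Subgroup.index_ker]; exact f.ker.card_mul_index
    refine (hodd.dvd_of_dvd_mul_left (hprod ▸ hk)).trans ((Subgroup.card_subgroup_dvd_card _).trans ?_)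
    haveI : IsCyclic (R : Subgroup S) := isCyclic_of_prime_card hR
    rw [Nat.card_congr (IsCyclic.mulAutMulEquiv (R : Subgroup S)).toEquiv, hR,
      Nat.card_eq_fintype_card, ZMod.card_units_eq_totient, Nat.totient_prime (Fact.out)]
  have hs495 : s * S.index = 495 := by rw [hs] at hmul; linarith
  have hidx' : S.index = 3 ∨ S.index = 9 ∨ S.index = 15 ∨ S.index = 33 ∨ S.index = 45 ∨ S.index = 99 := by
    have key : ∀ n, n ≤ 121 → n ∣ 495 → 3 ∣ n →
        n = 3 ∨ n = 9 ∨ n = 15 ∨ n = 33 ∨ n = 45 ∨ n = 99 := by decide +kernel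
    exact key _ hidx ⟨s, by rw [mul_comm]; exact hs495.symm⟩ h3
  have sylow_prime : ∀ (p : ℕ) [Fact p.Prime] (m : ℕ), Nat.card S = p * m → ¬ p ∣ m →
      ∀ R : Sylow p S, Nat.card (R : Subgroup S) = p := by
    intro p hp m hm hndvd R
    rw [Sylow.card_eq_multiplicity, hm, Nat.factorization_mul hp.out.ne_zero (fun h => hndvd (by rw [h]; exact dvd_zero p)),
      Finsupp.add_apply, Nat.Prime.factorization_self hp.out, Nat.factorization_eq_zero_of_not_dvd hndvd,
      add_zero, pow_one]
  by_cases h11 : 11 ∣ s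
  · -- the Sylow 11-subgroups
    haveI : Fact (Nat.Prime 11) := ⟨by norm_num⟩
    obtain ⟨u, rfl⟩ := h11
    have hu : 11 * (u * S.index) = 11 * 45 := by linarith
    have hu45 : u ∣ 45 ∧ ¬ 11 ∣ u := by
      have h45 : u * S.index = 45 := by linarith
      refine ⟨⟨_, h45.symm⟩, fun h => ?_⟩
      have := h.trans ⟨_, h45.symm⟩
      norm_num at this
    obtain ⟨R⟩ : Nonempty (Sylow 11 S) := inferInstance
    have hR : Nat.card (R : Subgroup S) = 11 :=
      sylow_prime 11 (16 * u) (by rw [hs]; ring) (fun h => hu45.2 ((Nat.Coprime.dvd_of_dvd_mul_left (by norm_num) h))) R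
    set n := Nat.card (Sylow 11 S) with hn
    have hn1 : n % 11 = 1 := card_sylow_modEq_one 11 S
    set d := Nat.card (Subgroup.normalizer ((R : Subgroup S) : Set S))
    have hnd : d * n = 16 * (11 * u) := by
      rw [← hs, hn, Sylow.card_eq_index_normalizer R]; exact Subgroup.card_mul_index _
    have h4 : ¬ 4 ∣ d := fun h => by
      have := hnorm 11 (Or.inr rfl) R hR 2 h
      norm_num at this
    have h11d : 11 ∣ d := hR ▸ Subgroup.card_dvd_of_le Subgroup.le_normalizer
    obtain ⟨d', hd'⟩ := h11d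
    have hn' : d' * n = 16 * u := by rw [hd'] at hnd; linarith
    have hu15 : u ∣ 15 := by
      rcases hidx' with h | h | h | h | h | h <;> rw [h] at hs495 <;> first
        | omega
        | (have : u = 15 := by omega
           rw [this])
        | (have : u = 5 := by omega
           rw [this]; norm_num)
        | (have : u = 3 := by omega
           rw [this]; norm_num)
        | (have : u = 1 := by omega
           rw [this]; norm_num)
    have h240 : n ∣ 240 := by
      refine (Dvd.intro_left d' hn').trans ?_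
      exact (Nat.mul_dvd_mul_left 16 hu15).trans (by norm_num)
    have h8 : 8 ∣ n := by
      have h4' : ¬ 4 ∣ d' := fun h => h4 (hd' ▸ Dvd.dvd.mul_left h 11)
      have h16n : 2 ^ 4 ∣ d' * n := by rw [hn']; exact dvd_mul_right _ _
      obtain ⟨a, b, ha, hb, hab⟩ := (Nat.dvd_mul).1 h16n
      obtain ⟨i, hi, rfl⟩ := (Nat.dvd_prime_pow Nat.prime_two).1 (Dvd.intro b hab)
      have hi2 : i < 2 := by
        by_contra h
        exact h4' ((pow_dvd_pow 2 (not_lt.1 h)).trans ha)
      have h8b : 8 ∣ b := by interval_cases i <;> norm_num at hab <;> omega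
      exact h8b.trans hb
    exact eleven_arith ⟨n, Nat.lt_succ_of_le (Nat.le_of_dvd (by norm_num) h240)⟩ h240 h8 hn1
  · -- index 33 or 99: the Sylow 5-subgroups
    haveI : Fact (Nat.Prime 5) := ⟨by norm_num⟩
    have hsidx : (S.index = 33 ∧ s = 15) ∨ (S.index = 99 ∧ s = 5) := by
      rcases hidx' with h | h | h | h | h | h <;> rw [h] at hs495 <;> first
        | exact Or.inl ⟨h, by omega⟩
        | exact Or.inr ⟨h, by omega⟩
        | exact absurd (show 11 ∣ s by omega) h11
    obtain ⟨u, hu5, hu⟩ : ∃ u, (u = 3 ∨ u = 1) ∧ s = 5 * u := by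
      rcases hsidx with ⟨-, h⟩ | ⟨-, h⟩
      exacts [⟨3, Or.inl rfl, h⟩, ⟨1, Or.inr rfl, h⟩]
    obtain ⟨R⟩ : Nonempty (Sylow 5 S) := inferInstance
    have hR : Nat.card (R : Subgroup S) = 5 :=
      sylow_prime 5 (16 * u) (by rw [hs, hu]; ring) (by rcases hu5 with rfl | rfl <;> norm_num) R
    set n := Nat.card (Sylow 5 S) with hn
    have hn1 : n % 5 = 1 := card_sylow_modEq_one 5 S
    set N := Subgroup.normalizer ((R : Subgroup S) : Set S) with hN
    have hnd : Nat.card N * n = 16 * (5 * u) := by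
      rw [← hu, ← hs, hn, Sylow.card_eq_index_normalizer R]; exact Subgroup.card_mul_index _
    have h5N : 5 ∣ Nat.card N := hR ▸ Subgroup.card_dvd_of_le Subgroup.le_normalizer
    obtain ⟨d', hd'⟩ := h5N
    have hn' : d' * n = 16 * u := by rw [hd'] at hnd; linarith
    have h8 : ¬ 8 ∣ d' := fun h => by
      have := hnorm 5 (Or.inl rfl) R hR 3 (hN ▸ hd' ▸ Dvd.dvd.mul_left h 5)
      norm_num at this
    have hu3 : 0 < u ∧ u ≤ 3 := by rcases hu5 with rfl | rfl <;> norm_num
    have hle : d' ≤ 48 ∧ n ≤ 48 := by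
      have h48 : 16 * u ≤ 48 := by omega
      have hpos : 0 < d' * n := by rw [hn']; omega
      exact ⟨(Nat.le_of_dvd (by omega) (Dvd.intro n hn')).trans h48,
        (Nat.le_of_dvd (by omega) (Dvd.intro_left d' hn')).trans h48⟩
    have hd15 : d' ∣ 15 := five_arith ⟨u, Nat.lt_succ_of_le hu3.2⟩ ⟨d', Nat.lt_succ_of_le hle.1⟩ ⟨n, Nat.lt_succ_of_le hle.2⟩ hu5 hn' hn1 h8
    have hNC : N ≤ Subgroup.centralizer ((R : Subgroup S) : Set S) := by
      intro g hg
      haveI : IsCyclic (R : Subgroup S) := isCyclic_of_prime_card hR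
      set f := (R : Subgroup S).normalizerMonoidHom
      have hdr : Nat.card f.range ∣ Nat.gcd 75 4 := by
        refine Nat.dvd_gcd ?_ ((Subgroup.card_subgroup_dvd_card _).trans ?_)
        · refine (Dvd.intro_left (Nat.card f.ker) ?_).trans
            (show Nat.card N ∣ 75 from hd' ▸ (Nat.mul_dvd_mul_left 5 hd15))
          rw [← Subgroup.index_ker]; exact f.ker.card_mul_index
        · rw [Nat.card_congr (IsCyclic.mulAutMulEquiv (R : Subgroup S)).toEquiv, hR,
            Nat.card_eq_fintype_card, ZMod.card_units_eq_totient, Nat.totient_prime (Fact.out)]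
      have h1 : f.range = ⊥ := Subgroup.card_eq_one.1 (Nat.eq_one_of_dvd_one (by simpa using hdr))
      have hk : (⟨g, hg⟩ : N) ∈ f.ker := by
        rw [MonoidHom.mem_ker, ← Subgroup.mem_bot, ← h1]; exact ⟨_, rfl⟩
      rw [Subgroup.normalizerMonoidHom_ker, Subgroup.mem_subgroupOf] at hk
      exact hk
    -- a normal complement containing the Sylow 2-subgroups
    have hcompl := MonoidHom.ker_transferSylow_isComplement' R hNC
    set K := (MonoidHom.transferSylow R hNC).ker
    have hK : Nat.card K = 16 * u := by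
      have h := hcompl.card_mul
      rw [hR, hs, hu] at h
      linarith
    set P0 := (S ⊓ C).subgroupOf S with hP0
    have hP016 : Nat.card P0 = 16 := by
      rw [Nat.card_congr (Subgroup.subgroupOfEquivOfLe inf_le_left).toEquiv, h16]
    obtain ⟨P⟩ : Nonempty (Sylow 2 K) := inferInstance
    have hP : Nat.card (P : Subgroup K) = 16 := by
      rw [Sylow.card_eq_multiplicity, hK, show (16 : ℕ) = 2 ^ 4 by norm_num,
        Nat.factorization_mul (by norm_num) (by omega), Finsupp.add_apply,
        Nat.Prime.factorization_pow Nat.prime_two, Finsupp.single_eq_same,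
        Nat.factorization_eq_zero_of_not_dvd (by rcases hu5 with rfl | rfl <;> norm_num), add_zero]
    set P' := (P : Subgroup K).map K.subtype with hP'
    have hP'16 : Nat.card P' = 16 := by
      rw [hP', Subgroup.card_map_of_injective K.subtype_injective, hP]
    have hfac : 2 ^ (Nat.card S).factorization 2 = 16 := by
      rw [hs, hu, show (16 : ℕ) = 2 ^ 4 by norm_num, Nat.factorization_mul (by norm_num) (by omega),
        Finsupp.add_apply, Nat.Prime.factorization_pow Nat.prime_two, Finsupp.single_eq_same,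
        Nat.factorization_eq_zero_of_not_dvd (by rcases hu5 with rfl | rfl <;> norm_num), add_zero]
    obtain ⟨w, hw⟩ := MulAction.exists_smul_eq S (Sylow.ofCard P0 (hP016.trans hfac.symm))
      (Sylow.ofCard P' (hP'16.trans hfac.symm))
    -- the normaliser of the Sylow 2-subgroup centralises `t`
    have hN0 : Subgroup.normalizer (P0 : Set S) = P0 := by
      refine le_antisymm (fun g hg => ?_) Subgroup.le_normalizer
      have htS : t ∈ S := by
        obtain ⟨u, hu⟩ : ∃ u : ↥(S ⊓ C), orderOf u = 2 :=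
          exists_prime_orderOf_dvd_card' 2 (by rw [h16]; norm_num)
        by_contra htS
        have huC : (u : M) ∈ C := u.2.2
        set uC : C := ⟨u, huC⟩
        have hr : isRefl (T.φ uC) := by
          have h2 : (u : M) * u = 1 := by
            rw [← sq, ← hu, ← Subgroup.orderOf_coe, pow_orderOf_eq_one]
          refine ⟨?_, fun e' => ?_, fun e' => htS ?_⟩
          · rw [← T.φ_mul, T.eq_one_iff]; exact Subtype.ext h2
          · have : (u : M) = 1 := congrArg Subtype.val (T.eq_one_iff.1 e')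
            rw [← Subgroup.orderOf_coe, this, orderOf_one] at hu; omega
          · rw [← eq_t_of_phi T ht e']; exact u.2.1
        -- `u` is then central in no subgroup of order 16 avoiding `t`
        have hP0 : ∃ w : ↥(S ⊓ C), w ∈ Subgroup.center ↥(S ⊓ C) ∧ w ≠ 1 := by
          haveI : Nontrivial ↥(S ⊓ C) := Finite.one_lt_card_iff_nontrivial.1 (by rw [h16]; norm_num)
          obtain ⟨w, hw, hw1⟩ := (Subgroup.center ↥(S ⊓ C)).nontrivial_iff_exists_ne_one.mp
            (IsPGroup.center_nontrivial (IsPGroup.of_card (p := 2) (n := 4) (by rw [h16]; norm_num)))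
          exact ⟨w, hw, hw1⟩
        obtain ⟨w, hwc, hw1⟩ := hP0
        have hwd : 2 ∣ orderOf w := by
          obtain ⟨m, -, hm⟩ := (Nat.dvd_prime_pow Nat.prime_two).1
            (show orderOf w ∣ 2 ^ 4 from (orderOf_dvd_natCard w).trans (by rw [h16]; norm_num))
          rcases m with _ | m
          · exact absurd (orderOf_eq_one_iff.1 (by simpa using hm)) hw1
          · rw [hm, pow_succ]; exact dvd_mul_left 2 _
        set w2 := w ^ (orderOf w / 2)
        have how : orderOf w2 = 2 := orderOf_pow_orderOf_div (orderOf_pos w).ne' hwd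
        set wC : C := ⟨w2, w2.2.2⟩
        have hrw : isRefl (T.φ wC) := by
          have h2 : (w2 : M) * w2 = 1 := by
            rw [← sq, ← how, ← Subgroup.orderOf_coe, pow_orderOf_eq_one]
          refine ⟨?_, fun e' => ?_, fun e' => htS ?_⟩
          · rw [← T.φ_mul, T.eq_one_iff]; exact Subtype.ext h2
          · have : (w2 : M) = 1 := congrArg Subtype.val (T.eq_one_iff.1 e')
            rw [← Subgroup.orderOf_coe, this, orderOf_one] at how; omega
          · rw [← eq_t_of_phi T ht e']; exact w2.2.1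
        have h4 := refl_cent _ hrw
        have hle : 16 ≤ 4 := by
          rw [← h4, ← h16, ← Fintype.card_subtype, ← Nat.card_eq_fintype_card]
          refine Nat.card_le_card_of_injective (fun v => ⟨T.φ ⟨v, v.2.2⟩, ?_⟩) fun a b h => ?_
          · rw [← T.φ_mul, ← T.φ_mul]
            refine congrArg T.φ (Subtype.ext ?_)
            have h := congrArg (fun a : ↥(S ⊓ C) => (a : M))
              ((Subgroup.mem_center_iff.1 (pow_mem hwc (orderOf w / 2)) v).symm)
            exact h
          · exact Subtype.ext (congrArg (fun c : C => (c : M)) (T.φ.injective (congrArg Subtype.val h)))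
        omega
      have hgt : (g : M) * t * (g : M)⁻¹ ∈ C := by
        have h := (Subgroup.mem_normalizer_iff.1 hg ⟨t, htS⟩).1
          (show t ∈ S ⊓ C from ⟨htS, mem_cent_iff.mpr rfl⟩)
        exact h.2
      by_cases he : (g : M) * t * (g : M)⁻¹ = t
      · exact ⟨g.2, mem_cent_iff.mpr (mul_inv_eq_iff_eq_mul.mp he)⟩
      · exfalso
        set v := (g : M) * t * (g : M)⁻¹ with hv
        set vC : C := ⟨v, hgt⟩
        have hv2 : orderOf v = 2 := by rw [hv, Involution.orderOf_conj]; exact ht
        have hr : isRefl (T.φ vC) := by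
          have h2 : v * v = 1 := by rw [← sq, ← hv2, pow_orderOf_eq_one]
          refine ⟨?_, fun e' => ?_, fun e' => he (eq_t_of_phi T ht e')⟩
          · rw [← T.φ_mul, T.eq_one_iff]; exact Subtype.ext h2
          · have : v = 1 := congrArg Subtype.val (T.eq_one_iff.1 e')
            rw [this, orderOf_one] at hv2; omega
        have h4 := refl_cent _ hr
        have hle : 16 ≤ 4 := by
          rw [← h4, ← h16, ← Fintype.card_subtype, ← Nat.card_eq_fintype_card]
          refine Nat.card_le_card_of_injective (fun v => ⟨T.φ ⟨v, v.2.2⟩, ?_⟩) fun a b h => ?_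
          · rw [← T.φ_mul, ← T.φ_mul]
            refine congrArg T.φ (Subtype.ext ?_)
            -- `v` is central, being the conjugate of a central element
            have hv' : ∀ y ∈ S ⊓ C, (g : M) * t * (g : M)⁻¹ * y = y * ((g : M) * t * (g : M)⁻¹) := by
              intro y hy
              have hy' : (g⁻¹ * ⟨y, hy.1⟩ * g : S) ∈ P0 := by
                have := (Subgroup.mem_normalizer_iff.1 (inv_mem hg) ⟨y, hy.1⟩).1
                  (show y ∈ S ⊓ C from hy)
                rwa [inv_inv] at this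
              have hc := mem_cent_iff.mp (show ((g : M)⁻¹ * y * g) ∈ C from hy'.2)
              calc (g : M) * t * (g : M)⁻¹ * y = g * (t * ((g : M)⁻¹ * y * g)) * (g : M)⁻¹ := by group
                _ = g * (((g : M)⁻¹ * y * g) * t) * (g : M)⁻¹ := by rw [hc]
                _ = _ := by group
            exact hv' _ v.2
          · exact Subtype.ext (congrArg (fun c : C => (c : M)) (T.φ.injective (congrArg Subtype.val h)))
        omega
    -- Frattini
    have hfr : Subgroup.normalizer (P' : Set S) ⊔ K = ⊤ := Sylow.normalizer_sup_eq_top P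
    have hPP : (P0.map (MulAut.conj w).toMonoidHom : Subgroup S) = P' := congrArg Sylow.toSubgroup hw
    have hNP' : Subgroup.normalizer (P' : Set S) = P' := by
      rw [← hPP, ← Subgroup.map_equiv_normalizer_eq, hN0]
    rw [hNP', sup_eq_right.2 (show P' ≤ K from Subgroup.map_subtype_le _)] at hfr
    have h := congrArg (fun H : Subgroup S => Nat.card H) hfr
    simp only [hK, Subgroup.card_top] at h
    rw [hs, hu] at h
    omega

end Group

end Cfsg.Agent.SuzType.Eleven
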