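/-
The centraliser of a subgroup `T` of order 5 or 7 of `C(E)` in a group of Suzuki type (helper1).

* `cent_Cu` : `C(u) ∩ C(T)` lies in `C(E)`, so is `E × T`
* `range_top` : `C(u) ∩ N(T)` induces all automorphisms of `T`
* `card_Y` : `C(T)` has order `12 p` or `60 p`
-/
import Cfsg.Agent.Lib.SuzType.CountU
import Cfsg.Agent.Lib.DihedralEight.Klein
import Mathlib.GroupTheory.IndexNormal
import Mathlib.GroupTheory.FixedPointFree

set_option autoImplicit false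
open scoped commutatorElement

namespace Cfsg.Agent.SuzType

open Cfsg.Agent.Orth Cfsg.Agent.LargeExtraspecial Cfsg.Agent.LargeExtraspecial.Cfg
open Fr (K1 K2 SingPar)

set_option synthInstance.maxSize 1024

theorem g0_fix : sg (G0 + 0) = G0 ∧ sg 0 = 0 := by decide +kernel

variable {G : Type*} [Group G] [Finite G]

namespace Fu

variable (W : Fu G)

theorem el_inj {e e' l l' : G} (he : e ∈ W.E) (he' : e' ∈ W.E) (hl : l ∈ W.L) (hl' : l' ∈ W.L)
    (h : e * l = e' * l') : e = e' ∧ l = l' := by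
  have h1 : e'⁻¹ * e = l' * l⁻¹ := by
    calc e'⁻¹ * e = e'⁻¹ * (e * l) * l⁻¹ := by group
      _ = e'⁻¹ * (e' * l') * l⁻¹ := by rw [h]
      _ = _ := by group
  have h2 := W.L_inter_E (mul_mem hl' (inv_mem hl)) (h1 ▸ mul_mem (inv_mem he') he)
  have hll : l' = l := mul_inv_eq_one.mp h2
  subst hll
  exact ⟨mul_right_cancel h, rfl⟩

theorem outer_V {x : G} (hx : x ∈ W.S) (hx0 : x ∉ W.S0) (i j : ZMod 2) :
    x * W.F.pz i j * x⁻¹ = W.F.pz (i + j) j := by
  have hz : x * W.F.pz 1 0 * x⁻¹ = W.F.pz 1 0 := by rw [W.F.pz_z]; exact W.z_conj hx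
  have hv : x * W.F.pz 0 1 * x⁻¹ = W.F.pz 1 1 := by
    rw [W.F.pz_v]; exact (W.v_cases hx).resolve_left hx0
  rcases z2 i with rfl | rfl <;> rcases z2 j with rfl | rfl
  · simp [W.F.pz_zero]
  · simpa using hv
  · simpa using hz
  · rw [show W.F.pz 1 1 = W.F.pz 1 0 * W.F.pz 0 1 by rw [W.F.pz_mul]; simp,
      show x * (W.F.pz 1 0 * W.F.pz 0 1) * x⁻¹ =
        (x * W.F.pz 1 0 * x⁻¹) * (x * W.F.pz 0 1 * x⁻¹) by group, hz, hv, W.F.pz_mul,
      show (1 : ZMod 2) + 1 = 0 by decide, zero_add]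

/-- An element of `S` outside `S0` centralises one conjugate of `z` in `S`. -/
theorem only_z {x m : G} (hx : x ∈ W.S) (hx0 : x ∉ W.S0) (hm : W.Zt m)
    (hmz : m * W.F.z = W.F.z * m) (hxm : x * m = m * x) : m = W.F.z := by
  have hmS := W.zt_S hm hmz
  have hfix : x * m * x⁻¹ = m := mul_inv_eq_iff_eq_mul.mpr hxm
  by_cases hV : m ∈ W.V
  · obtain ⟨i, j, rfl⟩ := hV
    rw [W.outer_V hx hx0] at hfix
    obtain ⟨e, -⟩ := W.F.pz_inj hfix
    have hj : j = 0 := add_eq_left.mp e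
    subst hj
    rcases z2 i with rfl | rfl
    · exact absurd W.F.pz_zero (Zt.ne W hm)
    · exact W.F.pz_z
  · exfalso
    obtain ⟨-, α, β, hp, h0, hI⟩ := W.zty_par hmS hm.2 hV
    have h2 := W.outer_conj hx hx0 hI
    rw [hfix] at h2
    obtain ⟨e1, e2⟩ := Fr.Is.unique W.F h2 hI
    exact sg_zp α β hp h0 ⟨e1, e2⟩

/-- An element of order 4 of `L` centralised by an element of `S` outside `S0`. -/
theorem exists_four {x : G} (hx : x ∈ W.S) (hx0 : x ∉ W.S0) (hx2 : x * x ∈ W.E) :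
    ∃ l ∈ W.L, l * l = W.F.z ∧ x * l = l * x := by
  obtain ⟨t, ht⟩ := W.F.exists_Is G0 0
  have htS := W.mem_S0_iff.2 ⟨G0, 0, zp_gens.2.2.2.2, ht⟩
  obtain ⟨e, he, l, hl, hel⟩ := W.decomp_Y0 (W.S0_le_Y0 htS)
  have hle : l * e = e * l := W.Y0_E (W.L_le hl) he
  have hl2 : l * l = W.F.z := by
    have h := Fr.Is.sq W.F ht
    rw [qU_G0, bU_zero_right, add_zero, qU_zero, add_zero, W.F.pz_z] at h
    rw [← h, hel, show e * l * (e * l) = e * (l * e) * l by group, hle,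
      show e * (e * l) * l = e * e * (l * l) by group, W.Et_sq (W.E_le he), one_mul]
  have hlD : l ∈ W.F.D := by
    have h : l = e⁻¹ * t := by rw [hel, inv_mul_cancel_left]
    rw [h]
    exact mul_mem (inv_mem (W.mem_S0.1 (W.Et_le (W.E_le he))).2) (W.mem_S0.1 htS).2
  have hI := W.outer_conj hx hx0 ht
  rw [g0_fix.1, g0_fix.2] at hI
  obtain ⟨i, j, hij⟩ := Fr.Is.eq_mul_pz W.F ht hI
  have hxC := W.S_le_Cu hx
  have hxl : x * l * x⁻¹ = l * W.F.pz i j := by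
    refine (W.el_inj (W.E_normal hxC he) he (W.L_conj hxC hl)
      (mul_mem hl (W.V_le_L ⟨i, j, rfl⟩)) ?_).2
    rw [show x * e * x⁻¹ * (x * l * x⁻¹) = x * (e * l) * x⁻¹ by group, ← hel, hij, hel, mul_assoc]
  have hj : j = 0 := by
    have h1 : x * x * l * (x * x)⁻¹ = l := mul_inv_eq_iff_eq_mul.mpr (W.Y0_E (W.L_le hl) hx2).symm
    have h2 : x * x * l * (x * x)⁻¹ = l * (W.F.pz i j * W.F.pz (i + j) j) := by
      calc x * x * l * (x * x)⁻¹ = x * (x * l * x⁻¹) * x⁻¹ := by group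
        _ = x * (l * W.F.pz i j) * x⁻¹ := by rw [hxl]
        _ = (x * l * x⁻¹) * (x * W.F.pz i j * x⁻¹) := by group
        _ = _ := by rw [W.outer_V hx hx0, hxl, mul_assoc]
    rw [h1, W.F.pz_mul] at h2
    obtain ⟨e1, -⟩ := W.F.pz_eq_one (mul_eq_left.mp h2.symm)
    rwa [← add_assoc, ZModModule.add_self, zero_add] at e1
  subst hj
  rcases z2 i with rfl | rfl
  · refine ⟨l, hl, hl2, mul_inv_eq_iff_eq_mul.mp ?_⟩
    rwa [W.F.pz_zero, mul_one] at hxl
  · refine ⟨l * W.F.pz 0 1, mul_mem hl (W.V_le_L ⟨0, 1, rfl⟩), ?_, mul_inv_eq_iff_eq_mul.mp ?_⟩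
    · calc l * W.F.pz 0 1 * (l * W.F.pz 0 1)
          = l * (W.F.pz 0 1 * l) * W.F.pz 0 1 := by group
        _ = l * (l * W.F.pz 0 1) * W.F.pz 0 1 := by rw [W.F.pz_comm hlD]
        _ = l * l * (W.F.pz 0 1 * W.F.pz 0 1) := by group
        _ = W.F.z := by rw [W.F.pz_sq, mul_one, hl2]
    · calc x * (l * W.F.pz 0 1) * x⁻¹ = x * l * x⁻¹ * (x * W.F.pz 0 1 * x⁻¹) := by group
        _ = l * (W.F.pz 1 0 * W.F.pz 1 1) := by rw [hxl, W.outer_V hx hx0, zero_add, mul_assoc]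
        _ = l * W.F.pz 0 1 := by rw [W.F.pz_mul, show (1 : ZMod 2) + 1 = 0 by decide, zero_add]

/-- Subgroups of order 5 or 7 of `L`. -/
structure Sub (W : Fu G) where
  p : ℕ
  hp : p = 5 ∨ p = 7
  T : Subgroup G
  le : T ≤ W.L
  card : Nat.card T = p

variable {W}

namespace Sub

variable (D : W.Sub)

theorem prime : D.p.Prime := by rcases D.hp with h | h <;> rw [h] <;> norm_num

theorem p_odd : Odd D.p := by rcases D.hp with h | h <;> rw [h] <;> decide

theorem pow_eq_one {t : G} (ht : t ∈ D.T) : t ^ D.p = 1 := by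
  rw [← D.card]
  exact congrArg Subtype.val (pow_card_eq_one' (x := (⟨t, ht⟩ : D.T)))

theorem comm_T {s t : G} (hs : s ∈ D.T) (ht : t ∈ D.T) : s * t = t * s := by
  haveI := Fact.mk D.prime
  haveI : IsCyclic D.T := isCyclic_of_prime_card D.card
  letI := IsCyclic.commGroup (α := D.T)
  exact congrArg Subtype.val (mul_comm (⟨s, hs⟩ : D.T) ⟨t, ht⟩)

theorem cent_L {l : G} (hl : l ∈ W.L) (hc : ∀ t ∈ D.T, l * t = t * l) : l ∈ D.T := by
  have h := (W.l34_L).centralizer_eq D.hp (D.T.subgroupOf W.L) (by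
    rw [Nat.card_congr (Subgroup.subgroupOfEquivOfLe D.le).toEquiv, D.card])
  have hm : (⟨l, hl⟩ : W.L) ∈ D.T.subgroupOf W.L := by
    rw [← h, Subgroup.mem_centralizer_iff]
    intro t ht
    exact Subtype.ext (hc _ ht).symm
  exact hm

theorem cent_Y0 {y : G} (hy : y ∈ W.Y0) (hc : ∀ t ∈ D.T, y * t = t * y) :
    ∃ e ∈ W.E, ∃ l ∈ D.T, y = e * l := by
  obtain ⟨e, he, l, hl, rfl⟩ := W.decomp_Y0 hy
  refine ⟨e, he, l, D.cent_L hl fun t ht => mul_left_cancel (a := e) ?_, rfl⟩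
  rw [← mul_assoc, hc t ht, ← mul_assoc, W.Y0_E (W.L_le (D.le ht)) he, mul_assoc]

/-- The conjugate of `T` by an element of `C(u)`. -/
def conj {k : G} (hk : k ∈ W.Cu) : W.Sub where
  p := D.p
  hp := D.hp
  T := D.T.map (MulAut.conj k).toMonoidHom
  le := by rintro _ ⟨t, ht, rfl⟩; exact W.L_conj hk (D.le ht)
  card := by rw [Subgroup.card_map_of_injective (MulAut.conj k).injective, D.card]

theorem outer_cent {x : G} (hx : x ∈ W.S) (hx0 : x ∉ W.S0) (hx2 : x * x ∈ W.E)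
    (hc : ∀ t ∈ D.T, x * t = t * x) : False := by
  classical
  haveI : Fact (Nat.Prime 2) := ⟨Nat.prime_two⟩
  haveI := Fact.mk D.prime
  obtain ⟨l, hl, hl2, hxl⟩ := W.exists_four hx hx0 hx2
  set X := W.L ⊓ Subgroup.centralizer ({x} : Set G) with hX
  have memX : ∀ {y}, y ∈ X ↔ y ∈ W.L ∧ y * x = x * y := fun {y} => by
    rw [hX, Subgroup.mem_inf, Subgroup.mem_centralizer_singleton_iff]
  have hzX : W.F.z ∈ X := memX.2 ⟨W.zt_mem_L W.zt_z, (W.mem_S.1 hx).2.symm⟩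
  set zX : X := ⟨W.F.z, hzX⟩ with hzXd
  have ozX : orderOf zX = 2 := orderOf_eq_prime (Subtype.ext (by
    show W.F.z ^ 2 = 1
    rw [sq]; exact W.F.z_sq)) fun e => W.F.z_ne (congrArg Subtype.val e)
  obtain ⟨P, hP⟩ := (IsPGroup.of_card (n := 1) (G := Subgroup.zpowers zX)
    (by rw [Nat.card_zpowers, ozX, pow_one])).exists_le_sylow
  have hzP : zX ∈ (P : Subgroup X) := hP (Subgroup.mem_zpowers _)
  have huniq : ∀ y : X, y * y = 1 → y ≠ 1 → y * zX = zX * y → y = zX := fun y h2 h1 hcy =>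
    Subtype.ext (W.only_z hx hx0
      (W.L_inv (memX.1 y.2).1 (congrArg Subtype.val h2) fun e => h1 (Subtype.ext e))
      (congrArg Subtype.val hcy) (memX.1 y.2).2.symm)
  have hcentral : ∀ y ∈ (P : Subgroup X), y * zX = zX * y := by
    haveI : Nontrivial (P : Subgroup X) :=
      ⟨⟨⟨zX, hzP⟩, 1, fun e => W.F.z_ne (congrArg Subtype.val (congrArg Subtype.val e))⟩⟩
    obtain ⟨w, hw, hw1⟩ := (Subgroup.center (P : Subgroup X)).nontrivial_iff_exists_ne_one.mp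
      P.2.center_nontrivial
    obtain ⟨n, hn⟩ := P.2.exists_card_eq
    have hdvd : 2 ∣ orderOf (w : X) := by
      have h1 : orderOf (w : X) ∣ 2 ^ n := hn ▸ Subgroup.orderOf_dvd_natCard _ w.2
      obtain ⟨m, -, hm⟩ := (Nat.dvd_prime_pow Nat.prime_two).1 h1
      rcases m with _ | m
      · exact absurd (Subtype.ext (orderOf_eq_one_iff.1 (by simpa using hm))) hw1
      · rw [hm, pow_succ]; exact dvd_mul_left 2 _
    set w' : X := (w : X) ^ (orderOf (w : X) / 2) with hw'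
    have ho : orderOf w' = 2 := orderOf_pow_orderOf_div (orderOf_pos _).ne' hdvd
    have hwc : ∀ y ∈ (P : Subgroup X), Commute w' y := fun y hy => by
      have h := congrArg Subtype.val (Subgroup.mem_center_iff.mp hw ⟨y, hy⟩)
      exact (show Commute (w : X) y from h.symm).pow_left _
    have e := huniq w' (Involution.mul_self ho) (Involution.ne_one ho) (hwc zX hzP).eq
    intro y hy
    rw [← e]; exact ((hwc y hy).eq).symm
  obtain ⟨N, hN, hodd, hNc⟩ := Cfsg.Agent.S0215.result P zX ozX hzP (fun g hg => by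
    refine huniq _ ?_ ?_ (hcentral _ hg)
    · rw [show g * zX * g⁻¹ * (g * zX * g⁻¹) = g * (zX * zX) * g⁻¹ by group,
        Involution.mul_self ozX]
      group
    · exact fun e => Involution.ne_one ozX (conj_eq_one_iff.mp e))
  have hfpf : ∀ n ∈ N, zX * n = n * zX → n = 1 := by
    intro n hn hcn
    have hp : n ^ 512 = 1 := Subtype.ext (by
      show (n : G) ^ 512 = 1
      exact W.zt_cent W.zt_z (W.Y0_le (W.L_le (memX.1 n.2).1)) (congrArg Subtype.val hcn).symm)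
    have h1 : orderOf n ∣ Nat.card N := Subgroup.orderOf_dvd_natCard N hn
    have h4 : Nat.Coprime 512 (Nat.card N) := by
      rw [show 512 = 2 ^ 9 by norm_num]
      exact Nat.Coprime.pow_left 9 (Nat.coprime_two_left.2 hodd)
    exact orderOf_eq_one_iff.1
      (Nat.eq_one_of_dvd_coprimes h4 (orderOf_dvd_of_pow_eq_one hp) h1)
  haveI := hN
  set φ : MulAut N := MulAut.conjNormal zX with hφ
  have hff : MonoidHom.FixedPointFree φ := fun n hn => Subtype.ext (hfpf n n.2 (by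
    have h := congrArg Subtype.val hn
    rw [hφ, MulAut.conjNormal_apply] at h
    exact mul_inv_eq_iff_eq_mul.mp h))
  have hinv : Function.Involutive φ := fun n => Subtype.ext (by
    simp only [hφ, MulAut.conjNormal_apply]
    rw [show zX * (zX * (n : X) * zX⁻¹) * zX⁻¹ = zX * zX * (n : X) * (zX * zX)⁻¹ by group,
      Involution.mul_self ozX]
    group)
  -- `T` lies in `N`
  have hT : ∀ t ∈ D.T, ∃ tX : X, (tX : G) = t ∧ tX ∈ N := by
    intro t ht
    have htX : t ∈ X := memX.2 ⟨D.le ht, (hc t ht).symm⟩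
    refine ⟨⟨t, htX⟩, rfl, ?_⟩
    set g : X := ⟨t, htX⟩
    have hn := hNc g
    obtain ⟨r, hr⟩ : ∃ r : N, ((r : X) ^ 2) = (zX * g * zX⁻¹ * g⁻¹)⁻¹ := by
      obtain ⟨r, hr⟩ := (powCoprime (G := N) (Nat.coprime_two_right.2 hodd)).surjective
        ⟨_, inv_mem hn⟩
      exact ⟨r, congrArg Subtype.val hr⟩
    have hzr : zX * (r : X) * zX⁻¹ = (r : X)⁻¹ := by
      have h := congrFun (hff.coe_eq_inv_of_involutive hinv) r
      have h' := congrArg Subtype.val h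
      rw [hφ] at h'
      simpa [MulAut.conjNormal_apply] using h'
    have hcomm : zX * ((r : X)⁻¹ * g) = (r : X)⁻¹ * g * zX := by
      refine mul_inv_eq_iff_eq_mul.mp ?_
      rw [sq] at hr
      calc zX * ((r : X)⁻¹ * g) * zX⁻¹ = (zX * (r : X) * zX⁻¹)⁻¹ * (zX * g * zX⁻¹ * g⁻¹) * g := by group
        _ = (r : X) * ((r : X) * (r : X))⁻¹ * g := by rw [hzr, inv_inv, hr, inv_inv]
        _ = _ := by group
    have hp : ((r : X)⁻¹ * g) ^ 512 = 1 := Subtype.ext (by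
      show (((r : X)⁻¹ * g : X) : G) ^ 512 = 1
      exact W.zt_cent W.zt_z (W.Y0_le (W.L_le (memX.1 ((r : X)⁻¹ * g).2).1))
        (congrArg Subtype.val hcomm).symm)
    rw [← QuotientGroup.eq_one_iff]
    have h512 : (QuotientGroup.mk g : X ⧸ N) ^ 512 = 1 := by
      have e : (QuotientGroup.mk g : X ⧸ N) = QuotientGroup.mk ((r : X)⁻¹ * g) :=
        QuotientGroup.eq.2 (by
          rw [← mul_assoc]
          have h := hN.conj_mem _ (inv_mem r.2) g⁻¹
          rwa [inv_inv] at h)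
      rw [e, ← QuotientGroup.mk_pow, hp, QuotientGroup.mk_one]
    have hp2 : (QuotientGroup.mk g : X ⧸ N) ^ D.p = 1 := by
      rw [← QuotientGroup.mk_pow, show g ^ D.p = 1 from Subtype.ext (D.pow_eq_one ht),
        QuotientGroup.mk_one]
    refine orderOf_eq_one_iff.1 (Nat.eq_one_of_dvd_coprimes ?_ (orderOf_dvd_of_pow_eq_one h512)
      (orderOf_dvd_of_pow_eq_one hp2))
    rw [show 512 = 2 ^ 9 by norm_num]
    exact Nat.Coprime.pow_left 9 (Nat.coprime_two_left.2 D.p_odd)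
  have hNT : ∀ n ∈ N, (n : G) ∈ D.T := fun n hn => D.cent_L (memX.1 n.2).1 fun t ht => by
    obtain ⟨tX, rfl, htN⟩ := hT t ht
    exact congrArg (fun y : N => ((y : X) : G)) (hff.commute_all_of_involutive hinv ⟨n, hn⟩ ⟨tX, htN⟩).eq
  -- the element of order 4 normalises `T`
  have hlN : l ∈ Subgroup.normalizer (D.T : Set G) := by
    have hmap : ∀ y : G, y ∈ X → ∀ t ∈ D.T, y * t * y⁻¹ ∈ D.T := by
      intro y hy t ht
      obtain ⟨tX, rfl, htN⟩ := hT t ht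
      exact hNT _ (hN.conj_mem _ htN ⟨y, hy⟩)
    have hlX : l ∈ X := memX.2 ⟨hl, hxl.symm⟩
    rw [Subgroup.mem_normalizer_iff]
    refine fun t => ⟨hmap l hlX t, fun h => ?_⟩
    have h' := hmap l⁻¹ (inv_mem hlX) _ h
    rwa [show l⁻¹ * (l * t * l⁻¹) * l⁻¹⁻¹ = t by group] at h'
  have ho : orderOf l = 2 ^ (1 + 1) := orderOf_eq_prime_pow
    (by rw [pow_one, sq, hl2]; exact W.F.z_ne)
    (by rw [show 2 ^ (1 + 1) = 2 * 2 from rfl, pow_mul, sq l, hl2, sq]; exact W.F.z_sq)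
  obtain ⟨Q, hQ⟩ := (IsPGroup.of_card (n := 1) (G := D.T.subgroupOf W.L) (by
    rw [Nat.card_congr (Subgroup.subgroupOfEquivOfLe D.le).toEquiv, D.card, pow_one])).exists_le_sylow
  obtain ⟨hQc, hQn⟩ := (W.l34_L).card_normalizer D.hp Q
  have hQe : D.T.subgroupOf W.L = Q := Subgroup.eq_of_le_of_card_ge hQ (by
    rw [hQc, Nat.card_congr (Subgroup.subgroupOfEquivOfLe D.le).toEquiv, D.card])
  have hd : orderOf (⟨l, hl⟩ : W.L) ∣ if D.p = 5 then 10 else 21 := by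
    rw [← hQn]
    refine Subgroup.orderOf_dvd_natCard _ ?_
    rw [← hQe, ← Subgroup.subgroupOf_normalizer_eq D.le]
    exact hlN
  rw [← Subgroup.orderOf_coe, show ((⟨l, hl⟩ : W.L) : G) = l from rfl, ho] at hd
  rcases D.hp with h | h <;> rw [h] at hd <;> norm_num at hd

theorem cent_Cu {y : G} (hy : y ∈ W.Cu) (hc : ∀ t ∈ D.T, y * t = t * y) : y ∈ W.Y0 := by
  by_contra hY
  have hy2 : y * y ∈ W.Y0 := by
    have h := (W.cu_e1 hy).resolve_left hY
    refine W.mem_Y0.2 ⟨W.mem_Cu.1 (mul_mem hy hy), mul_inv_eq_iff_eq_mul.mp ?_⟩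
    calc y * y * W.e1 * (y * y)⁻¹ = y * (y * W.e1 * y⁻¹) * y⁻¹ := by group
      _ = y * (W.u * W.e1) * y⁻¹ := by rw [h]
      _ = y * W.u * y⁻¹ * (y * W.e1 * y⁻¹) := by group
      _ = W.e1 := by
        rw [h, mul_inv_eq_iff_eq_mul.mpr (W.mem_Cu.1 hy), ← mul_assoc, W.u_sq, one_mul]
  obtain ⟨e, he, l, hl, hel⟩ := D.cent_Y0 hy2 fun t ht =>
    (Commute.mul_left (hc t ht) (hc t ht)).eq
  obtain ⟨m, hm⟩ := D.p_odd
  set x := y ^ D.p with hx
  have hxY : x ∉ W.Y0 := by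
    intro h
    apply hY
    have e' : y = ((y * y) ^ m)⁻¹ * x := by
      rw [hx, hm, ← sq, ← pow_mul, pow_succ, inv_mul_cancel_left]
    rw [e']; exact mul_mem (inv_mem (pow_mem hy2 m)) h
  have hle : Commute e l := (W.Y0_E (W.L_le (D.le hl)) he).symm
  have hxE : x * x ∈ W.E := by
    rw [hx, ← (Commute.refl y).mul_pow, hel, hle.mul_pow, D.pow_eq_one hl, mul_one]
    exact pow_mem he _
  have h4 : IsPGroup 2 (Subgroup.zpowers x) := by
    rintro ⟨w, i, rfl⟩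
    refine ⟨2, Subtype.ext ?_⟩
    show ((x ^ i) ^ (2 ^ 2) : G) = 1
    rw [← zpow_natCast (x ^ i) (2 ^ 2), ← zpow_mul, mul_comm, zpow_mul, zpow_natCast,
      show 2 ^ 2 = 2 * 2 from rfl, pow_mul, sq x, sq, W.Et_sq (W.E_le hxE), one_zpow]
  obtain ⟨k, hk, hkx⟩ := W.into_S _ (Subgroup.zpowers_le.2 (pow_mem hy _)) h4
  have hxS := hkx x (Subgroup.mem_zpowers x)
  refine (D.conj hk).outer_cent hxS (fun h => hxY ?_) ?_ ?_
  · have h' := W.Y0_normal (inv_mem hk) (W.S0_le_Y0 h)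
    rwa [show k⁻¹ * (k * x * k⁻¹) * k⁻¹⁻¹ = x by group] at h'
  · rw [show k * x * k⁻¹ * (k * x * k⁻¹) = k * (x * x) * k⁻¹ by group]
    exact W.E_normal hk hxE
  · rintro _ ⟨t, ht, rfl⟩
    simp only [MulEquiv.coe_toMonoidHom, MulAut.conj_apply]
    calc k * x * k⁻¹ * (k * t * k⁻¹) = k * (x * t) * k⁻¹ := by group
      _ = k * (t * x) * k⁻¹ := by rw [hx, (Commute.pow_left (hc t ht) D.p).eq]
      _ = _ := by group

theorem mem_cent {y : G} : y ∈ Subgroup.centralizer (D.T : Set G) ↔ ∀ t ∈ D.T, y * t = t * y := by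
  rw [Subgroup.mem_centralizer_iff]
  exact ⟨fun h t ht => (h t ht).symm, fun h t ht => (h t ht).symm⟩

theorem cent_u {y : G} (hy : y ∈ Subgroup.centralizer (D.T : Set G)) (hu : y * W.u = W.u * y) :
    ∃ e ∈ W.E, ∃ l ∈ D.T, y = e * l :=
  D.cent_Y0 (D.cent_Cu (W.mem_Cu.2 hu) (D.mem_cent.1 hy)) (D.mem_cent.1 hy)

/-- An element moving `T` back by an element of `L`. -/
theorem exists_back {d : G} (hd : ∀ l ∈ W.L, d * l * d⁻¹ ∈ W.L) :
    ∃ l ∈ W.L, l * d ∈ Subgroup.normalizer (D.T : Set G) := by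
  haveI := Fact.mk D.prime
  set T' := D.T.map (MulAut.conj d).toMonoidHom with hT'
  have hle' : T' ≤ W.L := by rintro _ ⟨t, ht, rfl⟩; exact hd t (D.le ht)
  have hc' : Nat.card T' = D.p := by
    rw [hT', Subgroup.card_map_of_injective (MulAut.conj d).injective, D.card]
  obtain ⟨Q, hQ⟩ := (IsPGroup.of_card (n := 1) (G := D.T.subgroupOf W.L) (by
    rw [Nat.card_congr (Subgroup.subgroupOfEquivOfLe D.le).toEquiv, D.card, pow_one])).exists_le_sylow
  obtain ⟨Q', hQ'⟩ := (IsPGroup.of_card (n := 1) (G := T'.subgroupOf W.L) (by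
    rw [Nat.card_congr (Subgroup.subgroupOfEquivOfLe hle').toEquiv, hc', pow_one])).exists_le_sylow
  have hQc := fun R : Sylow D.p W.L => ((W.l34_L).card_normalizer D.hp R).1
  have hQe : D.T.subgroupOf W.L = Q := Subgroup.eq_of_le_of_card_ge hQ (by
    rw [hQc, Nat.card_congr (Subgroup.subgroupOfEquivOfLe D.le).toEquiv, D.card])
  obtain ⟨l, hl⟩ := MulAction.exists_smul_eq W.L Q' Q
  refine ⟨l, l.2, ?_⟩
  have hmap : ∀ t ∈ D.T, (l : G) * d * t * ((l : G) * d)⁻¹ ∈ D.T := by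
    intro t ht
    have h : l * ⟨d * t * d⁻¹, hd t (D.le ht)⟩ * l⁻¹ ∈ (Q : Subgroup W.L) := by
      rw [← hl]
      exact ⟨⟨d * t * d⁻¹, hd t (D.le ht)⟩, hQ' ⟨t, ht, rfl⟩, rfl⟩
    rw [← hQe] at h
    have h' : (l : G) * (d * t * d⁻¹) * (l : G)⁻¹ ∈ D.T := h
    rwa [show (l : G) * d * t * ((l : G) * d)⁻¹ = (l : G) * (d * t * d⁻¹) * (l : G)⁻¹ by group]
  have hle : D.T.map (MulAut.conj ((l : G) * d)).toMonoidHom ≤ D.T := by
    rintro _ ⟨t, ht, rfl⟩; exact hmap t ht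
  have heq := Subgroup.eq_of_le_of_card_ge hle (le_of_eq
    (Subgroup.card_map_of_injective (MulAut.conj ((l : G) * d)).injective).symm)
  rw [Subgroup.mem_normalizer_iff]
  refine fun t => ⟨hmap t, fun h => ?_⟩
  rw [← heq] at h
  obtain ⟨t', ht', e⟩ := h
  obtain rfl := (MulAut.conj ((l : G) * d)).injective e
  exact ht'

theorem isCyclic_aut : IsCyclic (MulAut D.T) ∧ Nat.card (MulAut D.T) = D.p - 1 := by
  haveI := Fact.mk D.prime
  haveI : IsCyclic D.T := isCyclic_of_prime_card D.card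
  haveI : IsCyclic (ZMod (Nat.card D.T))ˣ := by rw [D.card]; infer_instance
  refine ⟨isCyclic_of_injective (IsCyclic.mulAutMulEquiv D.T).toMonoidHom
    (IsCyclic.mulAutMulEquiv D.T).injective, ?_⟩
  rw [IsCyclic.card_mulAut, D.card, Nat.totient_prime D.prime]

/-- The automorphisms induced by `L`. -/
noncomputable def innL : Subgroup (MulAut D.T) :=
  (W.L.subgroupOf (Subgroup.normalizer (D.T : Set G))).map D.T.normalizerMonoidHom

theorem card_innL : D.innL.index = 2 := by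
  haveI := Fact.mk D.prime
  obtain ⟨Q, hQ⟩ := (IsPGroup.of_card (n := 1) (G := D.T.subgroupOf W.L) (by
    rw [Nat.card_congr (Subgroup.subgroupOfEquivOfLe D.le).toEquiv, D.card, pow_one])).exists_le_sylow
  obtain ⟨hQc, hQn⟩ := (W.l34_L).card_normalizer D.hp Q
  have hQe : D.T.subgroupOf W.L = Q := Subgroup.eq_of_le_of_card_ge hQ (by
    rw [hQc, Nat.card_congr (Subgroup.subgroupOfEquivOfLe D.le).toEquiv, D.card])
  set K := Subgroup.normalizer (D.T : Set G) with hK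
  rw [← hQe, ← Subgroup.subgroupOf_normalizer_eq D.le, ← hK] at hQn
  have hKL : Nat.card ↥(W.L.subgroupOf K) = if D.p = 5 then 10 else 21 := by
    rw [← hQn, ← Subgroup.inf_subgroupOf_right W.L K, ← Subgroup.inf_subgroupOf_right K W.L,
      Nat.card_congr (Subgroup.subgroupOfEquivOfLe (inf_le_right : W.L ⊓ K ≤ K)).toEquiv,
      Nat.card_congr (Subgroup.subgroupOfEquivOfLe (inf_le_right : K ⊓ W.L ≤ W.L)).toEquiv,
      inf_comm]
  set f := D.T.normalizerMonoidHom.comp (W.L.subgroupOf K).subtype with hf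
  have hrange : f.range = D.innL := by
    rw [hf, MonoidHom.range_comp, Subgroup.range_subtype]; rfl
  have hker : Nat.card f.ker = D.p := by
    rw [← D.card]
    refine Nat.card_congr
      { toFun := fun a => ⟨((a.1 : K) : G), D.cent_L a.1.2 fun t ht => ?_⟩
        invFun := fun t => ⟨⟨⟨t, Subgroup.le_normalizer t.2⟩, D.le t.2⟩, ?_⟩
        left_inv := fun a => rfl
        right_inv := fun t => rfl }
    · have h : (a.1 : K) ∈ D.T.normalizerMonoidHom.ker := a.2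
      rw [Subgroup.normalizerMonoidHom_ker, Subgroup.mem_subgroupOf] at h
      exact D.mem_cent.1 h t ht
    · show (⟨(t : G), Subgroup.le_normalizer t.2⟩ : K) ∈ D.T.normalizerMonoidHom.ker
      rw [Subgroup.normalizerMonoidHom_ker, Subgroup.mem_subgroupOf]
      exact D.mem_cent.2 fun s hs => D.comm_T t.2 hs
  have h1 := f.ker.card_mul_index
  rw [Subgroup.index_ker, hrange, hker, hKL] at h1
  have h2 := D.innL.card_mul_index
  rw [D.isCyclic_aut.2] at h2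
  rcases D.hp with h | h <;> rw [h] at h1 h2
  · rw [if_pos rfl] at h1
    rw [show Nat.card D.innL = 2 by omega] at h2
    omega
  · rw [if_neg (by norm_num)] at h1
    rw [show Nat.card D.innL = 3 by omega] at h2
    omega

theorem mem_Y0_norm {l : G} (hl : l ∈ W.L) (e : G) (he : e ∈ W.E) : l * e * l⁻¹ = e :=
  mul_inv_eq_iff_eq_mul.mpr (W.Y0_E (W.L_le hl) he)

/-- An element of `C(T)` rotating `E`. -/
theorem exists_r : ∃ r ∈ Subgroup.centralizer (D.T : Set G),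
    r * W.u * r⁻¹ = W.u * W.e1 ∧ r * W.e1 * r⁻¹ = W.u ∧ ∀ x ∈ W.E, r * x * r⁻¹ ∈ W.E := by
  obtain ⟨d, -, hdu, hde, hdE, -, -⟩ := W.exists_rot
  have hdi : ∀ x ∈ W.E, d⁻¹ * x * d ∈ W.E := by
    intro x hx
    have hle : W.E.map (MulAut.conj d).toMonoidHom ≤ W.E := by
      rintro _ ⟨w, hw, rfl⟩; exact hdE w hw
    rw [← Subgroup.eq_of_le_of_card_ge hle (le_of_eq
      (Subgroup.card_map_of_injective (MulAut.conj d).injective).symm)] at hx
    obtain ⟨w, hw, rfl⟩ := hx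
    simp only [MulEquiv.coe_toMonoidHom, MulAut.conj_apply]
    rw [show d⁻¹ * (d * w * d⁻¹) * d = w by group]
    exact hw
  have hdY : W.Y0.map (MulAut.conj d).toMonoidHom ≤ W.Y0 := by
    rintro _ ⟨y, hy, rfl⟩
    simp only [MulEquiv.coe_toMonoidHom, MulAut.conj_apply]
    have hc : ∀ e ∈ W.E, d * y * d⁻¹ * e = e * (d * y * d⁻¹) := fun e he => by
      calc d * y * d⁻¹ * e = d * (y * (d⁻¹ * e * d)) * d⁻¹ := by group
        _ = d * ((d⁻¹ * e * d) * y) * d⁻¹ := by rw [W.Y0_E hy (hdi e he)]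
        _ = _ := by group
    exact W.mem_Y0.2 ⟨hc _ W.u_mem_E, hc _ W.e1_mem⟩
  have hdL : ∀ l ∈ W.L, d * l * d⁻¹ ∈ W.L := by
    intro l hl
    have h : d * l * d⁻¹ ∈ W.L.map (MulAut.conj d).toMonoidHom := ⟨l, hl, rfl⟩
    rw [Fu.L, Subgroup.map_commutator] at h
    exact Subgroup.commutator_mono hdY hdY h
  obtain ⟨l, hl, hld⟩ := D.exists_back hdL
  set b := l * d with hb
  have hbu : b * W.u * b⁻¹ = W.e1 := by
    calc b * W.u * b⁻¹ = l * (d * W.u * d⁻¹) * l⁻¹ := by rw [hb]; group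
      _ = W.e1 := by rw [hdu, mem_Y0_norm hl _ W.e1_mem]
  have hbe : b * W.e1 * b⁻¹ = W.u * W.e1 := by
    calc b * W.e1 * b⁻¹ = l * (d * W.e1 * d⁻¹) * l⁻¹ := by rw [hb]; group
      _ = _ := by rw [hde, mem_Y0_norm hl _ (mul_mem W.u_mem_E W.e1_mem)]
  haveI := D.isCyclic_aut.1
  have hsq := Subgroup.mul_self_mem_of_index_two D.card_innL
    (D.T.normalizerMonoidHom ⟨b, hld⟩)
  rw [← map_mul] at hsq
  obtain ⟨a, ha, hab⟩ := hsq
  set r := (a : G)⁻¹ * (b * b) with hr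
  have haL : (a : G)⁻¹ ∈ W.L := inv_mem (show (a : G) ∈ W.L from ha)
  have hbbu : b * b * W.u * (b * b)⁻¹ = W.u * W.e1 := by
    calc b * b * W.u * (b * b)⁻¹ = b * (b * W.u * b⁻¹) * b⁻¹ := by group
      _ = _ := by rw [hbu, hbe]
  have hbbe : b * b * W.e1 * (b * b)⁻¹ = W.u := by
    calc b * b * W.e1 * (b * b)⁻¹ = b * (b * W.e1 * b⁻¹) * b⁻¹ := by group
      _ = b * (W.u * W.e1) * b⁻¹ := by rw [hbe]
      _ = b * W.u * b⁻¹ * (b * W.e1 * b⁻¹) := by group
      _ = W.u := by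
        rw [hbu, hbe, ← mul_assoc,
          show W.e1 * W.u = W.u * W.e1 from (W.Y0_E (W.E_le_Y0 W.e1_mem) W.u_mem_E), mul_assoc,
          W.Et_sq (W.E_le W.e1_mem), mul_one]
  have hru : r * W.u * r⁻¹ = W.u * W.e1 := by
    calc r * W.u * r⁻¹ = (a : G)⁻¹ * (b * b * W.u * (b * b)⁻¹) * (a : G)⁻¹⁻¹ := by rw [hr]; group
      _ = _ := by rw [hbbu, mem_Y0_norm haL _ (mul_mem W.u_mem_E W.e1_mem)]
  have hre : r * W.e1 * r⁻¹ = W.u := by
    calc r * W.e1 * r⁻¹ = (a : G)⁻¹ * (b * b * W.e1 * (b * b)⁻¹) * (a : G)⁻¹⁻¹ := by rw [hr]; group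
      _ = _ := by rw [hbbe, mem_Y0_norm haL _ W.u_mem_E]
  refine ⟨r, ?_, hru, hre, fun x hx => ?_⟩
  · have hk : a⁻¹ * (⟨b, hld⟩ * ⟨b, hld⟩) ∈ D.T.normalizerMonoidHom.ker := by
      rw [MonoidHom.mem_ker, map_mul, map_inv, hab, inv_mul_cancel]
    rw [Subgroup.normalizerMonoidHom_ker, Subgroup.mem_subgroupOf] at hk
    exact hk
  · rcases W.E_cases hx with rfl | rfl | rfl | rfl
    · rw [mul_one, mul_inv_cancel]; exact one_mem _
    · rw [hru]; exact mul_mem W.u_mem_E W.e1_mem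
    · rw [hre]; exact W.u_mem_E
    · rw [show r * (W.u * W.e1) * r⁻¹ = r * W.u * r⁻¹ * (r * W.e1 * r⁻¹) by group, hru, hre]
      exact mul_mem (mul_mem W.u_mem_E W.e1_mem) W.u_mem_E

/-- The normaliser of `T` induces all automorphisms. -/
theorem range_top : D.T.normalizerMonoidHom.range = ⊤ := by
  obtain ⟨s, hs, hsv⟩ := W.exists_s
  have hs0 := W.s_not_mem hsv
  obtain ⟨l, hl, hls⟩ := D.exists_back fun m hm => W.L_conj (W.S_le_Cu hs) hm
  have hnot : D.T.normalizerMonoidHom ⟨l * s, hls⟩ ∉ D.innL := by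
    rintro ⟨a, ha, hab⟩
    have hk : a⁻¹ * ⟨l * s, hls⟩ ∈ D.T.normalizerMonoidHom.ker := by
      rw [MonoidHom.mem_ker, map_mul, map_inv, hab, inv_mul_cancel]
    rw [Subgroup.normalizerMonoidHom_ker, Subgroup.mem_subgroupOf] at hk
    have haL : (a : G) ∈ W.L := ha
    have hY : (a : G)⁻¹ * (l * s) ∈ W.Y0 := D.cent_Cu
      (mul_mem (inv_mem (W.Y0_le (W.L_le haL))) (mul_mem (W.Y0_le (W.L_le hl)) (W.S_le_Cu hs)))
      (D.mem_cent.1 hk)
    have h2 : s = l⁻¹ * a * ((a : G)⁻¹ * (l * s)) := by group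
    have hsY : s ∈ W.Y0 := h2 ▸ mul_mem (mul_mem (inv_mem (W.L_le hl)) (W.L_le haL)) hY
    exact hs0 (W.S_Y0 hs hsY)
  rw [Subgroup.eq_top_iff']
  intro φ
  by_cases hφ : φ ∈ D.innL
  · obtain ⟨a, -, rfl⟩ := hφ
    exact ⟨a, rfl⟩
  · obtain ⟨a, -, ha⟩ : φ * D.T.normalizerMonoidHom ⟨l * s, hls⟩ ∈ D.innL :=
      (Subgroup.mul_mem_iff_of_index_two D.card_innL).2 (by simp [hφ, hnot])
    refine ⟨a * ⟨l * s, hls⟩⁻¹, ?_⟩
    rw [map_mul, map_inv, ha, mul_inv_cancel_right]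

theorem card_normalizer_T :
    Nat.card (Subgroup.normalizer (D.T : Set G)) =
      Nat.card (Subgroup.centralizer (D.T : Set G)) * (D.p - 1) := by
  rw [← ThreeOrders.card_normalizer_eq, D.range_top, Subgroup.card_top, D.isCyclic_aut.2]

/-- `E` is self-centralising in `C(T)` modulo `T`. -/
theorem cent_e {y e : G} (hy : y ∈ Subgroup.centralizer (D.T : Set G)) (he : e ∈ W.E) (h1 : e ≠ 1)
    (hye : y * e = e * y) : ∃ e' ∈ W.E, ∃ l ∈ D.T, y = e' * l := by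
  obtain ⟨r, hr, hru, hre, hrE⟩ := D.exists_r
  have step : ∀ a, (∀ y ∈ Subgroup.centralizer (D.T : Set G), y * a = a * y →
      ∃ e' ∈ W.E, ∃ l ∈ D.T, y = e' * l) → ∀ y ∈ Subgroup.centralizer (D.T : Set G),
      y * (r * a * r⁻¹) = r * a * r⁻¹ * y → ∃ e' ∈ W.E, ∃ l ∈ D.T, y = e' * l := by
    intro a ha y hy hya
    obtain ⟨e', he', l, hl, hel⟩ := ha (r⁻¹ * y * r) (mul_mem (mul_mem (inv_mem hr) hy) hr) (by
      calc r⁻¹ * y * r * a = r⁻¹ * (y * (r * a * r⁻¹)) * r := by group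
        _ = r⁻¹ * (r * a * r⁻¹ * y) * r := by rw [hya]
        _ = _ := by group)
    refine ⟨r * e' * r⁻¹, hrE e' he', l, hl, ?_⟩
    calc y = r * (r⁻¹ * y * r) * r⁻¹ := by group
      _ = r * e' * (l * r⁻¹) := by rw [hel]; group
      _ = r * e' * (r⁻¹ * l) := by rw [(D.mem_cent.1 (inv_mem hr) l hl)]
      _ = _ := by group
  have hu' : ∀ y ∈ Subgroup.centralizer (D.T : Set G), y * W.u = W.u * y →
      ∃ e' ∈ W.E, ∃ l ∈ D.T, y = e' * l := fun y hy h => D.cent_u hy h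
  have h3 := step _ hu'
  rw [hru] at h3
  have h4 := step _ h3
  rw [show r * (W.u * W.e1) * r⁻¹ = r * W.u * r⁻¹ * (r * W.e1 * r⁻¹) by group, hru, hre,
    ← W.Y0_E (W.E_le_Y0 W.u_mem_E) (mul_mem W.u_mem_E W.e1_mem), ← mul_assoc, W.u_sq,
    one_mul] at h4
  rcases W.E_cases he with rfl | rfl | rfl | rfl
  · exact absurd rfl h1
  · exact hu' y hy hye
  · exact h4 y hy hye
  · exact h3 y hy hye

theorem E_le_cent {e : G} (he : e ∈ W.E) : e ∈ Subgroup.centralizer (D.T : Set G) :=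
  D.mem_cent.2 fun t ht => (W.Y0_E (W.L_le (D.le ht)) he).symm

/-- `T` inside its centraliser. -/
abbrev TY : Subgroup ↥(Subgroup.centralizer (D.T : Set G)) :=
  D.T.subgroupOf (Subgroup.centralizer (D.T : Set G))

instance TY_normal : D.TY.Normal := ⟨fun x hx g => by
  show ((g * x * g⁻¹ : Subgroup.centralizer (D.T : Set G)) : G) ∈ D.T
  simp only [Subgroup.coe_mul, InvMemClass.coe_inv]
  rw [mul_inv_eq_iff_eq_mul.mpr (D.mem_cent.1 g.2 (x : G) hx)]
  exact hx⟩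

theorem T_le_cent : D.T ≤ Subgroup.centralizer (D.T : Set G) := fun _ ht =>
  D.mem_cent.2 fun _ hs => D.comm_T ht hs

theorem card_TY : Nat.card D.TY = D.p := by
  rw [Nat.card_congr (Subgroup.subgroupOfEquivOfLe D.T_le_cent).toEquiv, D.card]

/-- The image of `E` in `C(T) / T`. -/
noncomputable def Eb : Subgroup (↥(Subgroup.centralizer (D.T : Set G)) ⧸ D.TY) :=
  (W.E.subgroupOf (Subgroup.centralizer (D.T : Set G))).map (QuotientGroup.mk' D.TY)

theorem E_inter_T {x : G} (hx : x ∈ W.E) (hT : x ∈ D.T) : x = 1 := W.L_inter_E (D.le hT) hx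

theorem card_Eb : Nat.card D.Eb = 4 := by
  have hle : W.E ≤ Subgroup.centralizer (D.T : Set G) := fun _ he => D.E_le_cent he
  have hinj : Function.Injective ((QuotientGroup.mk' D.TY).comp
      (W.E.subgroupOf (Subgroup.centralizer (D.T : Set G))).subtype) := by
    intro a b h
    have h' := QuotientGroup.eq.1 h
    exact Subtype.ext (Subtype.ext (inv_mul_eq_one.mp
      (D.E_inter_T (mul_mem (inv_mem a.2) b.2) h')))
  rw [Eb, ← Subgroup.range_subtype (W.E.subgroupOf (Subgroup.centralizer (D.T : Set G))),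
    ← MonoidHom.range_comp, ← Nat.card_congr (MonoidHom.ofInjective hinj).toEquiv,
    Nat.card_congr (Subgroup.subgroupOfEquivOfLe hle).toEquiv, W.card_E]

theorem Eb_sq {x : ↥(Subgroup.centralizer (D.T : Set G)) ⧸ D.TY} (hx : x ∈ D.Eb) : x * x = 1 := by
  obtain ⟨a, ha, rfl⟩ := hx
  rw [← map_mul, show a * a = 1 from Subtype.ext (W.Et_sq (W.E_le ha)), map_one]

theorem cent_Eb {x : ↥(Subgroup.centralizer (D.T : Set G)) ⧸ D.TY} (hx : x ∈ D.Eb) (h1 : x ≠ 1)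
    {y : ↥(Subgroup.centralizer (D.T : Set G)) ⧸ D.TY} (hy : y * x = x * y) : y ∈ D.Eb := by
  obtain ⟨a, ha, rfl⟩ := hx
  obtain ⟨c, rfl⟩ := QuotientGroup.mk'_surjective D.TY y
  rw [← map_mul, ← map_mul] at hy
  have h := QuotientGroup.eq.1 hy
  have ht : ((c : G) * a)⁻¹ * (a * c) ∈ D.T := h
  set t := ((c : G) * a)⁻¹ * (a * c) with htd
  have hac : (a : G) * c = c * a * t := by rw [htd, mul_inv_cancel_left]
  have hat : Commute (a : G) t := D.mem_cent.1 a.2 t ht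
  have ha2 : (a : G) * a = 1 := W.Et_sq (W.E_le ha)
  have ht2 : t * t = 1 := by
    have e1 : (c : G)⁻¹ * a * c = a * t := by rw [mul_assoc, hac]; group
    have e2 : (a : G) * t * (a * t) = 1 := by
      rw [← e1, show (c : G)⁻¹ * a * c * ((c : G)⁻¹ * a * c) = (c : G)⁻¹ * (a * a) * c by group, ha2]
      group
    rwa [show (a : G) * t * (a * t) = a * (t * a) * t by group, ← hat.eq,
      show (a : G) * (a * t) * t = a * a * (t * t) by group, ha2, one_mul] at e2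
  have ht1 : t = 1 := orderOf_eq_one_iff.1 (Nat.eq_one_of_dvd_coprimes
    (Nat.coprime_two_left.2 D.p_odd) (orderOf_dvd_of_pow_eq_one (by rw [sq]; exact ht2))
    (orderOf_dvd_of_pow_eq_one (D.pow_eq_one ht)))
  rw [ht1, mul_one] at hac
  obtain ⟨e', he', l, hl, hel⟩ := D.cent_e c.2 ha
    (fun e => h1 (by rw [show a = 1 from Subtype.ext e, map_one])) hac.symm
  refine ⟨⟨e', D.E_le_cent he'⟩, he', ?_⟩
  refine QuotientGroup.eq.2 ?_
  show e'⁻¹ * (c : G) ∈ D.T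
  rw [hel, inv_mul_cancel_left]
  exact hl

/-- `C(T) / T` has no nontrivial normal subgroup of odd order. -/
theorem odd_normal_bot (N : Subgroup (↥(Subgroup.centralizer (D.T : Set G)) ⧸ D.TY)) [N.Normal]
    (hodd : Odd (Nat.card N)) : N = ⊥ := by
  set π := QuotientGroup.mk' D.TY
  set uY : ↥(Subgroup.centralizer (D.T : Set G)) := ⟨W.u, D.E_le_cent W.u_mem_E⟩
  set eY : ↥(Subgroup.centralizer (D.T : Set G)) := ⟨W.e1, D.E_le_cent W.e1_mem⟩
  have hu : π uY ∈ D.Eb := ⟨uY, W.u_mem_E, rfl⟩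
  have he : π eY ∈ D.Eb := ⟨eY, W.e1_mem, rfl⟩
  have key : ∀ a, a ∈ D.Eb → a ≠ 1 → ∀ x ∈ N, a * x = x * a → x = 1 := by
    intro a ha h1 x hx hax
    have hxE := D.cent_Eb ha h1 hax.symm
    refine orderOf_eq_one_iff.1 (Nat.eq_one_of_dvd_coprimes (Nat.coprime_two_left.2 hodd)
      (orderOf_dvd_of_pow_eq_one (by rw [sq]; exact D.Eb_sq hxE))
      (Subgroup.orderOf_dvd_natCard N hx))
  have hne : ∀ a : ↥(Subgroup.centralizer (D.T : Set G)), (a : G) ∈ W.E → a ≠ 1 → π a ≠ 1 :=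
    fun a ha h1 h => h1 (Subtype.ext (D.E_inter_T ha ((QuotientGroup.eq_one_iff (N := D.TY) a).1 h)))
  exact fpf_trivial N (π uY) (π eY) (D.Eb_sq hu) (D.Eb_sq he)
    (key _ hu (hne _ W.u_mem_E fun e => W.u_ne (congrArg Subtype.val e)))
    (key _ he (hne _ W.e1_mem fun e => W.e1_ne (congrArg Subtype.val e)))
    (key _ (mul_mem hu he) (by
      rw [← map_mul]
      exact hne _ (mul_mem W.u_mem_E W.e1_mem) fun e => W.e1_ne_u
        ((eq_inv_of_mul_eq_one_right (congrArg Subtype.val e)).trans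
          (inv_eq_of_mul_eq_one_right W.u_sq))))

theorem exists_sylow_Eb :
    ∃ P : Sylow 2 (↥(Subgroup.centralizer (D.T : Set G)) ⧸ D.TY), (P : Subgroup _) = D.Eb := by
  haveI : Fact (Nat.Prime 2) := ⟨Nat.prime_two⟩
  obtain ⟨P, hP⟩ := (IsPGroup.of_card (p := 2) (n := 2) (G := D.Eb) (by rw [D.card_Eb]; norm_num)).exists_le_sylow
  refine ⟨P, le_antisymm (fun y hy => ?_) hP⟩
  haveI : Nontrivial D.Eb := Finite.one_lt_card_iff_nontrivial.1 (by rw [D.card_Eb]; norm_num)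
  obtain ⟨a, ha1⟩ := exists_ne (1 : D.Eb)
  have ha1' : (a : ↥(Subgroup.centralizer (D.T : Set G)) ⧸ D.TY) ≠ 1 := fun e => ha1 (Subtype.ext e)
  haveI : Nontrivial (P : Subgroup (↥(Subgroup.centralizer (D.T : Set G)) ⧸ D.TY)) :=
    ⟨⟨⟨a, hP a.2⟩, 1, fun e => ha1' (congrArg Subtype.val e)⟩⟩
  obtain ⟨w, hw, hw1⟩ := (Subgroup.center (P : Subgroup
    (↥(Subgroup.centralizer (D.T : Set G)) ⧸ D.TY))).nontrivial_iff_exists_ne_one.mp P.2.center_nontrivial
  have hwc := fun z hz => congrArg Subtype.val (Subgroup.mem_center_iff.mp hw ⟨z, hz⟩)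
  have hwE := D.cent_Eb a.2 ha1' (hwc _ (hP a.2)).symm
  exact D.cent_Eb hwE (fun e => hw1 (Subtype.ext e)) (hwc y hy)

theorem inv_conj {y : ↥(Subgroup.centralizer (D.T : Set G)) ⧸ D.TY} (hy : orderOf y = 2) :
    ∃ e : ↥(Subgroup.centralizer (D.T : Set G)), (e : G) ∈ W.E ∧ (e : G) ≠ 1 ∧
      IsConj (QuotientGroup.mk' D.TY e) y := by
  haveI : Fact (Nat.Prime 2) := ⟨Nat.prime_two⟩
  obtain ⟨P, hP⟩ := D.exists_sylow_Eb
  obtain ⟨R, hR⟩ := (IsPGroup.of_card (p := 2) (n := 1) (G := Subgroup.zpowers y)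
    (by rw [Nat.card_zpowers, hy, pow_one])).exists_le_sylow
  obtain ⟨g, hg⟩ := MulAction.exists_smul_eq (↥(Subgroup.centralizer (D.T : Set G)) ⧸ D.TY) R P
  have h : g * y * g⁻¹ ∈ (P : Subgroup _) := by
    rw [← hg]; exact ⟨y, hR (Subgroup.mem_zpowers y), rfl⟩
  rw [hP] at h
  obtain ⟨e, he, hee⟩ := h
  refine ⟨e, he, fun e1 => ?_, (isConj_iff.2 ⟨g, hee.symm⟩ : IsConj y (QuotientGroup.mk' D.TY e)).symm⟩
  rw [show e = 1 from Subtype.ext e1, map_one] at hee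
  exact Involution.ne_one hy (conj_eq_one_iff.mp hee.symm)

theorem one_class {s t : ↥(Subgroup.centralizer (D.T : Set G)) ⧸ D.TY} (hs : orderOf s = 2)
    (ht : orderOf t = 2) : IsConj s t := by
  obtain ⟨r, hr, hru, hre, -⟩ := D.exists_r
  set π := QuotientGroup.mk' D.TY
  set uY : ↥(Subgroup.centralizer (D.T : Set G)) := ⟨W.u, D.E_le_cent W.u_mem_E⟩
  have key : ∀ y, orderOf y = 2 → IsConj (π uY) y := by
    intro y hy
    obtain ⟨e, he, he1, hey⟩ := D.inv_conj hy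
    refine IsConj.trans ?_ hey
    rcases W.E_cases he with h | h | h | h
    · exact absurd h he1
    · rw [show e = uY from Subtype.ext h]
    · refine (isConj_iff.2 ⟨π ⟨r, hr⟩, ?_⟩ : IsConj (π e) (π uY)).symm
      rw [← map_inv, ← map_mul, ← map_mul]
      congr 1
      exact Subtype.ext (by show r * (e : G) * r⁻¹ = W.u; rw [h, hre])
    · refine isConj_iff.2 ⟨π ⟨r, hr⟩, ?_⟩
      rw [← map_inv, ← map_mul, ← map_mul]
      congr 1
      exact Subtype.ext (by show r * W.u * r⁻¹ = (e : G); rw [h, hru])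
  exact (key s hs).symm.trans (key t ht)

/-- The order of `C(T)`. -/
theorem card_Y : Nat.card (Subgroup.centralizer (D.T : Set G)) = 12 * D.p ∨
    Nat.card (Subgroup.centralizer (D.T : Set G)) = 60 * D.p := by
  obtain ⟨P, hP⟩ := D.exists_sylow_Eb
  have hc : Nat.card (P : Subgroup (↥(Subgroup.centralizer (D.T : Set G)) ⧸ D.TY)) = 4 := by
    rw [hP, D.card_Eb]
  haveI : IsKleinFour (P : Subgroup (↥(Subgroup.centralizer (D.T : Set G)) ⧸ D.TY)) := by
    refine ⟨hc, (Nat.dvd_prime Nat.prime_two).1 ?_ |>.resolve_left ?_⟩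
    · refine Monoid.exponent_dvd_of_forall_pow_eq_one fun x => Subtype.ext ?_
      show (x : ↥(Subgroup.centralizer (D.T : Set G)) ⧸ D.TY) ^ 2 = 1
      rw [sq]; exact D.Eb_sq (hP ▸ x.2)
    · intro h
      have := Monoid.exp_eq_one_iff.1 h
      rw [Nat.card_eq_one_iff_unique.2 ⟨this, inferInstance⟩] at hc
      omega
  set uY : ↥(Subgroup.centralizer (D.T : Set G)) := ⟨W.u, D.E_le_cent W.u_mem_E⟩
  have hu : QuotientGroup.mk' D.TY uY ∈ D.Eb := ⟨uY, W.u_mem_E, rfl⟩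
  have hu1 : QuotientGroup.mk' D.TY uY ≠ 1 := fun h =>
    W.u_ne (D.E_inter_T W.u_mem_E ((QuotientGroup.eq_one_iff (N := D.TY) uY).1 h))
  have hC : Subgroup.centralizer ({QuotientGroup.mk' D.TY uY} : Set _) = (P : Subgroup _) := by
    rw [hP]
    ext y
    rw [Subgroup.mem_centralizer_singleton_iff]
    refine ⟨fun h => D.cent_Eb hu hu1 h, fun hy => ?_⟩
    obtain ⟨a, ha, rfl⟩ := hy
    rw [← map_mul, ← map_mul]
    congr 1
    exact Subtype.ext (W.Y0_E (W.E_le_Y0 ha) W.u_mem_E)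
  have h := DihedralEight.card_eq P (fun s t hs ht => D.one_class hs ht)
    (Involution.orderOf_of_sq (D.Eb_sq hu) hu1) (hP.symm ▸ hu) hC
  rw [Subgroup.card_eq_card_quotient_mul_card_subgroup D.TY, D.card_TY]
  rcases h with h | h <;> rw [h] <;> simp

end Sub

end Fu

end Cfsg.Agent.SuzType
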