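/-
The order of a group of Suzuki type (helper1).

* `inv_class` : an involution is a conjugate of `z` or of `u`
* `card_G` : the order is 448345497600, by the Thompson order formula
* `exists_fu` : a standard involution exists under the hypotheses of the statements
-/
import Cfsg.Agent.Lib.SuzType.CountZ
import Cfsg.Agent.S0213

set_option autoImplicit false
open scoped commutatorElement

namespace Cfsg.Agent.SuzType

open Cfsg.Agent.Orth Cfsg.Agent.LargeExtraspecial Cfsg.Agent.LargeExtraspecial.Cfg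

set_option synthInstance.maxSize 1024

/-- Counting pairs by their second member. -/
theorem card_pairs {α β : Type*} [Finite α] [Finite β] (P : α → Prop) (Q : β → α → Prop) (n : ℕ)
    (h : ∀ a, P a → Nat.card {b : β // Q b a} = n) :
    Nat.card {p : β × α // P p.2 ∧ Q p.1 p.2} = Nat.card {a : α // P a} * n := by
  classical
  haveI := Fintype.ofFinite α
  have e : {p : β × α // P p.2 ∧ Q p.1 p.2} ≃ Σ a : {a : α // P a}, {b : β // Q b a.1} :=
    { toFun := fun p => ⟨⟨p.1.2, p.2.1⟩, p.1.1, p.2.2⟩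
      invFun := fun q => ⟨(q.2.1, q.1.1), q.1.2, q.2.2⟩
      left_inv := fun p => rfl
      right_inv := fun q => rfl }
  rw [Nat.card_congr e, Nat.card_sigma, Finset.sum_congr rfl fun a _ => h a.1 a.2, Finset.sum_const,
    smul_eq_mul, Finset.card_univ, ← Nat.card_eq_fintype_card]

variable {G : Type*} [Group G] [Finite G]

namespace Fu

variable (W : Fu G)

theorem inv_class {t : G} (ht : orderOf t = 2) : IsConj W.F.z t ∨ IsConj W.u t := by
  obtain ⟨g, hg⟩ := W.F.T.exists_conj_comm ht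
  set y := g * t * g⁻¹ with hy
  have hyt : IsConj y t := isConj_iff.2 ⟨g⁻¹, by rw [hy]; group⟩
  have oy : orderOf y = 2 := by rw [hy, Involution.orderOf_conj]; exact ht
  have y2 := Involution.mul_self oy
  have y1 := Involution.ne_one oy
  by_cases hQ : y ∈ W.F.Q
  · exact Or.inl ((W.F.isConj_of_mem_Q hQ y2 y1).trans hyt)
  obtain ⟨k, hk, hP | hB⟩ := W.F.classify hg y2 hQ
  · refine Or.inl (((W.F.isConj_of_mem_P hP ?_ ?_).trans (isConj_iff.2 ⟨k⁻¹, by group⟩)).trans hyt)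
    · calc k * y * k⁻¹ * (k * y * k⁻¹) = k * (y * y) * k⁻¹ := by group
        _ = 1 := by rw [y2]; group
    · exact fun e => y1 (conj_eq_one_iff.mp e)
  · obtain ⟨m, -, hm⟩ := W.F.typB_conj W.hu hB
    exact Or.inr (((isConj_iff.2 ⟨m, hm⟩ : IsConj W.u (k * y * k⁻¹)).trans
      (isConj_iff.2 ⟨k⁻¹, by group⟩)).trans hyt)

theorem pair_comm {x y w : G} (hx : IsConj W.F.z x) (hy : IsConj W.u y) (hw : w * w = 1)
    (h : w ∈ Subgroup.zpowers (x * y)) : x * w = w * x ∧ y * w = w * y := by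
  have key : ∀ {a b : G}, IsConj a b → a * a = 1 → b * b = 1 := by
    rintro a b hab ha
    obtain ⟨g, rfl⟩ := isConj_iff.1 hab
    calc g * a * g⁻¹ * (g * a * g⁻¹) = g * (a * a) * g⁻¹ := by group
      _ = 1 := by rw [ha]; group
  exact comm_of_dihedral (key hx W.F.z_sq) (key hy W.u_sq) hw h

theorem pairs_z : Nat.card {p : G × G //
    IsConj W.F.z p.1 ∧ IsConj W.u p.2 ∧ W.F.z ∈ Subgroup.zpowers (p.1 * p.2)} = 1529280 := by
  rw [Nat.card_congr (Equiv.subtypeEquivRight (q := fun p : G × G =>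
      (p.2 * W.F.z = W.F.z * p.2 ∧ IsConj W.u p.2) ∧
        (IsConj W.F.z p.1 ∧ W.F.z ∈ Subgroup.zpowers (p.1 * p.2))) fun p => ⟨?_, ?_⟩),
    card_pairs (fun y => y * W.F.z = W.F.z * y ∧ IsConj W.u y)
      (fun x y => IsConj W.F.z x ∧ W.F.z ∈ Subgroup.zpowers (x * y)) 236, W.card_orbit_u]
  · rintro y ⟨hy, hc⟩
    obtain ⟨g, hg, rfl⟩ := W.orbit_u hy hc
    refine (Nat.card_congr (Equiv.subtypeEquiv (MulAut.conj g).toEquiv fun x => ?_)).symm.trans
      W.count_z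
    simp only [MulEquiv.toEquiv_eq_coe, MulEquiv.coe_toEquiv, MulAut.conj_apply]
    rw [show g * x * g⁻¹ * (g * W.u * g⁻¹) = g * (x * W.u) * g⁻¹ by group, W.z_conj_zpowers hg]
    exact and_congr_left fun _ => ⟨fun h => h.trans (isConj_iff.2 ⟨g, rfl⟩),
      fun h => h.trans (isConj_iff.2 ⟨g⁻¹, by group⟩)⟩
  · rintro ⟨hx, hy, hz⟩
    exact ⟨⟨(W.pair_comm hx hy W.F.z_sq hz).2, hy⟩, hx, hz⟩
  · rintro ⟨⟨-, hy⟩, hx, hz⟩
    exact ⟨hx, hy, hz⟩

theorem pairs_u : Nat.card {p : G × G //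
    IsConj W.F.z p.1 ∧ IsConj W.u p.2 ∧ W.u ∈ Subgroup.zpowers (p.1 * p.2)} = 60795 := by
  rw [Nat.card_congr (Equiv.subtypeEquiv (Equiv.prodComm G G) (q := fun p : G × G =>
      W.Zt p.2 ∧ (IsConj W.u p.1 ∧ W.u ∈ Subgroup.zpowers (p.2 * p.1))) fun p => ⟨?_, ?_⟩),
    card_pairs W.Zt (fun y x => IsConj W.u y ∧ W.u ∈ Subgroup.zpowers (x * y)) 193, W.card_zt]
  · intro x hx
    obtain ⟨k, hk, rfl⟩ := W.zt_conj hx
    have hku : k * W.u * k⁻¹ = W.u := mul_inv_eq_iff_eq_mul.mpr (W.mem_Cu.1 (W.Y0_le hk))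
    refine (Nat.card_congr (Equiv.subtypeEquiv (MulAut.conj k).toEquiv fun y => ?_)).symm.trans
      W.count_u
    simp only [MulEquiv.toEquiv_eq_coe, MulEquiv.coe_toEquiv, MulAut.conj_apply]
    rw [show k * W.F.z * k⁻¹ * (k * y * k⁻¹) = k * (W.F.z * y) * k⁻¹ by group]
    refine and_congr ⟨fun h => h.trans (isConj_iff.2 ⟨k, rfl⟩),
      fun h => h.trans (isConj_iff.2 ⟨k⁻¹, by group⟩)⟩ ?_
    constructor
    · rintro ⟨i, hi⟩
      refine ⟨i, ?_⟩
      simp only [conj_zpow] at hi ⊢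
      rw [hi, hku]
    · rintro ⟨i, hi⟩
      refine ⟨i, ?_⟩
      simp only [conj_zpow] at hi ⊢
      calc (W.F.z * y) ^ i = k⁻¹ * (k * (W.F.z * y) ^ i * k⁻¹) * k := by group
        _ = k⁻¹ * (k * W.u * k⁻¹) * k := by rw [hi, hku]
        _ = W.u := by group
  · rintro ⟨hx, hy, hu⟩
    exact ⟨⟨W.mem_Cu.2 (W.pair_comm hx hy W.u_sq hu).1, hx⟩, hy, hu⟩
  · rintro ⟨⟨-, hx⟩, hy, hu⟩
    exact ⟨hx, hy, hu⟩

include W in
/-- The order of the group. -/
theorem card_G : Nat.card G = 448345497600 := by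
  rw [Cfsg.Agent.S0213.result W.F.z W.u (Involution.orderOf_of_sq W.F.z_sq W.F.z_ne)
    (Involution.orderOf_of_sq W.u_sq W.u_ne) W.u_not_conj (fun t ht => W.inv_class ht),
    W.pairs_z, W.pairs_u, W.F.card_Cz,
    show Nat.card (Subgroup.centralizer ({W.u} : Set G)) = 161280 from W.card_Cu]

end Fu

/-- A standard involution, from the hypotheses of the statements. -/
theorem exists_fu (z : G) (hz : orderOf z = 2) (Q : Subgroup (Subgroup.centralizer ({z} : Set G)))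
    [Q.Normal] (hF : Cfsg.generalizedFittingSubgroup (Subgroup.centralizer ({z} : Set G)) = Q)
    (hQ : Cfsg.IsExtraspecial 2 Q) (hcard : Nat.card Q = 2 ^ 7)
    (e : (Subgroup.centralizer ({z} : Set G)) ⧸ Q ≃*
      Cfsg.Omega (ZMod 2) (Cfsg.quadFormMinus 2 (ZMod 2) 1 1))
    (hnwc : ∃ g : G, (∃ hq : g * z * g⁻¹ ∈ Subgroup.centralizer ({z} : Set G),
      (⟨g * z * g⁻¹, hq⟩ : Subgroup.centralizer ({z} : Set G)) ∈ Q) ∧ g * z * g⁻¹ ≠ z) :
    Nonempty (Fu G) := by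
  obtain ⟨T, -⟩ := exists_co z hz Q hF hQ hcard e hnwc
  obtain ⟨T', -, -, h, hQ', hc⟩ := T.exists_normalised
  obtain ⟨u, hu⟩ := (⟨T', h, hQ', hc⟩ : Fr G).exists_typB
  exact ⟨⟨_, u, hu⟩⟩

end Cfsg.Agent.SuzType
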