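/-
The Sylow 7-normaliser of a group of Suzuki type (helper1).

* `exists_sub` : `L` has subgroups of order 5 and 7
* `cent_seven` : their centraliser for 7 is `Z₇ × A₄`; `seven` : the same for every Sylow subgroup
-/
import Cfsg.Agent.Lib.SuzType.Local
import Cfsg.Agent.Lib.SuzType.Order
import Cfsg.Agent.Lib.PSL2.Groups
import Mathlib.GroupTheory.SchurZassenhaus

set_option autoImplicit false
open scoped commutatorElement

namespace Cfsg.Agent.SuzType

set_option synthInstance.maxSize 1024

/-- Conjugation carries centralisers along. -/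
theorem map_cent {H : Type*} [Group H] (T : Subgroup H) (g : H) :
    (Subgroup.centralizer (T : Set H)).map (MulAut.conj g).toMonoidHom =
      Subgroup.centralizer ((T.map (MulAut.conj g).toMonoidHom : Subgroup H) : Set H) := by
  ext x
  rw [Subgroup.mem_centralizer_iff]
  constructor
  · rintro ⟨y, hy, rfl⟩ _ ⟨t, ht, rfl⟩
    simp only [MulEquiv.coe_toMonoidHom, ← map_mul, Subgroup.mem_centralizer_iff.1 hy t ht]
  · intro h
    refine ⟨g⁻¹ * x * g, Subgroup.mem_centralizer_iff.2 fun t ht => ?_, by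
      simp only [MulEquiv.coe_toMonoidHom, MulAut.conj_apply]; group⟩
    have h' := h _ ⟨t, ht, rfl⟩
    simp only [MulEquiv.coe_toMonoidHom, MulAut.conj_apply] at h'
    calc t * (g⁻¹ * x * g) = g⁻¹ * (g * t * g⁻¹ * x) * g := by group
      _ = g⁻¹ * (x * (g * t * g⁻¹)) * g := by rw [h']
      _ = _ := by group

variable {G : Type*} [Group G] [Finite G]

namespace Fu

variable (W : Fu G)

theorem exists_sub {p : ℕ} (hp : p = 5 ∨ p = 7) : ∃ D : W.Sub, D.p = p := by
  haveI : Fact p.Prime := ⟨by rcases hp with rfl | rfl <;> norm_num⟩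
  obtain ⟨P⟩ := (inferInstance : Nonempty (Sylow p W.L))
  refine ⟨⟨p, hp, (P : Subgroup W.L).map W.L.subtype, Subgroup.map_subtype_le _, ?_⟩, rfl⟩
  rw [Subgroup.card_map_of_injective W.L.subtype_injective, ((W.l34_L).card_normalizer hp P).1]

include W in
theorem card_sylow_seven (B : Sylow 7 G) : Nat.card (B : Subgroup G) = 7 := by
  haveI : Fact (Nat.Prime 7) := ⟨by norm_num⟩
  exact (SmallOrders.card_sylow_subgroup (e := 1) (m := 64049356800)
    (by rw [W.card_G]; norm_num) (by norm_num) B).trans (pow_one 7)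

theorem card_Y_seven (D : W.Sub) (hp : D.p = 7) :
    Nat.card (Subgroup.centralizer (D.T : Set G)) = 84 ∧
      Nat.card (Subgroup.normalizer (D.T : Set G)) = 504 := by
  haveI : Fact (Nat.Prime 7) := ⟨by norm_num⟩
  obtain ⟨P, hP⟩ := (IsPGroup.of_card (p := 7) (n := 1) (G := D.T)
    (by rw [D.card, hp, pow_one])).exists_le_sylow
  have hPe : D.T = P := Subgroup.eq_of_le_of_card_ge hP (by
    rw [W.card_sylow_seven P, D.card, hp])
  have hn := D.card_normalizer_T
  rw [hp] at hn
  rcases D.card_Y with h | h <;> rw [hp] at h <;> rw [h] at hn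
  · exact ⟨h, hn⟩
  · exfalso
    rw [hPe] at hn
    have h1 := card_sylow_modEq_one 7 G
    have h2 := (Subgroup.normalizer ((P : Subgroup G) : Set G)).card_mul_index
    rw [show (Subgroup.normalizer ((P : Subgroup G) : Set G)).index = Nat.card (Sylow 7 G) from
      (Sylow.card_eq_index_normalizer P).symm, W.card_G, hn] at h2
    unfold Nat.ModEq at h1
    omega

theorem cent_seven (D : W.Sub) (hp : D.p = 7) :
    Nonempty (↥(Subgroup.centralizer (D.T : Set G)) ≃*
      Multiplicative (ZMod 7) × alternatingGroup (Fin 4)) := by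
  haveI : Fact (Nat.Prime 7) := ⟨by norm_num⟩
  haveI : Fact (Nat.Prime 3) := ⟨Nat.prime_three⟩
  have hY := (W.card_Y_seven D hp).1
  have hT : Nat.card D.TY = 7 := by rw [D.card_TY, hp]
  have hidx : D.TY.index = 12 := by
    have h := D.TY.card_mul_index
    rw [hT, hY] at h
    omega
  obtain ⟨K, hK⟩ := Subgroup.exists_right_complement'_of_coprime (N := D.TY)
    (by rw [hT, hidx]; norm_num)
  have hcent : ∀ t ∈ D.TY, ∀ k : ↥(Subgroup.centralizer (D.T : Set G)), t * k = k * t :=
    fun t ht k => Subtype.ext (D.mem_cent.1 k.2 _ ht).symm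
  let f : D.TY × K →* ↥(Subgroup.centralizer (D.T : Set G)) :=
    MonoidHom.mk' (fun q => (q.1 : ↥(Subgroup.centralizer (D.T : Set G))) * q.2) fun a b => by
      simp only [Prod.fst_mul, Prod.snd_mul, Subgroup.coe_mul]
      rw [mul_assoc, mul_assoc, ← mul_assoc (b.1 : ↥(Subgroup.centralizer (D.T : Set G))),
        hcent _ b.1.2, mul_assoc]
  have e1 : ↥(Subgroup.centralizer (D.T : Set G)) ≃* D.TY × K := (MulEquiv.ofBijective f hK).symm
  have eT : D.TY ≃* Multiplicative (ZMod 7) :=
    mulEquivOfPrimeCardEq hT (by rw [Nat.card_eq_fintype_card, Fintype.card_multiplicative, ZMod.card])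
  have hq : Nat.card (↥(Subgroup.centralizer (D.T : Set G)) ⧸ D.TY) = 12 := by
    rw [← Subgroup.index_eq_card, hidx]
  have h3 : Nat.card (Sylow 3 (↥(Subgroup.centralizer (D.T : Set G)) ⧸ D.TY)) ≠ 1 := by
    intro h
    obtain ⟨hsub, ⟨R⟩⟩ := Nat.card_eq_one_iff_unique.1 h
    haveI := hsub
    haveI : (R : Subgroup (↥(Subgroup.centralizer (D.T : Set G)) ⧸ D.TY)).Normal :=
      R.normal_of_subsingleton
    have hR : Nat.card (R : Subgroup (↥(Subgroup.centralizer (D.T : Set G)) ⧸ D.TY)) = 3 :=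
      (SmallOrders.card_sylow_subgroup (e := 1) (m := 4) (by rw [hq]; norm_num) (by norm_num) R).trans
        (pow_one 3)
    have hb := D.odd_normal_bot (R : Subgroup _) (by rw [hR]; decide)
    rw [hb, Subgroup.card_bot] at hR
    omega
  obtain ⟨eA⟩ := PSL2.mulEquiv_alternatingFour_of_sylow hq h3
  have eK : (↥(Subgroup.centralizer (D.T : Set G)) ⧸ D.TY) ≃* K :=
    Subgroup.IsComplement'.QuotientMulEquiv hK.symm
  exact ⟨e1.trans (eT.prodCongr (eK.symm.trans eA))⟩

include W in
/-- The Sylow 7-normaliser. -/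
theorem seven (B : Sylow 7 G) :
    Nonempty (↥(Subgroup.centralizer ((B : Subgroup G) : Set G)) ≃*
      Multiplicative (ZMod 7) × alternatingGroup (Fin 4)) ∧
      Nat.card ↥(Subgroup.normalizer ((B : Subgroup G) : Set G)) = 504 := by
  haveI : Fact (Nat.Prime 7) := ⟨by norm_num⟩
  obtain ⟨D, hp⟩ := W.exists_sub (p := 7) (Or.inr rfl)
  obtain ⟨P, hP⟩ := (IsPGroup.of_card (p := 7) (n := 1) (G := D.T)
    (by rw [D.card, hp, pow_one])).exists_le_sylow
  have hPe : D.T = P := Subgroup.eq_of_le_of_card_ge hP (by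
    rw [W.card_sylow_seven P, D.card, hp])
  obtain ⟨g, hg⟩ := MulAction.exists_smul_eq G P B
  have hB : D.T.map (MulAut.conj g).toMonoidHom = (B : Subgroup G) := by
    rw [hPe, ← hg]; rfl
  obtain ⟨e⟩ := W.cent_seven D hp
  constructor
  · rw [← hB, ← map_cent]
    exact ⟨((Subgroup.centralizer (D.T : Set G)).equivMapOfInjective _
      (MulAut.conj g).injective).symm.trans e⟩
  · rw [← hB, ← Subgroup.map_equiv_normalizer_eq, Subgroup.card_map_of_injective
      (MulAut.conj g).injective]
    exact (W.card_Y_seven D hp).2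

end Fu

end Cfsg.Agent.SuzType
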