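/-
The Sylow 5-subgroup of a group of Suzuki type and its normaliser (helper1).

* `facts` : `P` is elementary abelian of order 25, self-centralising, with an involution centralising
  the given subgroup `T` of order 5 and inverting a complement
* `card_NP` : the normaliser has order 600, with orbits of length three on the six lines
* `two_classes_five`, `quot_five` : the two classes and the quotient `Z₄ × S₃`
-/
import Cfsg.Agent.Lib.SuzType.Seven

set_option autoImplicit false
open scoped commutatorElement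

namespace Cfsg.Agent.SuzType

set_option synthInstance.maxSize 1024

/-- Conjugate of a subgroup. -/
abbrev cj {H : Type*} [Group H] (g : H) (T : Subgroup H) : Subgroup H :=
  T.map (MulAut.conj g).toMonoidHom

theorem cj_iff {H : Type*} [Group H] {g : H} {T : Subgroup H} :
    cj g T = T ↔ g ∈ Subgroup.normalizer (T : Set H) :=
  (Subgroup.mem_normalizer_iff_map_conj_eq).symm

theorem cj_mul {H : Type*} [Group H] (g h : H) (T : Subgroup H) : cj (g * h) T = cj g (cj h T) := by
  simp only [cj, Subgroup.map_map]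
  congr 1
  ext x
  simp [mul_assoc]

theorem cj_one {H : Type*} [Group H] (T : Subgroup H) : cj 1 T = T :=
  cj_iff.2 (one_mem _)

theorem mem_cj {H : Type*} [Group H] {g x : H} {T : Subgroup H} (hx : x ∈ T) :
    g * x * g⁻¹ ∈ cj g T := ⟨x, hx, rfl⟩

theorem card_cj {H : Type*} [Group H] (g : H) (T : Subgroup H) : Nat.card (cj g T) = Nat.card T :=
  Subgroup.card_map_of_injective (MulAut.conj g).injective

theorem perm_three : ∀ a b : Equiv.Perm (Fin 3), a * a = 1 → a ≠ 1 → b ^ 3 = 1 → a * b * a = b⁻¹ := by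
  decide +kernel

/-- Subgroups of order five of a subgroup. -/
def Line {H : Type*} [Group H] (P : Subgroup H) : Type _ :=
  {D : Subgroup H // D ≤ P ∧ Nat.card D = 5}

instance {H : Type*} [Group H] [Finite H] (P : Subgroup H) : Finite (Line P) :=
  inferInstanceAs (Finite {D : Subgroup H // D ≤ P ∧ Nat.card D = 5})

noncomputable instance {H : Type*} [Group H] (P : Subgroup H) :
    MulAction (Subgroup.normalizer (P : Set H)) (Line P) where
  smul n D := ⟨cj (n : H) D.1, by
    conv_rhs => rw [← cj_iff.2 n.2]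
    exact Subgroup.map_mono D.2.1, by rw [card_cj]; exact D.2.2⟩
  one_smul D := Subtype.ext (cj_one D.1)
  mul_smul m n D := Subtype.ext (cj_mul (m : H) n D.1)

theorem Line.smul_val {H : Type*} [Group H] {P : Subgroup H}
    (n : Subgroup.normalizer (P : Set H)) (D : Line P) : (n • D).1 = cj (n : H) D.1 := rfl

/-- A group of order 24 which is an extension of `S₃` by a central cyclic group of order 4, with an
involution outside, splits. -/
theorem split_twentyfour {R : Type*} [Group R] [Finite R] {X : Type*} [Finite X]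
    (hX : Nat.card X = 3) (f : R →* Equiv.Perm X) (hR : Nat.card R = 24) (hk : IsCyclic f.ker)
    (hk4 : Nat.card f.ker ≤ 4) (hcen : ∀ k ∈ f.ker, ∀ r : R, k * r = r * k)
    {t w : R} (ht : t * t = 1) (htf : f t ≠ 1) (hw : w ^ 3 = 1) (hw1 : w ≠ 1) :
    Nonempty (R ≃* Multiplicative (ZMod 4) × Equiv.Perm (Fin 3)) := by
  classical
  haveI := Fintype.ofFinite X
  let e := (Finite.equivFinOfCardEq hX).permCongrHom
  have h6 : Nat.card (Equiv.Perm X) = 6 := by rw [Nat.card_congr e.toEquiv, Nat.card_perm, Nat.card_fin]; rfl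
  have hr6 : Nat.card f.range ≤ 6 := h6 ▸ Subgroup.card_le_card_group _
  have hcard := f.ker.card_mul_index
  rw [Subgroup.index_ker, hR] at hcard
  have hk4' : Nat.card f.ker = 4 ∧ Nat.card f.range = 6 := by
    have := Nat.card_pos (α := f.ker)
    constructor <;> nlinarith
  have hfw : f w ≠ 1 := by
    intro h
    have h1 : orderOf w ∣ 4 := hk4'.1 ▸ Subgroup.orderOf_dvd_natCard f.ker (f.mem_ker.2 h)
    exact hw1 (orderOf_eq_one_iff.1 (Nat.eq_one_of_dvd_coprimes (by norm_num : Nat.Coprime 4 3) h1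
      (orderOf_dvd_of_pow_eq_one hw)))
  have hpow4 : ∀ k ∈ f.ker, k ^ 4 = 1 := fun k hk => by
    rw [← hk4'.1]
    exact congrArg Subtype.val (pow_card_eq_one' (x := (⟨k, hk⟩ : f.ker)))
  have hinv : t * w * t = w⁻¹ := by
    set k := w * (t * w * t) with hk'
    have hkk : k ∈ f.ker := by
      rw [MonoidHom.mem_ker, hk', map_mul, map_mul, map_mul]
      have h := perm_three (e (f t)) (e (f w)) (by rw [← map_mul, ← map_mul, ht, map_one, map_one])
        (fun h => htf (e.injective (h.trans (map_one _).symm)))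
        (by rw [← map_pow, ← map_pow, hw, map_one, map_one])
      rw [← map_mul, ← map_mul, ← map_inv] at h
      rw [e.injective h, mul_inv_cancel]
    have e1 : t * w * t = w⁻¹ * k := by rw [hk', inv_mul_cancel_left]
    have h3 : (t * w * t) ^ 3 = 1 := by
      calc (t * w * t) ^ 3 = t * w * (t * t) * w * (t * t) * w * t := by
            rw [pow_succ, pow_two]; group
        _ = t * w ^ 3 * t := by rw [ht, pow_succ, pow_two]; group
        _ = 1 := by rw [hw, mul_one, ht]
    rw [e1, ((show Commute k w⁻¹ from hcen k hkk w⁻¹).symm).mul_pow, inv_pow, hw, inv_one,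
      one_mul] at h3
    have hk1 : k = 1 := orderOf_eq_one_iff.1 (Nat.eq_one_of_dvd_coprimes
      (by norm_num : Nat.Coprime 4 3) (orderOf_dvd_of_pow_eq_one (hpow4 k hkk))
      (orderOf_dvd_of_pow_eq_one h3))
    rw [e1, hk1, mul_one]
  have ot : orderOf t = 2 := Involution.orderOf_of_sq ht fun h => htf (by rw [h, map_one])
  have htw2 : t * w * (t * w) = 1 := by
    rw [show t * w * (t * w) = (t * w * t) * w by group, hinv, inv_mul_cancel]
  have otw : orderOf (t * w) = 2 := Involution.orderOf_of_sq htw2 fun h => hfw (by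
    have h' : w = t := by
      rw [eq_inv_of_mul_eq_one_right h, inv_eq_of_mul_eq_one_right ht]
    have : w * w = 1 := by rw [h', ht]
    exfalso; apply hw1
    rw [← hw, pow_succ, sq, this, one_mul])
  have hprod : t * (t * w) = w := by rw [← mul_assoc, ht, one_mul]
  have o3 : orderOf w = 3 := orderOf_eq_prime hw hw1
  obtain ⟨φ, -, -⟩ := Involution.card_closure_pair ot otw (fun h => hw1 (by
    rw [← hprod, ← h, ht]))
  set S := Subgroup.closure ({t, t * w} : Set R) with hS
  have hS6 : Nat.card S = 6 := by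
    rw [← Nat.card_congr φ.toEquiv, DihedralGroup.nat_card, hprod, o3]
  have htS : t ∈ S := Subgroup.subset_closure (by simp)
  have hwS : w ∈ S := hprod ▸ mul_mem htS (Subgroup.subset_closure (by simp))
  set g := f.comp S.subtype with hg
  have hg6 : Nat.card g.range = 6 := by
    have h1 : orderOf (f t) ∣ Nat.card g.range :=
      Subgroup.orderOf_dvd_natCard _ ⟨⟨t, htS⟩, rfl⟩
    have h2 : orderOf (f w) ∣ Nat.card g.range :=
      Subgroup.orderOf_dvd_natCard _ ⟨⟨w, hwS⟩, rfl⟩
    haveI : Fact (Nat.Prime 3) := ⟨Nat.prime_three⟩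
    rw [Involution.orderOf_of_sq (by rw [← map_mul, ht, map_one]) htf] at h1
    rw [orderOf_eq_prime (by rw [← map_pow, hw, map_one]) hfw] at h2
    have h3 : Nat.card g.range ≤ 6 := h6 ▸ Subgroup.card_le_card_group _
    have h4 := Nat.Coprime.mul_dvd_of_dvd_of_dvd (by norm_num : Nat.Coprime 2 3) h1 h2
    have := Nat.le_of_dvd Nat.card_pos h4
    omega
  have hgi : Function.Injective g := by
    rw [← MonoidHom.ker_eq_bot_iff, ← Subgroup.card_eq_one]
    have h := g.ker.card_mul_index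
    rw [Subgroup.index_ker, hg6, hS6] at h
    omega
  let Φ : f.ker × S →* R := MonoidHom.mk' (fun q => (q.1 : R) * q.2) fun a b => by
    simp only [Prod.fst_mul, Prod.snd_mul, Subgroup.coe_mul]
    rw [mul_assoc, mul_assoc, ← mul_assoc (b.1 : R), hcen _ b.1.2, mul_assoc]
  have hΦ : Function.Injective Φ := by
    rw [injective_iff_map_eq_one]
    rintro ⟨k, s⟩ h
    have h' : (k : R) * s = 1 := h
    have hs : s = 1 := hgi (by
      rw [map_one]
      have := congrArg f h'
      rwa [map_mul, f.mem_ker.1 k.2, one_mul, map_one] at this)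
    subst hs
    rw [OneMemClass.coe_one, mul_one] at h'
    exact Prod.ext (Subtype.ext h') rfl
  have hb : Function.Bijective Φ := (Nat.bijective_iff_injective_and_card Φ).2
    ⟨hΦ, by rw [Nat.card_prod, hk4'.1, hS6, hR]⟩
  have eS : S ≃* Equiv.Perm (Fin 3) := ((MonoidHom.ofInjective hgi).trans
    ((MulEquiv.subgroupCongr (Subgroup.eq_top_of_card_eq _ (hg6.trans h6.symm))).trans
      Subgroup.topEquiv)).trans e
  have eK : f.ker ≃* Multiplicative (ZMod 4) := mulEquivOfCyclicCardEq (by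
    rw [hk4'.1, Nat.card_eq_fintype_card, Fintype.card_multiplicative, ZMod.card])
  exact ⟨(MulEquiv.ofBijective Φ hb).symm.trans (eK.prodCongr eS)⟩

variable {G : Type*} [Group G] [Finite G]

namespace Fu

variable {W : Fu G}

namespace Sub

variable (D : W.Sub)

theorem sylow_eq_top {p : ℕ} (hp : D.p = p) (h : p = 5) (P : Sylow 5 G) :
    Nat.card (P : Subgroup G) = 25 := by
  haveI : Fact (Nat.Prime 5) := ⟨by norm_num⟩
  exact (SmallOrders.card_sylow_subgroup (e := 2) (m := 17933819904)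
    (by rw [W.card_G]; norm_num) (by norm_num) P).trans (by norm_num)

/-- What is needed about `P`. -/
structure FiveData (D : W.Sub) (P : Subgroup G) : Prop where
  cT : Nat.card D.T = 5
  le : D.T ≤ P
  card : Nat.card P = 25
  comm : ∀ x ∈ P, ∀ y ∈ P, x * y = y * x
  cent : Subgroup.centralizer (P : Set G) = P
  exp : ∀ x ∈ P, x ^ 5 = 1
  stab : Nat.card ↥(Subgroup.normalizer (D.T : Set G) ⊓ Subgroup.normalizer (P : Set G)) = 200
  invol : ∃ t ∈ Subgroup.normalizer (P : Set G), t * t = 1 ∧ (∀ x ∈ D.T, t * x = x * t) ∧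
    ∃ a ∈ P, a ≠ 1 ∧ t * a * t⁻¹ = a⁻¹

theorem quot_facts (hq : Nat.card (↥(Subgroup.centralizer (D.T : Set G)) ⧸ D.TY) = 60)
    (R : Subgroup (↥(Subgroup.centralizer (D.T : Set G)) ⧸ D.TY)) (hR : Nat.card R = 5) :
    Subgroup.centralizer (R : Set (↥(Subgroup.centralizer (D.T : Set G)) ⧸ D.TY)) = R ∧
      Nat.card (Subgroup.normalizer (R : Set (↥(Subgroup.centralizer (D.T : Set G)) ⧸ D.TY))) = 10 := by
  haveI : Fact (Nat.Prime 5) := ⟨by norm_num⟩
  haveI : Fact (Nat.Prime 2) := ⟨Nat.prime_two⟩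
  obtain ⟨S, hS⟩ := (IsPGroup.of_card (p := 5) (n := 1) (G := R) (by rw [hR, pow_one])).exists_le_sylow
  have hS5 : Nat.card (S : Subgroup (↥(Subgroup.centralizer (D.T : Set G)) ⧸ D.TY)) = 5 :=
    (SmallOrders.card_sylow_subgroup (e := 1) (m := 12) (by rw [hq]; norm_num) (by norm_num) S).trans
      (pow_one 5)
  have hRS : R = (S : Subgroup _) := Subgroup.eq_of_le_of_card_ge hS (le_of_eq (hS5.trans hR.symm))
  have hd : Nat.card (Sylow 5 (↥(Subgroup.centralizer (D.T : Set G)) ⧸ D.TY)) ∣ 12 := by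
    have h := Sylow.card_dvd_index S
    rwa [SmallOrders.index_sylow (e := 1) (m := 12) (by rw [hq]; norm_num) (by norm_num) S] at h
  have hmod := card_sylow_modEq_one 5 (↥(Subgroup.centralizer (D.T : Set G)) ⧸ D.TY)
  unfold Nat.ModEq at hmod
  have hn := SmallOrders.card_normalizer_mul_card_sylow S
  rw [hq] at hn
  have hne1 : Nat.card (Sylow 5 (↥(Subgroup.centralizer (D.T : Set G)) ⧸ D.TY)) ≠ 1 := by
    intro h
    obtain ⟨hsub, -⟩ := Nat.card_eq_one_iff_unique.1 h
    haveI := hsub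
    haveI : (S : Subgroup (↥(Subgroup.centralizer (D.T : Set G)) ⧸ D.TY)).Normal :=
      S.normal_of_subsingleton
    have hb := D.odd_normal_bot (S : Subgroup _) (by rw [hS5]; decide)
    rw [hb, Subgroup.card_bot] at hS5
    omega
  have h6 : Nat.card (Sylow 5 (↥(Subgroup.centralizer (D.T : Set G)) ⧸ D.TY)) = 6 := by
    have := Nat.le_of_dvd (by norm_num) hd
    interval_cases h : Nat.card (Sylow 5 (↥(Subgroup.centralizer (D.T : Set G)) ⧸ D.TY)) <;> omega
  rw [h6] at hn
  have hN10 : Nat.card (Subgroup.normalizer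
      (R : Set (↥(Subgroup.centralizer (D.T : Set G)) ⧸ D.TY))) = 10 := by
    rw [hRS]; omega
  refine ⟨?_, hN10⟩
  set C := Subgroup.centralizer (R : Set (↥(Subgroup.centralizer (D.T : Set G)) ⧸ D.TY)) with hC
  haveI : IsCyclic R := isCyclic_of_prime_card hR
  have hRC : R ≤ C := fun x hx => Subgroup.mem_centralizer_iff.2 fun y hy => by
    letI := IsCyclic.commGroup (α := R)
    exact congrArg Subtype.val (mul_comm (⟨y, hy⟩ : R) ⟨x, hx⟩)
  have h1 : Nat.card C ∣ 10 := hN10 ▸ Subgroup.card_dvd_of_le (Subgroup.centralizer_le_normalizer _)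
  have h2 : ¬ 2 ∣ Nat.card C := by
    intro h
    obtain ⟨w, hw⟩ := exists_prime_orderOf_dvd_card' (G := C) 2 h
    obtain ⟨r, hr⟩ := exists_prime_orderOf_dvd_card' (G := R) 5 (by rw [hR])
    rw [← Subgroup.orderOf_coe] at hw hr
    obtain ⟨e, he, he1, hew⟩ := D.inv_conj hw
    obtain ⟨g, hg⟩ := isConj_iff.1 hew
    have heb : QuotientGroup.mk' D.TY e ∈ D.Eb := ⟨e, he, rfl⟩
    have heb1 : QuotientGroup.mk' D.TY e ≠ 1 := fun h0 =>
      he1 (D.E_inter_T he ((QuotientGroup.eq_one_iff (N := D.TY) e).1 h0))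
    have hc : (w : ↥(Subgroup.centralizer (D.T : Set G)) ⧸ D.TY) * r = r * w :=
      (Subgroup.mem_centralizer_iff.1 w.2 r r.2).symm
    have hr' : g⁻¹ * r * g ∈ D.Eb := D.cent_Eb heb heb1 (by
      calc g⁻¹ * r * g * QuotientGroup.mk' D.TY e
          = g⁻¹ * (r * (g * QuotientGroup.mk' D.TY e * g⁻¹)) * g := by group
        _ = g⁻¹ * ((g * QuotientGroup.mk' D.TY e * g⁻¹) * r) * g := by rw [hg, hc]
        _ = _ := by group)
    have h5 : orderOf (g⁻¹ * r * g⁻¹⁻¹) = 5 := by rw [Involution.orderOf_conj, hr]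
    rw [inv_inv] at h5
    have h2' : orderOf (g⁻¹ * r * g) ∣ 2 := orderOf_dvd_of_pow_eq_one (by rw [sq]; exact D.Eb_sq hr')
    rw [h5] at h2'
    norm_num at h2'
  have h5 : 5 ∣ Nat.card C := hR ▸ Subgroup.card_dvd_of_le hRC
  refine (Subgroup.eq_of_le_of_card_ge hRC ?_).symm
  rw [hR]
  have := Nat.le_of_dvd (by norm_num) h1
  interval_cases h : Nat.card C <;> omega

theorem five_data (hp : D.p = 5) : ∃ P : Sylow 5 G, D.FiveData (P : Subgroup G) := by
  haveI : Fact (Nat.Prime 5) := ⟨by norm_num⟩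
  obtain ⟨P, hP⟩ := (IsPGroup.of_card (p := 5) (n := 1) (G := D.T)
    (by rw [D.card, hp, pow_one])).exists_le_sylow
  refine ⟨P, ?_⟩
  have hP25 : Nat.card (P : Subgroup G) = 25 := D.sylow_eq_top hp rfl P
  have hcm : ∀ x ∈ (P : Subgroup G), ∀ y ∈ (P : Subgroup G), x * y = y * x := fun x hx y hy =>
    congrArg Subtype.val (IsPGroup.commutative_of_card_eq_prime_sq (p := 5)
      (show Nat.card (P : Subgroup G) = 5 ^ 2 by rw [hP25]; norm_num) ⟨x, hx⟩ ⟨y, hy⟩)
  set Y := Subgroup.centralizer (D.T : Set G) with hY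
  have hPY : (P : Subgroup G) ≤ Y := fun x hx => D.mem_cent.2 fun t ht => hcm x hx t (hP ht)
  have hY300 : Nat.card Y = 300 := by
    have h := Subgroup.card_dvd_of_le hPY
    rcases D.card_Y with e | e <;> rw [hp] at e <;> rw [e, hP25] at h
    · norm_num at h
    · exact e
  have hq : Nat.card (↥(Subgroup.centralizer (D.T : Set G)) ⧸ D.TY) = 60 := by
    have h := Subgroup.card_eq_card_quotient_mul_card_subgroup D.TY
    rw [D.card_TY, hp, hY300] at h
    omega
  set π := QuotientGroup.mk' D.TY with hπ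
  set PY := (P : Subgroup G).subgroupOf Y with hPYd
  set R := PY.map π with hRd
  have hkerle : D.TY ≤ PY := fun x hx => hP hx
  have hcomap : R.comap π = PY := by
    rw [hRd, Subgroup.comap_map_eq, QuotientGroup.ker_mk', sup_eq_left.2 hkerle]
  have hR : Nat.card R = 5 := by
    have h := Subgroup.card_mul_index PY
    have h' := Subgroup.card_mul_index R
    rw [Nat.card_congr (Subgroup.subgroupOfEquivOfLe hPY).toEquiv, hP25, hY300] at h
    rw [hq, ← Subgroup.index_comap_of_surjective R (QuotientGroup.mk'_surjective D.TY), hcomap] at h'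
    have hi : PY.index = 12 := by omega
    rw [hi] at h'
    omega
  obtain ⟨hCR, hNR⟩ := D.quot_facts hq R hR
  have hcent : Subgroup.centralizer ((P : Subgroup G) : Set G) = P := by
    refine le_antisymm (fun y hy => ?_) fun x hx => Subgroup.mem_centralizer_iff.2 fun z hz =>
      hcm z hz x hx
    have hyY : y ∈ Y := D.mem_cent.2 fun t ht => ((Subgroup.mem_centralizer_iff.1 hy) t (hP ht)).symm
    have hm : π ⟨y, hyY⟩ ∈ R := by
      rw [← hCR, Subgroup.mem_centralizer_iff]
      rintro _ ⟨x, hx, rfl⟩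
      rw [← map_mul, ← map_mul]
      congr 1
      exact Subtype.ext ((Subgroup.mem_centralizer_iff.1 hy) x hx)
    have : (⟨y, hyY⟩ : Y) ∈ PY := by rw [← hcomap]; exact hm
    exact this
  -- the involution
  obtain ⟨w, hw⟩ := exists_prime_orderOf_dvd_card'
    (G := Subgroup.normalizer (R : Set (↥(Subgroup.centralizer (D.T : Set G)) ⧸ D.TY))) 2
    (by rw [hNR]; norm_num)
  rw [← Subgroup.orderOf_coe] at hw
  obtain ⟨e, he, he1, hew⟩ := D.inv_conj hw
  obtain ⟨gq, hgq⟩ := isConj_iff.1 hew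
  obtain ⟨g, rfl⟩ := QuotientGroup.mk'_surjective D.TY gq
  rw [← map_inv, ← map_mul, ← map_mul] at hgq
  set t := g * e * g⁻¹ with htd
  have hwN : π t ∈ Subgroup.normalizer (R : Set (↥(Subgroup.centralizer (D.T : Set G)) ⧸ D.TY)) := by
    rw [hgq]; exact w.2
  have ht2 : (t : G) * t = 1 := by
    show ((t * t : Y) : G) = 1
    have he2 : e * e = 1 := Subtype.ext (W.Et_sq (W.E_le he))
    rw [show t * t = g * (e * e) * g⁻¹ by rw [htd]; group, he2]
    simp
  have hwne : π t ∉ R := by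
    intro h
    have h5 : orderOf (π t) ∣ 5 := hR ▸ Subgroup.orderOf_dvd_natCard _ h
    rw [hgq, hw] at h5
    norm_num at h5
  have htN : (t : G) ∈ Subgroup.normalizer ((P : Subgroup G) : Set G) := by
    have hmap : ∀ x ∈ (P : Subgroup G), (t : G) * x * (t : G)⁻¹ ∈ (P : Subgroup G) := by
      intro x hx
      have h : t * ⟨x, hPY hx⟩ * t⁻¹ ∈ PY := by
        rw [← hcomap, Subgroup.mem_comap, map_mul, map_mul, map_inv]
        exact (Subgroup.mem_normalizer_iff.1 hwN _).1 ⟨⟨x, hPY hx⟩, hx, rfl⟩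
      exact h
    have hti : (t : G)⁻¹ = t := inv_eq_of_mul_eq_one_right ht2
    refine Subgroup.mem_normalizer_iff.2 fun x => ⟨hmap x, fun h => ?_⟩
    have h' := hmap _ h
    rwa [show (t : G) * ((t : G) * x * (t : G)⁻¹) * (t : G)⁻¹ = x by
      rw [hti, show (t : G) * ((t : G) * x * t) * t = (t * t : G) * x * (t * t : G) by group, ht2]
      group] at h'
  -- it inverts `P` modulo `T`
  have hinv : ∀ x (hx : x ∈ (P : Subgroup G)),
      (t : G) * x * (t : G)⁻¹ * x ∈ D.T := by
    intro x hx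
    have hxR : π ⟨x, hPY hx⟩ ∈ R := ⟨_, hx, rfl⟩
    set rx := π ⟨x, hPY hx⟩
    set s := π t * rx * (π t)⁻¹ * rx with hs
    have hsR : s ∈ R := mul_mem ((Subgroup.mem_normalizer_iff.1 hwN _).1 hxR) hxR
    have hww : π t * π t = 1 := by
      rw [← map_mul, show t * t = 1 from Subtype.ext ht2, map_one]
    haveI : IsCyclic R := isCyclic_of_prime_card hR
    have hRc : ∀ a ∈ R, ∀ b ∈ R, a * b = b * a := fun a ha b hb => by
      letI := IsCyclic.commGroup (α := R)
      exact congrArg Subtype.val (mul_comm (⟨a, ha⟩ : R) ⟨b, hb⟩)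
    have hfix : π t * s * (π t)⁻¹ = s := by
      calc π t * s * (π t)⁻¹
          = π t * π t * rx * (π t * π t)⁻¹ * (π t * rx * (π t)⁻¹) := by rw [hs]; group
        _ = rx * (π t * rx * (π t)⁻¹) := by rw [hww]; group
        _ = s := hRc _ hxR _ ((Subgroup.mem_normalizer_iff.1 hwN _).1 hxR)
    have hs1 : s = 1 := by
      by_contra hs1
      have hle : R ≤ Subgroup.centralizer ({π t} : Set _) := by
        have : Subgroup.zpowers s = R := by
          refine Subgroup.eq_of_le_of_card_ge (Subgroup.zpowers_le.2 hsR) ?_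
          rw [Nat.card_zpowers, hR]
          exact le_of_eq (((Nat.dvd_prime (by norm_num)).1
            (hR ▸ Subgroup.orderOf_dvd_natCard _ hsR)).resolve_left
              fun h => hs1 (orderOf_eq_one_iff.1 h)).symm
        rw [← this, Subgroup.zpowers_le, Subgroup.mem_centralizer_singleton_iff]
        exact (mul_inv_eq_iff_eq_mul.mp hfix).symm
      apply hwne
      rw [← hCR, Subgroup.mem_centralizer_iff]
      exact fun a ha => Subgroup.mem_centralizer_singleton_iff.1 (hle ha)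
    have h := (QuotientGroup.eq_one_iff (N := D.TY) (t * ⟨x, hPY hx⟩ * t⁻¹ * ⟨x, hPY hx⟩)).1 (by
      rw [← hs1, hs]; rfl)
    exact h
  -- the inverted element
  obtain ⟨x, hx, hxT⟩ : ∃ x ∈ (P : Subgroup G), x ∉ D.T := by
    by_contra! h
    have := Subgroup.card_le_of_le (H := (P : Subgroup G)) (K := D.T) h
    rw [hP25, D.card, hp] at this
    omega
  have htx := (Subgroup.mem_normalizer_iff.1 htN x).1 hx
  set a := x * ((t : G) * x * (t : G)⁻¹)⁻¹ with had
  have haP : a ∈ (P : Subgroup G) := mul_mem hx (inv_mem htx)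
  have hta : (t : G) * a * (t : G)⁻¹ = a⁻¹ := by
    calc (t : G) * a * (t : G)⁻¹
        = (t : G) * x * (t : G)⁻¹ * ((t * t : G) * x * (t * t : G)⁻¹)⁻¹ := by rw [had]; group
      _ = a⁻¹ := by rw [ht2, had]; group
  have hPpow : ∀ y ∈ (P : Subgroup G), y ^ 25 = 1 := fun y hy => by
    rw [← hP25]
    exact congrArg Subtype.val (pow_card_eq_one' (x := (⟨y, hy⟩ : (P : Subgroup G))))
  have haT : a ∉ D.T := by
    intro h
    have hxx : x * x ∈ D.T := by
      have e : x * x = a * ((t : G) * x * (t : G)⁻¹ * x) := by rw [had]; group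
      rw [e]; exact mul_mem h (hinv x hx)
    refine hxT ?_
    have e : x = ((x * x) ^ 12)⁻¹ := by
      rw [eq_inv_iff_mul_eq_one, ← sq, ← pow_mul, ← pow_succ', hPpow x hx]
    rw [e]; exact inv_mem (pow_mem hxx 12)
  have hTc : ∀ y ∈ D.T, (t : G) * y = y * t := fun y hy => D.mem_cent.1 t.2 y hy
  have h5T : a ^ 5 ∈ D.T := by
    have h : π (⟨a, hPY haP⟩ ^ 5) = 1 := by
      rw [map_pow, ← hR]
      exact congrArg Subtype.val
        (pow_card_eq_one' (x := (⟨π ⟨a, hPY haP⟩, ⟨⟨a, hPY haP⟩, haP, rfl⟩⟩ : R)))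
    exact (QuotientGroup.eq_one_iff (N := D.TY) _).1 h
  have ha5 : a ^ 5 = 1 := by
    have h1 : a⁻¹ ^ 5 = a ^ 5 := by
      rw [← hta, conj_pow, hTc _ h5T, mul_inv_cancel_right]
    rw [inv_pow] at h1
    have h10 : (a ^ 5) ^ 2 = 1 := by rw [sq]; conv_lhs => arg 1; rw [← h1]
                                     exact inv_mul_cancel _
    exact orderOf_eq_one_iff.1 (Nat.eq_one_of_dvd_coprimes (by norm_num : Nat.Coprime 2 25)
      (orderOf_dvd_of_pow_eq_one h10) (orderOf_dvd_of_pow_eq_one (hPpow _ (pow_mem haP 5))))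
  have hexp : ∀ y ∈ (P : Subgroup G), y ^ 5 = 1 := by
    let M : Subgroup G :=
      { carrier := {y | y ∈ (P : Subgroup G) ∧ y ^ 5 = 1}
        one_mem' := ⟨one_mem _, one_pow _⟩
        mul_mem' := fun {y z} hy hz => ⟨mul_mem hy.1 hz.1, by
          rw [(show Commute y z from hcm _ hy.1 _ hz.1).mul_pow, hy.2, hz.2, one_mul]⟩
        inv_mem' := fun {y} hy => ⟨inv_mem hy.1, by rw [inv_pow, hy.2, inv_one]⟩ }
    have hMP : M ≤ P := fun y hy => hy.1
    have hTM : D.T ≤ M := fun y hy => ⟨hP hy, by have := D.pow_eq_one hy; rwa [hp] at this⟩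
    have haM : a ∈ M := ⟨haP, ha5⟩
    have hd : Nat.card M ∣ 5 ^ 2 := by
      have h := Subgroup.card_dvd_of_le hMP
      rwa [hP25] at h
    obtain ⟨k, hk, hkM⟩ := (Nat.dvd_prime_pow (by norm_num)).1 hd
    have hM : M = P := by
      refine Subgroup.eq_of_le_of_card_ge hMP ?_
      rw [hP25, hkM]
      by_contra hlt
      have hk1 : k ≤ 1 := by
        by_contra h2
        exact hlt (le_trans (by norm_num) (Nat.pow_le_pow_right (by norm_num) (show 2 ≤ k by omega)))
      have := Subgroup.eq_of_le_of_card_ge hTM (by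
        rw [hkM, D.card, hp]
        exact le_trans (Nat.pow_le_pow_right (by norm_num) hk1) (by norm_num))
      exact haT (this ▸ haM)
    intro y hy
    rw [← hM] at hy
    exact hy.2
  refine ⟨D.card.trans hp, hP, hP25, hcm, hcent, hexp, ?_,
    t, htN, ht2, hTc, a, haP, fun h => haT (h ▸ one_mem _), hta⟩
  -- the stabiliser of `T`
  set NT := Subgroup.normalizer (D.T : Set G) with hNT
  set NP := Subgroup.normalizer ((P : Subgroup G) : Set G) with hNP
  let φ : ↥(NT ⊓ NP) →* MulAut D.T :=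
    D.T.normalizerMonoidHom.comp (Subgroup.inclusion inf_le_left)
  have hsurj : Function.Surjective φ := by
    intro ψ
    obtain ⟨n, rfl⟩ : ψ ∈ D.T.normalizerMonoidHom.range := by rw [D.range_top]; exact Subgroup.mem_top _
    have hle : cj (n : G) (P : Subgroup G) ≤ Y := by
      rintro _ ⟨x, hx, rfl⟩
      refine D.mem_cent.2 fun s hs => ?_
      simp only [MulEquiv.coe_toMonoidHom, MulAut.conj_apply]
      have hs' : (n : G)⁻¹ * s * n ∈ D.T := (Subgroup.mem_normalizer_iff''.1 n.2 s).1 hs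
      calc (n : G) * x * (n : G)⁻¹ * s = n * (x * ((n : G)⁻¹ * s * n)) * (n : G)⁻¹ := by group
        _ = n * (((n : G)⁻¹ * s * n) * x) * (n : G)⁻¹ := by rw [hcm x hx _ (hP hs')]
        _ = _ := by group
    have hle' : ((((n : G) • P) : Sylow 5 G) : Subgroup G) ≤ Y := hle
    obtain ⟨c, hc⟩ := MulAction.exists_smul_eq Y (((n : G) • P).subtype hle') (P.subtype hPY)
    have hcN : (c : G) * n ∈ NP := by
      rw [hNP]
      refine Sylow.smul_eq_iff_mem_normalizer.1 ?_
      rw [mul_smul]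
      refine Sylow.subtype_injective (hP := ?_) (hQ := hPY) ?_
      · rintro _ ⟨x, hx, rfl⟩
        exact mul_mem (mul_mem c.2 (hle' hx)) (inv_mem c.2)
      · rw [← hc]; exact (Sylow.smul_subtype hle' c).symm
    have hcT : (c : G) ∈ NT := Subgroup.centralizer_le_normalizer _ c.2
    refine ⟨⟨c * n, mul_mem hcT n.2, hcN⟩, ?_⟩
    show D.T.normalizerMonoidHom ⟨c * n, _⟩ = _
    have hk : (⟨c, hcT⟩ : NT) ∈ D.T.normalizerMonoidHom.ker := by
      rw [Subgroup.normalizerMonoidHom_ker, Subgroup.mem_subgroupOf]; exact c.2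
    rw [show (⟨(c : G) * n, mul_mem hcT n.2⟩ : NT) = ⟨c, hcT⟩ * n from rfl, map_mul,
      MonoidHom.mem_ker.1 hk, one_mul]
  have hker : Nat.card φ.ker = 50 := by
    have h50 : Nat.card ↥((Subgroup.normalizer
        (R : Set (↥(Subgroup.centralizer (D.T : Set G)) ⧸ D.TY))).comap π) = 50 := by
      have h := Subgroup.card_mul_index ((Subgroup.normalizer
        (R : Set (↥(Subgroup.centralizer (D.T : Set G)) ⧸ D.TY))).comap π)
      rw [Subgroup.index_comap_of_surjective _ (QuotientGroup.mk'_surjective D.TY)] at h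
      have h' := Subgroup.card_mul_index (Subgroup.normalizer
        (R : Set (↥(Subgroup.centralizer (D.T : Set G)) ⧸ D.TY)))
      rw [hNR, hq] at h'
      rw [hY300] at h
      have hi : (Subgroup.normalizer
        (R : Set (↥(Subgroup.centralizer (D.T : Set G)) ⧸ D.TY))).index = 6 := by omega
      rw [hi] at h
      omega
    rw [← h50, Subgroup.comap_normalizer_eq_of_surjective _ (QuotientGroup.mk'_surjective D.TY),
      hcomap, hPYd, ← Subgroup.subgroupOf_normalizer_eq hPY]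
    refine Nat.card_congr
      { toFun := fun a => ⟨⟨((a.1 : ↥(NT ⊓ NP)) : G), ?_⟩, a.1.2.2⟩
        invFun := fun y => ⟨⟨(y.1 : G), Subgroup.centralizer_le_normalizer _ y.1.2, y.2⟩, ?_⟩
        left_inv := fun a => rfl
        right_inv := fun y => rfl }
    · have h : Subgroup.inclusion inf_le_left (a.1 : ↥(NT ⊓ NP)) ∈ D.T.normalizerMonoidHom.ker := a.2
      rw [Subgroup.normalizerMonoidHom_ker, Subgroup.mem_subgroupOf] at h
      exact h
    · show Subgroup.inclusion inf_le_left _ ∈ D.T.normalizerMonoidHom.ker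
      rw [Subgroup.normalizerMonoidHom_ker, Subgroup.mem_subgroupOf]
      exact y.1.2
  have h := φ.ker.card_mul_index
  rw [Subgroup.index_ker, MonoidHom.range_eq_top.2 hsurj, Subgroup.card_top, hker,
    D.isCyclic_aut.2, hp] at h
  exact h.symm

namespace FiveData

variable {D} {P : Sylow 5 G} (h : D.FiveData (P : Subgroup G))

/-- The line `T`. -/
def line : Line (P : Subgroup G) := ⟨D.T, h.le, h.cT⟩

include h in
theorem line_eq {L : Line (P : Subgroup G)} {x : G} (hx : x ∈ L.1) (hx1 : x ≠ 1) :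
    Subgroup.zpowers x = L.1 := by
  haveI : Fact (Nat.Prime 5) := ⟨by norm_num⟩
  refine Subgroup.eq_of_le_of_card_ge (Subgroup.zpowers_le.2 hx) ?_
  rw [Nat.card_zpowers, L.2.2, orderOf_eq_prime (h.exp x (L.2.1 hx)) hx1]

include h in
theorem line_meet {L M : Line (P : Subgroup G)} {x : G} (hL : x ∈ L.1) (hM : x ∈ M.1) (hx1 : x ≠ 1) :
    L = M := Subtype.ext ((h.line_eq hL hx1).symm.trans (h.line_eq hM hx1))

include h in
theorem card_line : Nat.card (Line (P : Subgroup G)) = 6 := by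
  classical
  haveI : Fact (Nat.Prime 5) := ⟨by norm_num⟩
  haveI := Fintype.ofFinite (Line (P : Subgroup G))
  let mk : {x : (P : Subgroup G) // x ≠ 1} → Line (P : Subgroup G) := fun x =>
    ⟨Subgroup.zpowers (x.1 : G), Subgroup.zpowers_le.2 x.1.2, by
      rw [Nat.card_zpowers, orderOf_eq_prime (h.exp _ x.1.2) fun e => x.2 (Subtype.ext e)]⟩
  have hfib : ∀ L, Nat.card {x // mk x = L} = 4 := by
    intro L
    have e : {x // mk x = L} ≃ {x : L.1 // x ≠ 1} :=
      { toFun := fun x => ⟨⟨(x.1.1 : G), by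
            have := congrArg Subtype.val x.2
            rw [← this]; exact Subgroup.mem_zpowers _⟩,
          fun e => x.1.2 (Subtype.ext (congrArg Subtype.val e : _))⟩
        invFun := fun x => ⟨⟨⟨(x.1 : G), L.2.1 x.1.2⟩, fun e =>
            x.2 (Subtype.ext (congrArg Subtype.val e : _))⟩,
          Subtype.ext (h.line_eq x.1.2 fun e => x.2 (Subtype.ext e))⟩
        left_inv := fun x => rfl
        right_inv := fun x => rfl }
    haveI := Fintype.ofFinite L.1
    rw [Nat.card_congr e, Nat.card_eq_fintype_card, Fintype.card_subtype_compl,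
      Fintype.card_subtype_eq, ← Nat.card_eq_fintype_card, L.2.2]
  haveI := Fintype.ofFinite (P : Subgroup G)
  have h24 : Nat.card {x : (P : Subgroup G) // x ≠ 1} = 24 := by
    rw [Nat.card_eq_fintype_card, Fintype.card_subtype_compl, Fintype.card_subtype_eq,
      ← Nat.card_eq_fintype_card, h.card]
  rw [Nat.card_congr (Equiv.sigmaFiberEquiv mk).symm, Nat.card_sigma, Finset.sum_congr rfl
    fun L _ => hfib L, Finset.sum_const, smul_eq_mul, Finset.card_univ,
    ← Nat.card_eq_fintype_card] at h24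
  omega

theorem stab_eq : MulAction.stabilizer (Subgroup.normalizer ((P : Subgroup G) : Set G)) h.line =
    (Subgroup.normalizer (D.T : Set G)).subgroupOf (Subgroup.normalizer ((P : Subgroup G) : Set G)) := by
  ext n
  rw [MulAction.mem_stabilizer_iff, Subgroup.mem_subgroupOf, ← cj_iff]
  exact Subtype.ext_iff

theorem card_stab : Nat.card (MulAction.stabilizer
    (Subgroup.normalizer ((P : Subgroup G) : Set G)) h.line) = 200 := by
  rw [h.stab_eq, ← h.stab, ← Subgroup.inf_subgroupOf_right]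
  exact Nat.card_congr (Subgroup.subgroupOfEquivOfLe inf_le_right).toEquiv

theorem card_NP : Nat.card (Subgroup.normalizer ((P : Subgroup G) : Set G)) = 600 ∧
    Nat.card (MulAction.orbit (Subgroup.normalizer ((P : Subgroup G) : Set G)) h.line) = 3 := by
  haveI : Fact (Nat.Prime 5) := ⟨by norm_num⟩
  have h1 := (MulAction.stabilizer
    (Subgroup.normalizer ((P : Subgroup G) : Set G)) h.line).card_mul_index
  rw [h.card_stab, MulAction.index_stabilizer, ← Nat.card_coe_set_eq] at h1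
  have hk6 : Nat.card (MulAction.orbit (Subgroup.normalizer ((P : Subgroup G) : Set G)) h.line) ≤ 6 := by
    rw [← h.card_line]
    exact Nat.card_le_card_of_injective Subtype.val Subtype.val_injective
  have hk0 : 0 < Nat.card (MulAction.orbit (Subgroup.normalizer ((P : Subgroup G) : Set G)) h.line) := by
    haveI : Nonempty (MulAction.orbit (Subgroup.normalizer ((P : Subgroup G) : Set G)) h.line) :=
      ⟨⟨_, MulAction.mem_orbit_self _⟩⟩
    exact Nat.card_pos
  have h2 := (Subgroup.normalizer ((P : Subgroup G) : Set G)).card_mul_index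
  rw [← h1, show (Subgroup.normalizer ((P : Subgroup G) : Set G)).index = Nat.card (Sylow 5 G) from
    (Sylow.card_eq_index_normalizer P).symm, W.card_G] at h2
  have h3 := card_sylow_modEq_one 5 G
  unfold Nat.ModEq at h3
  generalize Nat.card (MulAction.orbit (Subgroup.normalizer ((P : Subgroup G) : Set G)) h.line) = k
    at h1 h2 hk6 hk0
  interval_cases k <;> omega

include h in
/-- An element fixing three lines fixes all lines and induces a power map. -/
theorem scalar {n : Subgroup.normalizer ((P : Subgroup G) : Set G)} {A B C : Line (P : Subgroup G)}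
    (hAB : A ≠ B) (hAC : A ≠ C) (hBC : B ≠ C) (hA : n • A = A) (hB : n • B = B) (hC : n • C = C) :
    ∃ i : ℕ, ∀ x ∈ (P : Subgroup G), (n : G) * x * (n : G)⁻¹ = x ^ i := by
  classical
  have nt : ∀ L : Line (P : Subgroup G), ∃ x ∈ L.1, x ≠ 1 := fun L => by
    haveI : Nontrivial L.1 := Finite.one_lt_card_iff_nontrivial.1 (by rw [L.2.2]; norm_num)
    obtain ⟨x, hx⟩ := exists_ne (1 : L.1)
    exact ⟨x, x.2, fun e => hx (Subtype.ext e)⟩
  obtain ⟨a, ha, ha1⟩ := nt A
  obtain ⟨b, hb, hb1⟩ := nt B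
  have hpow : ∀ {L : Line (P : Subgroup G)} {x y : G}, x ∈ L.1 → x ≠ 1 → y ∈ L.1 →
      ∃ i : ℕ, x ^ i = y := fun {L} {x} {y} hx hx1 hy => by
    have : y ∈ Subgroup.zpowers _ := (h.line_eq hx hx1).symm ▸ hy
    rwa [← mem_powers_iff_mem_zpowers] at this
  have hfix : ∀ {L : Line (P : Subgroup G)} {x : G}, n • L = L → x ∈ L.1 →
      (n : G) * x * (n : G)⁻¹ ∈ L.1 := fun {L} {x} hL hx => by
    have := mem_cj (g := (n : G)) hx
    rwa [show cj (n : G) L.1 = L.1 from congrArg Subtype.val hL] at this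
  obtain ⟨i, hi⟩ := hpow ha ha1 (hfix hA ha)
  obtain ⟨j, hj⟩ := hpow hb hb1 (hfix hB hb)
  have hdis : ∀ {x y : G}, x ∈ A.1 → y ∈ B.1 → x = y → x = 1 := fun hx hy e => by
    by_contra hx1
    exact hAB (h.line_meet hx (e ▸ hy) hx1)
  -- `P` is the product of the two lines
  have hprod : ∀ x ∈ (P : Subgroup G), ∃ y ∈ A.1, ∃ z ∈ B.1, x = y * z := by
    let f : A.1 × B.1 → (P : Subgroup G) := fun q =>
      ⟨(q.1 : G) * q.2, mul_mem (A.2.1 q.1.2) (B.2.1 q.2.2)⟩
    have hf : Function.Injective f := by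
      rintro ⟨⟨y, hy⟩, ⟨z, hz⟩⟩ ⟨⟨y', hy'⟩, ⟨z', hz'⟩⟩ he
      have he' : y * z = y' * z' := congrArg Subtype.val he
      have e : y'⁻¹ * y = z' * z⁻¹ := by
        rw [inv_mul_eq_iff_eq_mul, ← mul_assoc, ← he', mul_inv_cancel_right]
      have h1 := hdis (mul_mem (inv_mem hy') hy) (mul_mem hz' (inv_mem hz)) e
      obtain rfl : y' = y := inv_mul_eq_one.mp h1
      obtain rfl := mul_left_cancel he'
      rfl
    have hb' := (Nat.bijective_iff_injective_and_card f).2 ⟨hf, by
      rw [Nat.card_prod, A.2.2, B.2.2, h.card]⟩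
    intro x hx
    obtain ⟨⟨y, z⟩, hyz⟩ := hb'.2 ⟨x, hx⟩
    exact ⟨y, y.2, z, z.2, (congrArg Subtype.val hyz).symm⟩
  obtain ⟨c, hc, hc1⟩ := nt C
  obtain ⟨k, hk⟩ := hpow hc hc1 (hfix hC hc)
  obtain ⟨y, hy, z, hz, rfl⟩ := hprod c (C.2.1 hc)
  have hy1 : y ≠ 1 := fun e => hBC (h.line_meet hz (by rw [e, one_mul] at hc; exact hc)
    (fun ez => hc1 (by rw [e, ez, one_mul])))
  have hz1 : z ≠ 1 := fun e => hAC (h.line_meet hy (by rw [e, mul_one] at hc; exact hc) hy1)
  have conj_pow' : ∀ {x w : G} {m l : ℕ}, (n : G) * x * (n : G)⁻¹ = x ^ m → w = x ^ l →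
      (n : G) * w * (n : G)⁻¹ = w ^ m := by
    intro x w m l hx hw
    rw [hw, ← conj_pow, hx, ← pow_mul, mul_comm, pow_mul]
  obtain ⟨ly, hly⟩ := hpow ha ha1 hy
  obtain ⟨lz, hlz⟩ := hpow hb hb1 hz
  have hny := conj_pow' hi.symm hly.symm
  have hnz := conj_pow' hj.symm hlz.symm
  have hcomm : Commute y z := h.comm _ (A.2.1 hy) _ (B.2.1 hz)
  have hsplit : y ^ i * z ^ j = y ^ k * z ^ k := by
    rw [← hny, ← hnz, ← hcomm.mul_pow, hk]; group
  have e : (y ^ k)⁻¹ * y ^ i = z ^ k * (z ^ j)⁻¹ := by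
    rw [inv_mul_eq_iff_eq_mul, ← mul_assoc, ← hsplit, mul_inv_cancel_right]
  have h1 := hdis (mul_mem (inv_mem (pow_mem hy k)) (pow_mem hy i))
    (mul_mem (pow_mem hz k) (inv_mem (pow_mem hz j))) e
  have hik : y ^ k = y ^ i := inv_mul_eq_one.mp h1
  have hjk : z ^ k = z ^ j := mul_inv_eq_one.mp (e ▸ h1)
  refine ⟨k, fun x hx => ?_⟩
  obtain ⟨y', hy', z', hz', rfl⟩ := hprod x hx
  obtain ⟨my, hmy⟩ := hpow hy hy1 hy'
  obtain ⟨mz, hmz⟩ := hpow hz hz1 hz'
  rw [show (n : G) * (y' * z') * (n : G)⁻¹ = (n : G) * y' * (n : G)⁻¹ * ((n : G) * z' * (n : G)⁻¹) by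
      group, conj_pow' (hny.trans hik.symm) hmy.symm, conj_pow' (hnz.trans hjk.symm) hmz.symm,
    (show Commute y' z' from h.comm _ (A.2.1 hy') _ (B.2.1 hz')).mul_pow]

include h in
theorem scalar_fix {n : Subgroup.normalizer ((P : Subgroup G) : Set G)} {A B C : Line (P : Subgroup G)}
    (hAB : A ≠ B) (hAC : A ≠ C) (hBC : B ≠ C) (hA : n • A = A) (hB : n • B = B) (hC : n • C = C)
    (L : Line (P : Subgroup G)) : n • L = L := by
  obtain ⟨i, hi⟩ := h.scalar hAB hAC hBC hA hB hC
  refine Subtype.ext (Subgroup.eq_of_le_of_card_ge ?_ (le_of_eq (card_cj _ _).symm))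
  rintro _ ⟨x, hx, rfl⟩
  simp only [MulEquiv.coe_toMonoidHom, MulAut.conj_apply]
  rw [hi x (L.2.1 hx)]
  exact pow_mem hx i

theorem not_fix_orbit {w : Subgroup.normalizer ((P : Subgroup G) : Set G)} (hw : orderOf w = 3)
    {L : Line (P : Subgroup G)}
    (hL : L ∈ MulAction.orbit (Subgroup.normalizer ((P : Subgroup G) : Set G)) h.line) : w • L ≠ L := by
  obtain ⟨m, rfl⟩ := hL
  intro e
  have hm : m⁻¹ * w * m⁻¹⁻¹ ∈ MulAction.stabilizer
      (Subgroup.normalizer ((P : Subgroup G) : Set G)) h.line := by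
    rw [inv_inv, MulAction.mem_stabilizer_iff, mul_smul, mul_smul, e, inv_smul_smul]
  have hd := Subgroup.orderOf_dvd_natCard _ hm
  rw [h.card_stab, Involution.orderOf_conj, hw] at hd
  norm_num at hd

theorem orbit_other {A B : Line (P : Subgroup G)}
    (hA : A ∉ MulAction.orbit (Subgroup.normalizer ((P : Subgroup G) : Set G)) h.line)
    (hB : B ∉ MulAction.orbit (Subgroup.normalizer ((P : Subgroup G) : Set G)) h.line) :
    ∃ n : Subgroup.normalizer ((P : Subgroup G) : Set G), n • A = B := by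
  classical
  haveI : Fact (Nat.Prime 3) := ⟨Nat.prime_three⟩
  obtain ⟨w, hw⟩ := exists_prime_orderOf_dvd_card'
    (G := Subgroup.normalizer ((P : Subgroup G) : Set G)) 3 (by rw [h.card_NP.1]; norm_num)
  set O := MulAction.orbit (Subgroup.normalizer ((P : Subgroup G) : Set G)) h.line with hO
  have hO3 : (Oᶜ).ncard = 3 := by
    rw [Set.ncard_compl, ← Nat.card_coe_set_eq, h.card_line, hO, h.card_NP.2]
  have hw3 : w ^ 3 = 1 := hw ▸ pow_orderOf_eq_one w
  have hinv : ∀ L, L ∉ O → w • L ∉ O := fun L hL h' => hL (by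
    rw [hO] at h' ⊢
    have := MulAction.mem_orbit_of_mem_orbit w⁻¹ h'
    rwa [inv_smul_smul] at this)
  have hcube : ∀ L : Line (P : Subgroup G), w • w • w • L = L := fun L => by
    rw [smul_smul, smul_smul, show w * w * w = w ^ 3 by rw [pow_succ, pow_two], hw3, one_smul]
  have hne : w • A ≠ A := by
    intro hfix
    have hAO : A ∈ Oᶜ := hA
    obtain ⟨X, Z, hXZ, hXZe⟩ := Set.ncard_eq_two.1 (show ((Oᶜ) \ {A}).ncard = 2 by
      rw [Set.ncard_diff_singleton_of_mem hAO, hO3])
    have hmem : ∀ L, L ∈ (Oᶜ) \ {A} ↔ L = X ∨ L = Z := fun L => by rw [hXZe]; simp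
    have hX : X ∈ (Oᶜ) \ {A} := (hmem X).2 (Or.inl rfl)
    have hZ : Z ∈ (Oᶜ) \ {A} := (hmem Z).2 (Or.inr rfl)
    have step : ∀ L ∈ (Oᶜ) \ {A}, w • L ∈ (Oᶜ) \ {A} := fun L hL =>
      ⟨hinv L hL.1, fun e => hL.2 (MulAction.injective w (show w • L = w • A by rw [hfix]; exact e))⟩
    have hfX : w • X = X := by
      rcases (hmem _).1 (step X hX) with e | e
      · exact e
      · rcases (hmem _).1 (step Z hZ) with e' | e'
        · have := hcube X
          rw [e, e', e] at this
          rw [e, this]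
        · exact absurd (MulAction.injective w (e.trans e'.symm)) hXZ
    have hfZ : w • Z = Z := by
      rcases (hmem _).1 (step Z hZ) with e | e
      · exact absurd (MulAction.injective w (hfX.trans e.symm)) hXZ
      · exact e
    exact h.not_fix_orbit hw (MulAction.mem_orbit_self _) (h.scalar_fix (fun e => hX.2 e.symm)
      (fun e => hZ.2 e.symm) hXZ hfix hfX hfZ h.line)
  have hne2 : w • w • A ≠ A := fun e => hne (by
    have := hcube A
    rw [e] at this
    exact this)
  have hne3 : w • w • A ≠ w • A := fun e => hne (MulAction.injective w e)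
  have hsub : ({A, w • A, w • w • A} : Set (Line (P : Subgroup G))) = Oᶜ := by
    refine Set.eq_of_subset_of_ncard_le ?_ ?_
    · rintro L (rfl | rfl | rfl)
      exacts [hA, hinv A hA, hinv _ (hinv A hA)]
    · rw [hO3, Set.ncard_insert_of_notMem (by simp [hne.symm, hne2.symm]),
        Set.ncard_insert_of_notMem (by simp [hne3.symm]), Set.ncard_singleton]
  have hB' : B ∈ ({A, w • A, w • w • A} : Set (Line (P : Subgroup G))) := hsub ▸ hB
  rcases hB' with rfl | rfl | rfl
  exacts [⟨1, one_smul _ _⟩, ⟨w, rfl⟩, ⟨w * w, mul_smul _ _ _⟩]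

include h in
/-- Fusion of the lines is controlled by the normaliser. -/
theorem fusion {A B : Line (P : Subgroup G)} {g : G} (hg : cj g A.1 = B.1) :
    ∃ n : Subgroup.normalizer ((P : Subgroup G) : Set G), n • A = B := by
  haveI : Fact (Nat.Prime 5) := ⟨by norm_num⟩
  set C := Subgroup.centralizer (B.1 : Set G) with hC
  have h1 : (P : Subgroup G) ≤ C := fun x hx => Subgroup.mem_centralizer_iff.2 fun b hb =>
    h.comm b (B.2.1 hb) x hx
  have h2 : ((g • P : Sylow 5 G) : Subgroup G) ≤ C := by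
    rintro _ ⟨x, hx, rfl⟩
    refine Subgroup.mem_centralizer_iff.2 fun b hb => ?_
    rw [SetLike.mem_coe, ← hg] at hb
    obtain ⟨a, ha, rfl⟩ := hb
    show g * a * g⁻¹ * (g * x * g⁻¹) = g * x * g⁻¹ * (g * a * g⁻¹)
    calc g * a * g⁻¹ * (g * x * g⁻¹) = g * (a * x) * g⁻¹ := by group
      _ = g * (x * a) * g⁻¹ := by rw [h.comm a (A.2.1 ha) x hx]
      _ = _ := by group
  obtain ⟨c, hc⟩ := MulAction.exists_smul_eq C ((g • P).subtype h2) (P.subtype h1)
  have hcg : (c : G) * g ∈ Subgroup.normalizer ((P : Subgroup G) : Set G) := by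
    refine Sylow.smul_eq_iff_mem_normalizer.1 ?_
    rw [mul_smul]
    refine Sylow.subtype_injective (hP := ?_) (hQ := h1) ?_
    · rintro _ ⟨x, hx, rfl⟩
      exact mul_mem (mul_mem c.2 (h2 hx)) (inv_mem c.2)
    · rw [← hc]; exact (Sylow.smul_subtype h2 c).symm
  refine ⟨⟨_, hcg⟩, Subtype.ext ?_⟩
  show cj ((c : G) * g) A.1 = B.1
  rw [cj_mul, hg, cj_iff]
  exact Subgroup.centralizer_le_normalizer _ c.2

include h in
theorem classes : ∃ A B : Subgroup G, Nat.card A = 5 ∧ Nat.card B = 5 ∧ (∀ g : G, cj g A ≠ B) ∧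
    ∀ C : Subgroup G, Nat.card C = 5 → ∃ g : G, cj g C = A ∨ cj g C = B := by
  classical
  haveI : Fact (Nat.Prime 5) := ⟨by norm_num⟩
  obtain ⟨B, hB⟩ : ∃ B : Line (P : Subgroup G),
      B ∉ MulAction.orbit (Subgroup.normalizer ((P : Subgroup G) : Set G)) h.line := by
    by_contra! hall
    have h3 := h.card_NP.2
    rw [Set.eq_univ_of_forall hall, Nat.card_congr (Equiv.Set.univ _), h.card_line] at h3
    omega
  refine ⟨D.T, B.1, h.cT, B.2.2, fun g hg => ?_, fun C hC => ?_⟩
  · obtain ⟨n, hn⟩ := h.fusion (A := h.line) (B := B) hg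
    exact hB ⟨n, hn⟩
  obtain ⟨S, hS⟩ := (IsPGroup.of_card (p := 5) (n := 1) (G := C) (by rw [hC, pow_one])).exists_le_sylow
  obtain ⟨g, hg⟩ := MulAction.exists_smul_eq G S P
  let L : Line (P : Subgroup G) := ⟨cj g C, by rw [← hg]; exact Subgroup.map_mono hS,
    by rw [card_cj, hC]⟩
  by_cases hL : L ∈ MulAction.orbit (Subgroup.normalizer ((P : Subgroup G) : Set G)) h.line
  · obtain ⟨n, hn⟩ := hL
    refine ⟨(n : G)⁻¹ * g, Or.inl ?_⟩
    have hn' : cj (n : G) D.T = cj g C := congrArg Subtype.val hn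
    rw [cj_mul, ← hn', ← cj_mul, inv_mul_cancel, cj_one]
  · obtain ⟨n, hn⟩ := h.orbit_other hL hB
    refine ⟨(n : G) * g, Or.inr ?_⟩
    have hn' : cj (n : G) (cj g C) = B.1 := congrArg Subtype.val hn
    rw [cj_mul, hn']

include h in
theorem quot : Nonempty (↥(Subgroup.normalizer ((P : Subgroup G) : Set G)) ⧸
    (P : Subgroup G).subgroupOf (Subgroup.normalizer ((P : Subgroup G) : Set G)) ≃*
      Multiplicative (ZMod 4) × Equiv.Perm (Fin 3)) := by
  classical
  haveI : Fact (Nat.Prime 3) := ⟨Nat.prime_three⟩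
  haveI : Fact (Nat.Prime 5) := ⟨by norm_num⟩
  set N := Subgroup.normalizer ((P : Subgroup G) : Set G) with hN
  set PN := (P : Subgroup G).subgroupOf N with hPN
  set O := MulAction.orbit N h.line with hO
  set f := MulAction.toPermHom N O with hf
  have hfix : ∀ {n : N}, n ∈ f.ker → ∀ L ∈ O, n • L = L := fun {n} hn L hL =>
    congrArg Subtype.val (Equiv.ext_iff.1 (MonoidHom.mem_ker.1 hn) ⟨L, hL⟩)
  have hO3 : O.ncard = 3 := by rw [← Nat.card_coe_set_eq]; exact h.card_NP.2
  obtain ⟨A, B, C, hAB, hAC, hBC, hABC⟩ := Set.ncard_eq_three.1 hO3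
  have hsc : ∀ {n : N}, n ∈ f.ker → ∃ i : ℕ, ∀ x ∈ (P : Subgroup G),
      (n : G) * x * (n : G)⁻¹ = x ^ i := fun {n} hn =>
    h.scalar hAB hAC hBC (hfix hn A (by rw [hABC]; simp)) (hfix hn B (by rw [hABC]; simp))
      (hfix hn C (by rw [hABC]; simp))
  have hcentP : ∀ {n : G}, (∀ x ∈ (P : Subgroup G), n * x * n⁻¹ = x) → n ∈ (P : Subgroup G) := by
    intro n hn
    rw [← h.cent, Subgroup.mem_centralizer_iff]
    exact fun x hx => (mul_inv_eq_iff_eq_mul.mp (hn x hx)).symm
  have hPker : PN ≤ f.ker := by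
    intro n hn
    rw [MonoidHom.mem_ker]
    refine Equiv.ext fun L => Subtype.ext (Subtype.ext ?_)
    show cj (n : G) (L.1).1 = (L.1).1
    refine cj_iff.2 (Subgroup.centralizer_le_normalizer _ ?_)
    exact Subgroup.mem_centralizer_iff.2 fun y hy => h.comm y (L.1.2.1 hy) _ hn
  set R := N ⧸ PN
  let fb : R →* Equiv.Perm O := QuotientGroup.lift PN f hPker
  have hR : Nat.card R = 24 := by
    have hc := Subgroup.card_eq_card_quotient_mul_card_subgroup PN
    have hNc : Nat.card N = 600 := h.card_NP.1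
    have hPc : Nat.card PN = 25 := (Nat.card_congr (Subgroup.subgroupOfEquivOfLe
      (Subgroup.le_normalizer (H := (P : Subgroup G)))).toEquiv).trans h.card
    rw [hNc, hPc] at hc
    show Nat.card (N ⧸ PN) = 24
    omega
  have hlift : ∀ {r : R}, r ∈ fb.ker → ∃ n : N, n ∈ f.ker ∧ QuotientGroup.mk' PN n = r := by
    intro r hr
    obtain ⟨n, rfl⟩ := QuotientGroup.mk'_surjective PN r
    exact ⟨n, hr, rfl⟩
  -- the kernel acts faithfully on `T`
  have hkT : ∀ {n : N}, n ∈ f.ker → (n : G) ∈ Subgroup.normalizer (D.T : Set G) := fun {n} hn =>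
    cj_iff.1 (congrArg Subtype.val (hfix hn h.line (MulAction.mem_orbit_self _)))
  let r0 : f.ker →* MulAut D.T :=
    D.T.normalizerMonoidHom.comp (MonoidHom.mk' (fun n => (⟨(n.1 : G), hkT n.2⟩ :
      Subgroup.normalizer (D.T : Set G))) fun a b => rfl)
  have hr0 : ∀ n : f.ker, r0 n = 1 → (n.1 : N) ∈ PN := by
    intro n hn
    obtain ⟨i, hi⟩ := hsc n.2
    have hm : (⟨(n.1 : G), hkT n.2⟩ : Subgroup.normalizer (D.T : Set G)) ∈
        D.T.normalizerMonoidHom.ker := hn
    rw [Subgroup.normalizerMonoidHom_ker, Subgroup.mem_subgroupOf] at hm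
    obtain ⟨τ, hτ, hτ1⟩ : ∃ τ ∈ D.T, τ ≠ 1 := by
      haveI : Nontrivial D.T := Finite.one_lt_card_iff_nontrivial.1 (by rw [h.cT]; norm_num)
      obtain ⟨x, hx⟩ := exists_ne (1 : D.T)
      exact ⟨x, x.2, fun e => hx (Subtype.ext e)⟩
    have hfi : τ ^ i = τ ^ 1 := by
      rw [pow_one, ← hi τ (h.le hτ)]
      exact mul_inv_eq_iff_eq_mul.mpr (D.mem_cent.1 hm τ hτ)
    have hmod : i % 5 = 1 := by
      have := pow_eq_pow_iff_modEq.1 hfi
      rwa [orderOf_eq_prime (h.exp τ (h.le hτ)) hτ1] at this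
    refine hcentP fun x hx => ?_
    simp only [Subgroup.coe_subtype]
    rw [hi x hx, ← Nat.mod_add_div i 5, hmod, pow_add, pow_mul, h.exp x hx, one_pow, mul_one,
      pow_one]
  let proj : f.ker →* fb.ker := MonoidHom.mk' (fun n => ⟨QuotientGroup.mk' PN n.1, n.2⟩) fun a b =>
    Subtype.ext (map_mul _ _ _)
  have hproj : Function.Surjective proj := by
    rintro ⟨r, hr⟩
    obtain ⟨n, hn, rfl⟩ := hlift hr
    exact ⟨⟨n, hn⟩, rfl⟩
  have hkk : proj.ker = r0.ker := by
    ext n
    rw [MonoidHom.mem_ker, MonoidHom.mem_ker]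
    constructor
    · intro hn
      have hmem : (n.1 : N) ∈ PN := (QuotientGroup.eq_one_iff _).1 (congrArg Subtype.val hn)
      show D.T.normalizerMonoidHom ⟨(n.1 : G), hkT n.2⟩ = 1
      rw [← MonoidHom.mem_ker, Subgroup.normalizerMonoidHom_ker, Subgroup.mem_subgroupOf]
      exact D.mem_cent.2 fun s hs => h.comm _ hmem _ (h.le hs)
    · intro hn
      exact Subtype.ext ((QuotientGroup.eq_one_iff _).2 (hr0 n hn))
  let eK : fb.ker ≃* r0.range := (QuotientGroup.quotientKerEquivOfSurjective proj hproj).symm.trans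
    ((QuotientGroup.quotientMulEquivOfEq hkk).trans (QuotientGroup.quotientKerEquivRange r0))
  haveI := D.isCyclic_aut.1
  have hk : IsCyclic fb.ker := eK.isCyclic.2 inferInstance
  have hk4 : Nat.card fb.ker ≤ 4 := by
    rw [Nat.card_congr eK.toEquiv]
    refine le_trans (Subgroup.card_le_card_group _) (le_of_eq ?_)
    rw [D.isCyclic_aut.2, show D.p = 5 from D.card.symm.trans h.cT]
  have hcen : ∀ k ∈ fb.ker, ∀ r : R, k * r = r * k := by
    intro k hk r
    obtain ⟨n, hn, rfl⟩ := hlift hk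
    obtain ⟨m, rfl⟩ := QuotientGroup.mk'_surjective PN r
    obtain ⟨i, hi⟩ := hsc hn
    rw [← map_mul, ← map_mul]
    refine QuotientGroup.eq.2 ?_
    refine hcentP fun x hx => ?_
    have hxm : ∀ y ∈ (P : Subgroup G), (m : G) * y * (m : G)⁻¹ ∈ (P : Subgroup G) := fun y hy =>
      (Subgroup.mem_normalizer_iff.1 m.2 y).1 hy
    have key : (n : G) * ((m : G) * x * (m : G)⁻¹) * (n : G)⁻¹ =
        (m : G) * ((n : G) * x * (n : G)⁻¹) * (m : G)⁻¹ := by
      rw [hi _ (hxm x hx), hi x hx, conj_pow]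
    simp only [Subgroup.coe_subtype, Subgroup.coe_mul, InvMemClass.coe_inv]
    calc ((n : G) * m)⁻¹ * (m * n) * x * (((n : G) * m)⁻¹ * (m * n))⁻¹
        = ((n : G) * m)⁻¹ * ((m : G) * ((n : G) * x * (n : G)⁻¹) * (m : G)⁻¹) * ((n : G) * m) := by
          group
      _ = x := by rw [← key]; group
  obtain ⟨t, htN, ht2, htT, a, ha, ha1, hta⟩ := h.invol
  obtain ⟨w, hw⟩ := exists_prime_orderOf_dvd_card' (G := N) 3 (by rw [hN, h.card_NP.1]; norm_num)
  have hwP : QuotientGroup.mk' PN w ≠ 1 := fun e => by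
    have h5 : orderOf (w : G) ∣ 25 :=
      h.card ▸ Subgroup.orderOf_dvd_natCard _ ((QuotientGroup.eq_one_iff w).1 e)
    rw [Subgroup.orderOf_coe, hw] at h5
    norm_num at h5
  refine split_twentyfour (t := QuotientGroup.mk' PN ⟨t, htN⟩) (w := QuotientGroup.mk' PN w)
    h.card_NP.2 fb hR hk hk4 hcen ?_ ?_ ?_ hwP
  · rw [← map_mul, show (⟨t, htN⟩ : N) * ⟨t, htN⟩ = 1 from Subtype.ext ht2, map_one]
  · intro hft
    have hker : (⟨t, htN⟩ : N) ∈ f.ker := hft
    obtain ⟨i, hi⟩ := hsc hker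
    obtain ⟨τ, hτ, hτ1⟩ : ∃ τ ∈ D.T, τ ≠ 1 := by
      haveI : Nontrivial D.T := Finite.one_lt_card_iff_nontrivial.1 (by rw [h.cT]; norm_num)
      obtain ⟨x, hx⟩ := exists_ne (1 : D.T)
      exact ⟨x, x.2, fun e => hx (Subtype.ext e)⟩
    have hfi : τ ^ i = τ ^ 1 := by
      rw [pow_one, ← hi τ (h.le hτ)]
      exact mul_inv_eq_iff_eq_mul.mpr (htT τ hτ)
    have hmod : i % 5 = 1 := by
      have := pow_eq_pow_iff_modEq.1 hfi
      rwa [orderOf_eq_prime (h.exp τ (h.le hτ)) hτ1] at this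
    have h2 : t * a * t⁻¹ = a := by
      rw [hi a ha, ← Nat.mod_add_div i 5, hmod, pow_add, pow_mul, h.exp a ha, one_pow, mul_one,
        pow_one]
    rw [hta] at h2
    have h3 : orderOf a ∣ 2 := orderOf_dvd_of_pow_eq_one (by
      rw [sq]; conv_lhs => arg 1; rw [← h2]
      exact inv_mul_cancel a)
    rw [orderOf_eq_prime (h.exp a ha) ha1] at h3
    norm_num at h3
  · rw [← map_pow, ← hw, pow_orderOf_eq_one, map_one]

end FiveData

end Sub

end Fu

end Cfsg.Agent.SuzType

namespace Cfsg.Agent.SuzType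

variable {G : Type*} [Group G] [Finite G]

namespace Fu

variable (W : Fu G)

include W in
/-- Two classes of subgroups of order five and the Sylow 5-normaliser. -/
theorem five (P : Sylow 5 G) :
    (∃ A B : Subgroup G, Nat.card A = 5 ∧ Nat.card B = 5 ∧
      (∀ g : G, A.map (MulAut.conj g).toMonoidHom ≠ B) ∧
      ∀ C : Subgroup G, Nat.card C = 5 → ∃ g : G, C.map (MulAut.conj g).toMonoidHom = A ∨
        C.map (MulAut.conj g).toMonoidHom = B) ∧
    Nat.card (P : Subgroup G) = 25 ∧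
    Nat.card ↥(Subgroup.normalizer ((P : Subgroup G) : Set G)) = 600 ∧
    Nonempty (↥(Subgroup.normalizer ((P : Subgroup G) : Set G)) ⧸
      (P : Subgroup G).subgroupOf (Subgroup.normalizer ((P : Subgroup G) : Set G)) ≃*
        Multiplicative (ZMod 4) × Equiv.Perm (Fin 3)) := by
  haveI : Fact (Nat.Prime 5) := ⟨by norm_num⟩
  obtain ⟨D, hp⟩ := W.exists_sub (p := 5) (Or.inl rfl)
  obtain ⟨P₀, h⟩ := D.five_data hp
  obtain ⟨g, hg⟩ := MulAction.exists_smul_eq G P₀ P
  have hP : (P₀ : Subgroup G).map (MulAut.conj g).toMonoidHom = (P : Subgroup G) := by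
    rw [← hg]; rfl
  have hN : (Subgroup.normalizer ((P₀ : Subgroup G) : Set G)).map (MulAut.conj g).toMonoidHom =
      Subgroup.normalizer ((P : Subgroup G) : Set G) := by
    rw [Subgroup.map_equiv_normalizer_eq, hP]
  refine ⟨h.classes, ?_, ?_, ?_⟩
  · rw [← hP, Subgroup.card_map_of_injective (MulAut.conj g).injective, h.card]
  · rw [← hN, Subgroup.card_map_of_injective (MulAut.conj g).injective, h.card_NP.1]
  obtain ⟨e⟩ := h.quot
  let eN : ↥(Subgroup.normalizer ((P₀ : Subgroup G) : Set G)) ≃*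
      ↥(Subgroup.normalizer ((P : Subgroup G) : Set G)) :=
    ((Subgroup.normalizer ((P₀ : Subgroup G) : Set G)).equivMapOfInjective _
      (MulAut.conj g).injective).trans (MulEquiv.subgroupCongr hN)
  have hmap : ((P₀ : Subgroup G).subgroupOf
      (Subgroup.normalizer ((P₀ : Subgroup G) : Set G))).map eN.toMonoidHom =
      (P : Subgroup G).subgroupOf (Subgroup.normalizer ((P : Subgroup G) : Set G)) := by
    ext y
    rw [Subgroup.mem_map, Subgroup.mem_subgroupOf]
    constructor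
    · rintro ⟨x, hx, rfl⟩
      exact hP.le ⟨x, hx, rfl⟩
    · intro hy
      obtain ⟨x, hx, hxy⟩ := hP.ge hy
      exact ⟨⟨x, Subgroup.le_normalizer hx⟩, hx, Subtype.ext hxy⟩
  exact ⟨(QuotientGroup.congr _ _ eN hmap).symm.trans e⟩

end Fu

end Cfsg.Agent.SuzType
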