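/-
The frame of three orthogonal anisotropic planes in the six-dimensional minus type space over GF(2),
and the torus of their rotations (helper1).

* `uu`, `bb` : bases of the planes, with `uu 0 + uu 1 = v0`
* `rr i` : the rotation of the plane `i`; `tor` : the elements of the torus
* `eq_tor` : the centraliser of the rotations is the torus; `frame_line` : weight one elements
* `exists_cycle`, `exists_swap` : monomial elements of `Ω`
* `exists_to_frame` : a nonsingular pair moves to the first plane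
-/
import Cfsg.Agent.Lib.SuzType.Mid

set_option autoImplicit false

namespace Cfsg.Agent.SuzType

open Cfsg.Agent.Orth
open QuadraticMap (polar)

/-- A vector given by its coordinates `e₁ e₂ f₁ f₂ g₀ g₁`. -/
def vec6 (a b c d e f : ZMod 2) : V6 := fun j => match j with
  | .inl (.inl i) => if i = 0 then a else b
  | .inl (.inr i) => if i = 0 then c else d
  | .inr i => if i = 0 then e else f

/-- The vectors, enumerated. -/
def vn (n : Fin 64) : V6 :=
  vec6 (n.val : ℕ) (n.val / 2 : ℕ) (n.val / 4 : ℕ) (n.val / 8 : ℕ) (n.val / 16 : ℕ) (n.val / 32 : ℕ)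

theorem vn_surj (x : V6) : ∃ n, vn n = x := by
  have key : ∀ a b c d e f : ZMod 2, ∃ n, vn n = vec6 a b c d e f := by decide +kernel
  obtain ⟨n, hn⟩ := key (x (.inl (.inl 0))) (x (.inl (.inl 1))) (x (.inl (.inr 0)))
    (x (.inl (.inr 1))) (x (.inr 0)) (x (.inr 1))
  refine ⟨n, hn.trans (funext fun j => ?_)⟩
  rcases j with (i | i) | i <;> fin_cases i <;> rfl

theorem forall_V6 {P : V6 → Prop} (h : ∀ n, P (vn n)) (x : V6) : P x := by
  obtain ⟨n, rfl⟩ := vn_surj x; exact h n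

/-- The form, computably. -/
def qv (x : V6) : ZMod 2 := x (.inl (.inl 0)) * x (.inl (.inr 0)) + x (.inl (.inl 1)) * x (.inl (.inr 1))
    + (x (.inr 0) * x (.inr 0) + x (.inr 0) * x (.inr 1) + x (.inr 1) * x (.inr 1))

/-- The polar form, computably. -/
def bv (x y : V6) : ZMod 2 := qv (x + y) - qv x - qv y

theorem qm_qv (x : V6) : qm x = qv x := qm_apply x

theorem polar_bv (x y : V6) : polar ⇑qm x y = bv x y := by simp only [polar, bv, qm_qv]

/-- The reflection in a nonsingular vector, computably. -/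
def rv (a x : V6) : V6 := x + bv a x • a

theorem refl_rv {a : V6} (ha : qv a = 1) (x : V6) : ap (refl qm a) x = rv a x := by
  rw [refl_ap, qm_qv, ha, inv_one, one_mul, polar_bv, sub_eq_add_neg, rv]
  congr 1
  exact ZModModule.neg_eq_self _

/-- The first vectors of the planes. -/
def uu : Fin 3 → V6 := ![vec6 0 1 0 1 0 0, vec6 1 1 0 1 0 0, vec6 0 0 0 0 1 0]

/-- The second vectors of the planes. -/
def bb : Fin 3 → V6 := ![vec6 1 1 1 0 0 0, vec6 0 1 1 1 0 0, vec6 0 0 0 0 0 1]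

theorem frame : ∀ i j : Fin 3, qv (uu i) = 1 ∧ qv (bb i) = 1 ∧
    bv (uu i) (bb j) = (if i = j then 1 else 0) ∧ (i ≠ j → bv (uu i) (uu j) = 0 ∧ bv (bb i) (bb j) = 0) := by
  decide +kernel

theorem qv_uu (i : Fin 3) : qv (uu i) = 1 := (frame i i).1
theorem qv_bb (i : Fin 3) : qv (bb i) = 1 := (frame i i).2.1

theorem uu_v0 : uu 0 + uu 1 = vec6 1 0 0 0 0 0 := by decide +kernel

theorem v0_vec : v0 = vec6 1 0 0 0 0 0 := by
  funext j
  rcases j with (i | i) | i <;> fin_cases i <;> simp [v0, vec6]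

theorem decomp_frame (x : V6) : x = bv (bb 0) x • uu 0 + bv (uu 0) x • bb 0 +
    (bv (bb 1) x • uu 1 + bv (uu 1) x • bb 1) + (bv (bb 2) x • uu 2 + bv (uu 2) x • bb 2) :=
  forall_V6 (P := fun x => x = bv (bb 0) x • uu 0 + bv (uu 0) x • bb 0 +
    (bv (bb 1) x • uu 1 + bv (uu 1) x • bb 1) + (bv (bb 2) x • uu 2 + bv (uu 2) x • bb 2))
    (by decide +kernel) x

theorem ext_frame {g h : IsoGrp qm} (hu : ∀ i, ap g (uu i) = ap h (uu i))
    (hb : ∀ i, ap g (bb i) = ap h (bb i)) : g = h := by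
  refine ext_ap fun x => ?_
  rw [decomp_frame x]
  simp only [map_add, map_smul, hu, hb]

/-- The rotation of a plane. -/
def Rv (i : Fin 3) (x : V6) : V6 := rv (bb i) (rv (uu i) x)

/-- The rotation of a plane, as an isometry. -/
noncomputable def rr (i : Fin 3) : IsoGrp qm := refl qm (bb i) * refl qm (uu i)

theorem rr_ap (i : Fin 3) (x : V6) : ap (rr i) x = Rv i x := by
  rw [rr, ap_mul, refl_rv (qv_uu i), refl_rv (qv_bb i), Rv]

theorem rr_mem (i : Fin 3) : rr i ∈ Cfsg.Omega (ZMod 2) ⇑qm :=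
  refl_mul_refl_mem (by rw [qm_qv, qv_bb]; exact one_ne_zero) (by rw [qm_qv, qv_uu]; exact one_ne_zero)

/-- Two computable maps agreeing on the vectors give equal isometries. -/
theorem eq_of_maps {g h : IsoGrp qm} {f k : V6 → V6} (hg : ∀ x, ap g x = f x) (hh : ∀ x, ap h x = k x)
    (e : ∀ n, f (vn n) = k (vn n)) : g = h := by
  refine ext_ap fun x => ?_
  obtain ⟨n, rfl⟩ := vn_surj x
  rw [hg, hh, e]

theorem rr_cube (i : Fin 3) : rr i * rr i * rr i = 1 :=
  eq_of_maps (f := fun x => Rv i (Rv i (Rv i x))) (k := id) (fun x => by simp [ap_mul, rr_ap])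
    (fun x => by simp) (by revert i; decide +kernel)

theorem rr_comm (i j : Fin 3) : rr i * rr j = rr j * rr i :=
  eq_of_maps (f := fun x => Rv i (Rv j x)) (k := fun x => Rv j (Rv i x))
    (fun x => by simp [ap_mul, rr_ap]) (fun x => by simp [ap_mul, rr_ap])
    (by revert i j; decide +kernel)

/-- An element of the torus, as a map. -/
def Tv (e : Fin 3 × Fin 3 × Fin 3) (x : V6) : V6 :=
  (Rv 0)^[e.1.val] ((Rv 1)^[e.2.1.val] ((Rv 2)^[e.2.2.val] x))

/-- An element of the torus. -/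
noncomputable def tor (e : Fin 3 × Fin 3 × Fin 3) : IsoGrp qm :=
  rr 0 ^ e.1.val * rr 1 ^ e.2.1.val * rr 2 ^ e.2.2.val

theorem rr_pow_ap (i : Fin 3) : ∀ (n : ℕ) (x : V6), ap (rr i ^ n) x = (Rv i)^[n] x
  | 0, x => by simp
  | n + 1, x => by rw [pow_succ', ap_mul, rr_pow_ap i n, rr_ap, Function.iterate_succ_apply']

theorem tor_ap (e : Fin 3 × Fin 3 × Fin 3) (x : V6) : ap (tor e) x = Tv e x := by
  simp only [tor, ap_mul, rr_pow_ap, Tv]

theorem tv_mul : ∀ e f : Fin 3 × Fin 3 × Fin 3, ∀ i : Fin 3,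
    Tv e (Tv f (uu i)) = Tv (e.1 + f.1, e.2.1 + f.2.1, e.2.2 + f.2.2) (uu i) ∧
    Tv e (Tv f (bb i)) = Tv (e.1 + f.1, e.2.1 + f.2.1, e.2.2 + f.2.2) (bb i) := by
  decide +kernel

theorem tor_mul (e f : Fin 3 × Fin 3 × Fin 3) :
    tor e * tor f = tor (e.1 + f.1, e.2.1 + f.2.1, e.2.2 + f.2.2) :=
  ext_frame (fun i => by simp [ap_mul, tor_ap, (tv_mul e f i).1])
    (fun i => by simp [ap_mul, tor_ap, (tv_mul e f i).2])

theorem tor_injective : Function.Injective tor := by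
  intro e f h
  have key : ∀ e f : Fin 3 × Fin 3 × Fin 3, (∀ i, Tv e (uu i) = Tv f (uu i)) → e = f := by
    decide +kernel
  exact key e f fun i => by rw [← tor_ap, ← tor_ap, h]

theorem tor_single : tor (1, 0, 0) = rr 0 ∧ tor (0, 1, 0) = rr 1 ∧ tor (0, 0, 1) = rr 2 ∧
    tor (0, 0, 0) = 1 := by
  simp [tor]

/-- The centraliser of the rotations is the torus. -/
theorem eq_tor {g : IsoGrp qm} (h : ∀ i, g * rr i = rr i * g) : ∃ e, g = tor e := by
  have hap : ∀ i x, Rv i (ap g x) = ap g (Rv i x) := fun i x => by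
    rw [← rr_ap, ← ap_mul, ← h, ap_mul, rr_ap]
  have keyA : ∀ i : Fin 3, ∀ x : Fin 64, qv (vn x) = 1 → (∀ j, j ≠ i → Rv j (vn x) = vn x) →
      ∃ k : Fin 3, vn x = (Rv i)^[k.val] (uu i) := by decide +kernel
  have hfix : ∀ i j : Fin 3, j ≠ i → Rv j (uu i) = uu i := by decide +kernel
  have hbb : ∀ i : Fin 3, bb i = Rv i (Rv i (uu i)) ∨ bb i = Rv i (uu i) := by decide +kernel
  have hk : ∀ i, ∃ k : Fin 3, ap g (uu i) = (Rv i)^[k.val] (uu i) := by
    intro i
    obtain ⟨n, hn⟩ := vn_surj (ap g (uu i))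
    rw [← hn]
    refine keyA i n ?_ fun j hj => ?_
    · rw [hn, ← qm_qv, Q_ap, qm_qv, qv_uu]
    · rw [hn, hap, hfix i j hj]
  choose k hk using hk
  have hT : ∀ e : Fin 3 × Fin 3 × Fin 3, ∀ i : Fin 3,
      Tv e (uu i) = (Rv i)^[(![e.1, e.2.1, e.2.2] i).val] (uu i) ∧
      Tv e (Rv i (uu i)) = Rv i (Tv e (uu i)) := by decide +kernel
  refine ⟨(k 0, k 1, k 2), ext_frame (fun i => ?_) fun i => ?_⟩
  · rw [hk, tor_ap, (hT _ i).1]
    fin_cases i <;> rfl
  · have hu : ap g (uu i) = Tv (k 0, k 1, k 2) (uu i) := by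
      rw [hk, (hT _ i).1]
      fin_cases i <;> rfl
    have hT2 : ∀ e : Fin 3 × Fin 3 × Fin 3, ∀ i : Fin 3,
        Tv e (Rv i (Rv i (uu i))) = Rv i (Rv i (Tv e (uu i))) := by decide +kernel
    rcases hbb i with e | e <;> rw [e, tor_ap]
    · rw [← hap, ← hap, hu, hT2]
    · rw [← hap, hu, (hT _ i).2]

/-- Elements fixing sixteen vectors are powers of a rotation. -/
theorem wt_one : ∀ e : Fin 3 × Fin 3 × Fin 3,
    (Finset.univ.filter fun n : Fin 64 => Tv e (vn n) = vn n).card = 16 →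
      ∃ j : Fin 3, ∃ k : Fin 3, e = ![(k, 0, 0), (0, k, 0), (0, 0, k)] j := by
  decide +kernel

theorem wt_rr : ∀ i : Fin 3, (Finset.univ.filter fun n : Fin 64 => Rv i (vn n) = vn n).card = 16 := by
  decide +kernel

/-- A monomial element of the frame maps rotations to powers of rotations. -/
theorem frame_line {g : IsoGrp qm} {i : Fin 3} {e : Fin 3 × Fin 3 × Fin 3}
    (h : g * rr i * g⁻¹ = tor e) :
    ∃ j : Fin 3, ∃ k : Fin 3, e = ![(k, 0, 0), (0, k, 0), (0, 0, k)] j := by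
  classical
  refine wt_one e ?_
  rw [← wt_rr i, ← Fintype.card_subtype, ← Fintype.card_subtype]
  have hb : Function.Bijective vn := ⟨by
    have key : ∀ m n : Fin 64, vn m = vn n → m = n := by decide +kernel
    exact fun m n e => key m n e, vn_surj⟩
  let E : Fin 64 ≃ V6 := Equiv.ofBijective vn hb
  let f : V6 ≃ V6 :=
    { toFun := ap g, invFun := ap g⁻¹, left_inv := ap_inv_ap g, right_inv := ap_ap_inv g }
  refine (Fintype.card_congr (Equiv.subtypeEquiv (E.trans (f.trans E.symm)) fun n => ?_)).symm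
  show Rv i (vn n) = vn n ↔ Tv e (vn (E.symm (f (E n)))) = vn (E.symm (f (E n)))
  rw [show vn (E.symm (f (E n))) = ap g (vn n) from E.apply_symm_apply _, ← tor_ap, ← h, ap_mul,
    ap_mul, ap_inv_ap, rr_ap]
  exact ⟨fun e => by rw [e], fun e => ap_inj g e⟩

/-- The cyclic permutation of the planes, as a matrix. -/
def cycM : Matrix J6 J6 (ZMod 2) :=
  Matrix.of fun r c => (bv (bb 0) (Pi.single c 1) • uu 1 + bv (uu 0) (Pi.single c 1) • bb 1 +
    (bv (bb 1) (Pi.single c 1) • uu 2 + bv (uu 1) (Pi.single c 1) • bb 2) +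
    (bv (bb 2) (Pi.single c 1) • uu 0 + bv (uu 2) (Pi.single c 1) • bb 0)) r

/-- The exchange of the last two planes, as a matrix. -/
def swpM : Matrix J6 J6 (ZMod 2) :=
  Matrix.of fun r c => (bv (bb 0) (Pi.single c 1) • uu 0 + bv (uu 0) (Pi.single c 1) • bb 0 +
    (bv (bb 1) (Pi.single c 1) • uu 2 + bv (uu 1) (Pi.single c 1) • bb 2) +
    (bv (bb 2) (Pi.single c 1) • uu 1 + bv (uu 2) (Pi.single c 1) • bb 1)) r

theorem cyc_facts : cycM * (cycM * cycM) = 1 ∧ cycM * cycM * cycM = 1 ∧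
    (∀ n, qv (cycM.mulVec (vn n)) = qv (vn n)) ∧
    ∀ i : Fin 3, cycM.mulVec (uu i) = uu (i + 1) ∧ cycM.mulVec (bb i) = bb (i + 1) := by
  decide +kernel

theorem swp_facts : swpM * swpM = 1 ∧ (∀ n, qv (swpM.mulVec (vn n)) = qv (vn n)) ∧
    ∀ i : Fin 3, swpM.mulVec (uu i) = uu (-i) ∧ swpM.mulVec (bb i) = bb (-i) := by
  decide +kernel

/-- The cyclic permutation of the planes. -/
def cycI : IsoGrp qm :=
  ⟨⟨cycM, cycM * cycM, cyc_facts.1, cyc_facts.2.1⟩, fun x _ => by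
    show qm (cycM.mulVec x) = qm x
    rw [qm_qv, qm_qv]
    exact forall_V6 (P := fun x => qv (cycM.mulVec x) = qv x) cyc_facts.2.2.1 x⟩

/-- The exchange of the last two planes. -/
def swpI : IsoGrp qm :=
  ⟨⟨swpM, swpM, swp_facts.1, swp_facts.1⟩, fun x _ => by
    show qm (swpM.mulVec x) = qm x
    rw [qm_qv, qm_qv]
    exact forall_V6 (P := fun x => qv (swpM.mulVec x) = qv x) swp_facts.2.1 x⟩

theorem cycI_cube : cycI * cycI * cycI = 1 :=
  Subtype.ext (Units.ext cyc_facts.2.1)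

theorem exists_cycle : ∃ ω ∈ Cfsg.Omega (ZMod 2) ⇑qm, ω * ω * ω = 1 ∧
    ∀ i : Fin 3, ap ω (uu i) = uu (i + 1) ∧ ap ω (bb i) = bb (i + 1) := by
  refine ⟨cycI, ?_, cycI_cube, cyc_facts.2.2.2⟩
  have e : cycI = (cycI * cycI) ^ 2 := by
    calc cycI = cycI * (cycI * cycI * cycI) := by rw [cycI_cube, mul_one]
      _ = _ := by rw [sq]; group
  rw [e]
  exact Subgroup.sq_mem_of_index_two index_omega _

theorem exists_swap : ∃ ω ∈ Cfsg.Omega (ZMod 2) ⇑qm,
    ω * rr 1 * ω⁻¹ = rr 2 ∧ ω * rr 2 * ω⁻¹ = rr 1 ∧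
      (ω * rr 0 * ω⁻¹ = rr 0 ∨ ω * rr 0 * ω⁻¹ = rr 0 * rr 0) := by
  have hc : ∀ i, swpI * rr i * swpI⁻¹ = rr (-i) := fun i => by
    rw [rr, show swpI * (refl qm (bb i) * refl qm (uu i)) * swpI⁻¹ =
      (swpI * refl qm (bb i) * swpI⁻¹) * (swpI * refl qm (uu i) * swpI⁻¹) by group, conj_refl,
      conj_refl, show ap swpI (bb i) = bb (-i) from (swp_facts.2.2 i).2,
      show ap swpI (uu i) = uu (-i) from (swp_facts.2.2 i).1]
    rfl
  have hu : ∀ i : Fin 3, refl qm (uu 0) * rr i * (refl qm (uu 0))⁻¹ =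
      if i = 0 then rr i * rr i else rr i := by
    intro i
    rw [refl_inv]
    refine eq_of_maps (f := fun x => rv (uu 0) (Rv i (rv (uu 0) x)))
      (k := fun x => if i = 0 then Rv i (Rv i x) else Rv i x)
      (fun x => by simp [ap_mul, rr_ap, refl_rv (qv_uu 0)]) (fun x => ?_) (by revert i; decide +kernel)
    split <;> simp [ap_mul, rr_ap]
  by_cases h : swpI ∈ Cfsg.Omega (ZMod 2) ⇑qm
  · exact ⟨swpI, h, hc 1, hc 2, Or.inl (hc 0)⟩
  · have hne : refl qm (uu 0) ∉ Cfsg.Omega (ZMod 2) ⇑qm :=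
      refl_not_mem (by rw [qm_qv, qv_uu]; exact one_ne_zero)
    refine ⟨refl qm (uu 0) * swpI,
      (Subgroup.mul_mem_iff_of_index_two index_omega).2 (iff_of_false hne h), ?_, ?_, Or.inr ?_⟩ <;>
    · rw [mul_inv_rev, show ∀ a b c d : IsoGrp qm, a * b * c * (d * a⁻¹) = a * (b * c * d) * a⁻¹ from
        fun a b c d => by group, hc, hu]
      simp only [show (-1 : Fin 3) = 2 by decide, show (-2 : Fin 3) = 1 by decide,
        show (-0 : Fin 3) = 0 by decide]
      rfl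

/-- The reflection product in the first two planes. -/
def Av (x : V6) : V6 := rv (uu 0) (rv (uu 1) x)

theorem refl_pair_ap {a c : V6} (ha : qv a = 1) (hc : qv c = 1) (x : V6) :
    ap (refl qm a * refl qm c) x = rv a (rv c x) := by
  rw [ap_mul, refl_rv hc, refl_rv ha]

/-- The actions of the sign changes. -/
theorem sign_conj (i j : Fin 3) (hij : i ≠ j) (l : Fin 3) :
    refl qm (uu i) * refl qm (uu j) * rr l * (refl qm (uu i) * refl qm (uu j))⁻¹ =
      if l = i ∨ l = j then rr l * rr l else rr l := by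
  rw [mul_inv_rev, refl_inv, refl_inv]
  refine eq_of_maps (f := fun x => rv (uu i) (rv (uu j) (Rv l (rv (uu j) (rv (uu i) x)))))
    (k := fun x => if l = i ∨ l = j then Rv l (Rv l x) else Rv l x)
    (fun x => by simp [ap_mul, rr_ap, refl_rv (qv_uu _)]) (fun x => ?_)
    (by revert i j l; decide +kernel)
  split <;> simp [ap_mul, rr_ap]

theorem sign_comm (i j : Fin 3) : refl qm (uu i) * refl qm (uu j) = refl qm (uu j) * refl qm (uu i) :=
  eq_of_maps (f := fun x => rv (uu i) (rv (uu j) x)) (k := fun x => rv (uu j) (rv (uu i) x))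
    (refl_pair_ap (qv_uu _) (qv_uu _)) (refl_pair_ap (qv_uu _) (qv_uu _))
    (by revert i j; decide +kernel)

/-- No element of `Ω` inverts one rotation and centralises the others. -/
theorem no_single {g : IsoGrp qm} (hg : g ∈ Cfsg.Omega (ZMod 2) ⇑qm) (h0 : g * rr 0 * g⁻¹ = rr 0)
    (h1 : g * rr 1 * g⁻¹ = rr 1) (h2 : g * rr 2 * g⁻¹ = rr 2 * rr 2) : False := by
  have hu : ∀ i : Fin 3, refl qm (uu 2) * rr i * (refl qm (uu 2))⁻¹ =
      if i = 2 then rr i * rr i else rr i := by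
    intro i
    rw [refl_inv]
    refine eq_of_maps (f := fun x => rv (uu 2) (Rv i (rv (uu 2) x)))
      (k := fun x => if i = 2 then Rv i (Rv i x) else Rv i x)
      (fun x => by simp [ap_mul, rr_ap, refl_rv (qv_uu 2)]) (fun x => ?_) (by revert i; decide +kernel)
    split <;> simp [ap_mul, rr_ap]
  have hc : ∀ i, (refl qm (uu 2) * g) * rr i = rr i * (refl qm (uu 2) * g) := by
    intro i
    rw [← mul_inv_eq_iff_eq_mul, mul_inv_rev, show ∀ a b c d : IsoGrp qm,
      a * b * c * (d * a⁻¹) = a * (b * c * d) * a⁻¹ from fun a b c d => by group]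
    have hsq : ∀ a b : IsoGrp qm, a * (b * b) * a⁻¹ = (a * b * a⁻¹) * (a * b * a⁻¹) :=
      fun a b => by group
    fin_cases i
    · show refl qm (uu 2) * (g * rr 0 * g⁻¹) * (refl qm (uu 2))⁻¹ = rr 0
      rw [h0, hu 0, if_neg (by decide)]
    · show refl qm (uu 2) * (g * rr 1 * g⁻¹) * (refl qm (uu 2))⁻¹ = rr 1
      rw [h1, hu 1, if_neg (by decide)]
    · show refl qm (uu 2) * (g * rr 2 * g⁻¹) * (refl qm (uu 2))⁻¹ = rr 2
      rw [h2, hsq, hu 2]
      simp only [if_true]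
      calc rr 2 * rr 2 * (rr 2 * rr 2) = rr 2 * rr 2 * rr 2 * rr 2 := by group
        _ = rr 2 := by rw [rr_cube, one_mul]
  obtain ⟨e, he⟩ := eq_tor hc
  have hm : refl qm (uu 2) * g ∈ Cfsg.Omega (ZMod 2) ⇑qm := by
    rw [he]
    exact mul_mem (mul_mem (pow_mem (rr_mem 0) _) (pow_mem (rr_mem 1) _)) (pow_mem (rr_mem 2) _)
  exact refl_not_mem (by rw [qm_qv, qv_uu]; exact one_ne_zero) ((Subgroup.mul_mem_cancel_right _ hg).1 hm)

/-- A nonsingular pair is moved to the first plane. -/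
theorem exists_to_frame {a b : V6} (ha : qv a = 1) (hb : qv b = 1) (hab : bv a b = 1) :
    ∃ ω ∈ Cfsg.Omega (ZMod 2) ⇑qm, ap ω a = uu 0 ∧ ap ω b = bb 0 := by
  have k1 : ∀ n : Fin 64, qv (vn n) = 1 → ∃ c d : Fin 64,
      qv (vn c) = 1 ∧ qv (vn d) = 1 ∧ rv (vn c) (rv (vn d) (vn n)) = uu 0 := by decide +kernel
  have k2 : ∀ n : Fin 64, qv (vn n) = 1 → bv (uu 0) (vn n) = 1 → ∃ c d : Fin 64,
      qv (vn c) = 1 ∧ qv (vn d) = 1 ∧ rv (vn c) (rv (vn d) (uu 0)) = uu 0 ∧
        rv (vn c) (rv (vn d) (vn n)) = bb 0 := by decide +kernel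
  obtain ⟨n, hn⟩ := vn_surj a
  obtain ⟨c, d, hc, hd, hcd⟩ := k1 n (by rw [hn, ha])
  rw [hn, ← refl_pair_ap hc hd] at hcd
  set ω := refl qm (vn c) * refl qm (vn d) with hω
  have hΩ : ∀ c d : Fin 64, qv (vn c) = 1 → qv (vn d) = 1 →
      refl qm (vn c) * refl qm (vn d) ∈ Cfsg.Omega (ZMod 2) ⇑qm := fun c d hc hd =>
    refl_mul_refl_mem (by rw [qm_qv, hc]; exact one_ne_zero) (by rw [qm_qv, hd]; exact one_ne_zero)
  obtain ⟨m, hm⟩ := vn_surj (ap ω b)
  obtain ⟨c', d', hc', hd', e1, e2⟩ := k2 m (by rw [hm, ← qm_qv, Q_ap, qm_qv, hb])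
    (by rw [hm, ← hcd, ← polar_bv, polar_ap, polar_bv, hab])
  rw [← refl_pair_ap hc' hd'] at e1 e2
  rw [hm] at e2
  exact ⟨refl qm (vn c') * refl qm (vn d') * ω, mul_mem (hΩ _ _ hc' hd') (hΩ _ _ hc hd),
    by rw [ap_mul, hcd, e1], by rw [ap_mul, e2]⟩

end Cfsg.Agent.SuzType
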