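/-
An elementary abelian torus `T` of order 27 in the centraliser of `z` in a group of Suzuki type, and its
normaliser there (helper1).

* `Tor`, `exists_tor` : the torus, containing a given element with the first rotation as image
* `el` : its elements by exponents; `cent` : its centraliser in `C(z)` is `⟨z⟩ × T`
* `exists_a`, `exists_y`, `exists_s` : sign change, cyclic permutation and exchange of the planes;
  the sign change squares to `z`
* `exists_conj` : an element `x` of order 3 with `[Q,x]` a quaternion group is conjugate into the plane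
-/
import Cfsg.Agent.Lib.SuzType.Planes
import Cfsg.Agent.Lib.SuzType.Lines

set_option autoImplicit false
open scoped commutatorElement

namespace Cfsg.Agent.SuzType

open Cfsg.Agent.Orth Cfsg.Agent.LargeExtraspecial Cfsg.Agent.LargeExtraspecial.Cfg
open QuadraticMap (polar)

/-- Exponents. -/
abbrev E3 : Type := Fin 3 × Fin 3 × Fin 3

/-- The unit exponents. -/
def sgl : Fin 3 → E3 := ![(1, 0, 0), (0, 1, 0), (0, 0, 1)]

theorem tor_sgl (i : Fin 3) : tor (sgl i) = rr i := by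
  fin_cases i
  exacts [tor_single.1, tor_single.2.1, tor_single.2.2.1]

theorem tor_add (e f : E3) : tor e * tor f = tor (e + f) := tor_mul e f

theorem tor_zero : tor 0 = 1 := tor_single.2.2.2

theorem e3_facts : ∀ e f : E3, e + f = f + e ∧ e + e + e = 0 ∧ e + -e = 0 := by decide +kernel

theorem tor_inv (e : E3) : (tor e)⁻¹ = tor (-e) := by
  refine inv_eq_of_mul_eq_one_right ?_
  rw [tor_add, (e3_facts e e).2.2, tor_zero]

/-- A homomorphism of exponents is determined by the generators. -/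
theorem conj_tor {g : IsoGrp qm} {f : Fin 3 → E3} (h : ∀ i, g * rr i * g⁻¹ = tor (f i))
    (L : E3 → E3) (hL0 : L 0 = 0) (hL : ∀ e i, L (e + sgl i) = L e + f i) (e : E3) :
    g * tor e * g⁻¹ = tor (L e) := by
  have step : ∀ e i, g * tor e * g⁻¹ = tor (L e) →
      g * tor (e + sgl i) * g⁻¹ = tor (L (e + sgl i)) := by
    intro e i he
    rw [← tor_add, tor_sgl, hL, ← tor_add, ← he, ← h]
    group
  have z0 : g * tor 0 * g⁻¹ = tor (L 0) := by rw [hL0, tor_zero]; group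
  have p : ∀ (i : Fin 3) (n : ℕ) (e : E3), g * tor e * g⁻¹ = tor (L e) →
      g * tor ((fun t => t + sgl i)^[n] e) * g⁻¹ = tor (L ((fun t => t + sgl i)^[n] e)) := by
    intro i n
    induction n with
    | zero => exact fun e he => he
    | succ n ih =>
      intro e he
      rw [Function.iterate_succ_apply']
      exact step _ i (ih e he)
  have hall : ∀ e : E3, (fun t => t + sgl 2)^[e.2.2.val] ((fun t => t + sgl 1)^[e.2.1.val]
      ((fun t => t + sgl 0)^[e.1.val] 0)) = e := by decide +kernel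
  have := p 2 e.2.2.val _ (p 1 e.2.1.val _ (p 0 e.1.val 0 z0))
  rwa [hall] at this

variable {G : Type*} [Group G]

namespace Co

variable (T : Co G)

/-- The representation on `C(z)` as a homomorphism. -/
noncomputable def rhom : Subgroup.centralizer ({T.z} : Set G) →* IsoGrp qm :=
  MonoidHom.mk' (fun g => T.ρ (g : G)) fun a b =>
    T.ρ_mul _ _ (Subgroup.mem_centralizer_singleton_iff.1 a.2) (Subgroup.mem_centralizer_singleton_iff.1 b.2)

theorem ρ_pow {g : G} (hg : g * T.z = T.z * g) : ∀ n : ℕ, T.ρ (g ^ n) = T.ρ g ^ n := fun n =>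
  map_pow T.rhom ⟨g, Subgroup.mem_centralizer_singleton_iff.2 hg⟩ n

theorem conj_z {g x : G} (hg : g * T.z = T.z * g) (hx : x * T.z = T.z * x) :
    g * x * g⁻¹ * T.z = T.z * (g * x * g⁻¹) :=
  Subgroup.mem_centralizer_singleton_iff.1 (mul_mem (mul_mem
    (Subgroup.mem_centralizer_singleton_iff.2 hg) (Subgroup.mem_centralizer_singleton_iff.2 hx))
    (inv_mem (Subgroup.mem_centralizer_singleton_iff.2 hg)))

theorem ρ_conj' {g x : G} (hg : g * T.z = T.z * g) (hx : x * T.z = T.z * x) :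
    T.ρ (g * x * g⁻¹) = T.ρ g * T.ρ x * (T.ρ g)⁻¹ := by
  have key : ∀ a b : Subgroup.centralizer ({T.z} : Set G),
      T.rhom (a * b * a⁻¹) = T.rhom a * T.rhom b * (T.rhom a)⁻¹ := fun a b => by
    rw [map_mul, map_mul, map_inv]
  exact key ⟨g, Subgroup.mem_centralizer_singleton_iff.2 hg⟩
    ⟨x, Subgroup.mem_centralizer_singleton_iff.2 hx⟩

/-- Elements of `C(z)` with image in the torus. -/
noncomputable def torPre : Subgroup G where
  carrier := {g | g * T.z = T.z * g ∧ ∃ e, T.ρ g = tor e}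
  one_mem' := ⟨by simp, 0, by rw [T.ρ_one, tor_zero]⟩
  mul_mem' := by
    rintro a b ⟨ha, e, he⟩ ⟨hb, f, hf⟩
    exact ⟨by rw [mul_assoc, hb, ← mul_assoc, ha, mul_assoc], e + f,
      by rw [T.ρ_mul a b ha hb, he, hf, tor_add]⟩
  inv_mem' := by
    rintro a ⟨ha, e, he⟩
    exact ⟨(Commute.inv_left ha : Commute a⁻¹ T.z), -e, by rw [T.ρ_inv ha, he, tor_inv]⟩

theorem mem_torPre {g : G} : g ∈ T.torPre ↔ g * T.z = T.z * g ∧ ∃ e, T.ρ g = tor e := Iff.rfl

theorem card_torPre : Nat.card T.torPre = 3456 := by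
  classical
  let f : T.torPre →* IsoGrp qm := MonoidHom.mk' (fun g => T.ρ g.1) fun a b => T.ρ_mul _ _ a.2.1 b.2.1
  have hr : (f.range : Set (IsoGrp qm)) = Set.range tor := by
    ext ω
    constructor
    · rintro ⟨g, rfl⟩
      obtain ⟨e, he⟩ := g.2.2
      exact ⟨e, he.symm⟩
    · rintro ⟨e, rfl⟩
      obtain ⟨g, hg, hρ⟩ := T.ρ_surj (tor e)
        (mul_mem (mul_mem (pow_mem (rr_mem 0) _) (pow_mem (rr_mem 1) _)) (pow_mem (rr_mem 2) _))
      exact ⟨⟨g, hg, e, hρ⟩, hρ⟩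
  have h27 : Nat.card f.range = 27 := by
    show Nat.card (f.range : Set (IsoGrp qm)) = 27
    rw [hr, Nat.card_congr (Equiv.ofInjective tor tor_injective).symm]
    simp
  have hk : Nat.card f.ker = 128 := by
    rw [show (128 : ℕ) = 2 ^ 7 by norm_num, ← T.card_Q]
    refine Nat.card_congr ⟨fun g => ⟨g.1.1, (T.ρ_ker _ g.1.2.1).1 g.2⟩,
      fun q => ⟨⟨q.1, T.Qz q.2, 0, by rw [T.ρ_Q q.2, tor_zero]⟩, T.ρ_Q q.2⟩, fun g => rfl, fun q => rfl⟩
  have h := f.ker.card_mul_index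
  rw [Subgroup.index_ker, h27, hk] at h
  omega

end Co

/-- A torus of order 27 in `C(z)`. -/
structure Tor (F : Fr G) where
  T : Subgroup G
  le : T ≤ F.T.torPre
  card : Nat.card T = 27
  inj : ∀ t ∈ T, F.T.ρ t = 1 → t = 1
  surj : ∀ e, ∃ t ∈ T, F.T.ρ t = tor e

namespace Fr

variable (F : Fr G) [Finite G]

theorem exists_tor {x : G} (hx : x ∈ F.T.torPre) (h3 : x ^ 3 = 1) : ∃ D : Tor F, x ∈ D.T := by
  classical
  haveI : Fact (Nat.Prime 3) := ⟨Nat.prime_three⟩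
  have hp : IsPGroup 3 (Subgroup.zpowers (⟨x, hx⟩ : F.T.torPre)) := by
    rintro ⟨g, hg⟩
    obtain ⟨n, rfl⟩ := Subgroup.mem_zpowers_iff.1 hg
    refine ⟨1, Subtype.ext (Subtype.ext ?_)⟩
    show (x ^ n) ^ 3 ^ 1 = 1
    rw [pow_one, ← zpow_natCast, ← zpow_mul, mul_comm, zpow_mul, zpow_natCast, h3, one_zpow]
  obtain ⟨P, hP⟩ := hp.exists_le_sylow
  have hcard : Nat.card (P : Subgroup F.T.torPre) = 27 := by
    rw [Sylow.card_eq_multiplicity, F.T.card_torPre, show (3456 : ℕ) = 2 ^ 7 * 3 ^ 3 by norm_num,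
      Nat.factorization_mul (by norm_num) (by norm_num),
      Nat.Prime.factorization_pow Nat.prime_two, Nat.Prime.factorization_pow Nat.prime_three]
    simp
  set T := (P : Subgroup F.T.torPre).map F.T.torPre.subtype with hTdef
  have hT : Nat.card T = 27 := by
    rw [hTdef, Subgroup.card_map_of_injective F.T.torPre.subtype_injective, hcard]
  have hinj : ∀ t ∈ T, F.T.ρ t = 1 → t = 1 := by
    intro t ht h1
    have hQ : t ∈ F.Q := by
      obtain ⟨g, -, rfl⟩ := ht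
      exact (F.T.ρ_ker _ g.2.1).1 h1
    have d1 : orderOf t ∣ 27 := hT ▸ Subgroup.orderOf_dvd_natCard _ ht
    have d2 : orderOf t ∣ 2 ^ 7 := F.T.card_Q ▸ Subgroup.orderOf_dvd_natCard _ hQ
    exact orderOf_eq_one_iff.1 (Nat.eq_one_of_dvd_one (by simpa using Nat.dvd_gcd d1 d2))
  have hle : T ≤ F.T.torPre := by
    rintro _ ⟨g, -, rfl⟩; exact g.2
  refine ⟨⟨T, hle, hT, hinj, fun e => ?_⟩, ⟨⟨x, hx⟩, hP (Subgroup.mem_zpowers _), rfl⟩⟩
  let k : T → E3 := fun t => (hle t.2).2.choose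
  have hk : ∀ t : T, F.T.ρ (t : G) = tor (k t) := fun t => (hle t.2).2.choose_spec
  have hki : Function.Injective k := fun s t h => by
    refine Subtype.ext (inv_mul_eq_one.1 (hinj _ (mul_mem (inv_mem s.2) t.2) ?_))
    rw [F.T.ρ_mul _ _ (hle (inv_mem s.2)).1 (hle t.2).1, F.T.ρ_inv (hle s.2).1, hk, hk, h,
      inv_mul_cancel]
  haveI := Fintype.ofFinite T
  obtain ⟨t, rfl⟩ := ((Fintype.bijective_iff_injective_and_card k).2
    ⟨hki, by rw [← Nat.card_eq_fintype_card, hT]; rfl⟩).2 e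
  exact ⟨t, t.2, hk t⟩

/-- An element of order 3 with a quaternion commutator group is conjugate to a plane rotation. -/
theorem exists_conj {x : G} (hx : x * F.z = F.z * x) (h3 : x ^ 3 = 1) (h1 : x ≠ 1) (K : Subgroup G)
    (hKQ : K ≤ F.Q) (hK : ∀ q ∈ F.Q, ⁅q, x⁆ ∈ K) (hcard : Nat.card K = 8)
    (hna : ∃ p ∈ K, ∃ r ∈ K, p * r ≠ r * p) :
    ∃ g, g * F.z = F.z * g ∧ g * x * g⁻¹ ∈ F.T.torPre ∧ F.T.ρ (g * x * g⁻¹) = tor (2, 0, 0) := by
  classical
  obtain ⟨p, hp, r, hr, hpr⟩ := hna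
  have hcomm : ⁅p, r⁆ = F.z := (F.T.data.comm p (hKQ hp) r (hKQ hr)).resolve_left fun h =>
    hpr (commutatorElement_eq_one_iff_mul_comm.1 h)
  have hzK : F.z ∈ K := by
    rw [← hcomm, commutatorElement_def]
    exact mul_mem (mul_mem (mul_mem hp hr) (inv_mem hp)) (inv_mem hr)
  let f : K →* Multiplicative V6 := MonoidHom.mk' (fun k => Multiplicative.ofAdd (F.T.c k.1))
    fun a b => by
      show Multiplicative.ofAdd (F.T.c (a.1 * b.1)) = _
      rw [F.T.c_mul _ (hKQ a.2) _ (hKQ b.2)]; rfl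
  set S : Set V6 := {v | ∃ k ∈ K, F.T.c k = v} with hS
  have hS4 : S.ncard = 4 := by
    have e : S = Multiplicative.toAdd '' (f.range : Set (Multiplicative V6)) := by
      ext v
      constructor
      · rintro ⟨k, hk, rfl⟩; exact ⟨_, ⟨⟨k, hk⟩, rfl⟩, rfl⟩
      · rintro ⟨_, ⟨k, rfl⟩, rfl⟩; exact ⟨k.1, k.2, rfl⟩
    have hker : Nat.card f.ker = 2 := by
      rw [Nat.card_eq_two_iff]
      refine ⟨1, ⟨⟨F.z, hzK⟩, by
          rw [MonoidHom.mem_ker]
          show Multiplicative.ofAdd (F.T.c F.z) = 1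
          rw [F.T.c_z]; rfl⟩,
        fun e => F.z_ne (congrArg Subtype.val (congrArg Subtype.val e)).symm, ?_⟩
      refine Set.eq_univ_of_forall fun k => ?_
      have hk : F.T.c k.1.1 = 0 := Multiplicative.ofAdd.injective k.2
      rcases F.T.c_ker _ (hKQ k.1.2) hk with e | e
      · exact Or.inl (Subtype.ext (Subtype.ext e))
      · exact Or.inr (Subtype.ext (Subtype.ext e))
    have h := f.ker.card_mul_index
    rw [Subgroup.index_ker, hker, hcard] at h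
    rw [e, Set.ncard_image_of_injective _ Multiplicative.toAdd.injective, ← Nat.card_coe_set_eq]
    show Nat.card f.range = 4
    omega
  have hSadd : ∀ v w, v ∈ S → w ∈ S → v + w ∈ S := by
    rintro _ _ ⟨k, hk, rfl⟩ ⟨l, hl, rfl⟩
    exact ⟨k * l, mul_mem hk hl, F.T.c_mul _ (hKQ hk) _ (hKQ hl)⟩
  have hS0 : (0 : V6) ∈ S := ⟨1, one_mem _, F.T.c_one⟩
  set σ := F.T.ρ x with hσ
  have hmove : ∀ v, ap σ v + v ∈ S := by
    intro v
    obtain ⟨q, hq, rfl⟩ := F.T.c_surj v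
    refine ⟨⁅q, x⁆, hK q hq, ?_⟩
    rw [commutatorElement_def, show q * x * q⁻¹ * x⁻¹ = q * (x * q⁻¹ * x⁻¹) by group,
      F.T.c_mul _ hq _ (F.T.data.norm x hx _ (inv_mem hq)), F.T.ρ_conj x hx _ (inv_mem hq),
      F.T.c_inv hq, add_comm]
  have hσ3 : ∀ v, ap σ (ap σ (ap σ v)) = v := fun v => by
    rw [← ap_mul, ← ap_mul, ← F.T.ρ_mul x x hx hx,
      ← F.T.ρ_mul _ x (by rw [mul_assoc, hx, ← mul_assoc, hx, mul_assoc]) hx,
      show x * x * x = 1 by rw [← h3, pow_succ, pow_two], F.T.ρ_one, ap_one]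
  have hσ1 : σ ≠ 1 := fun e => h1 (by
    have hQ : x ∈ F.Q := (F.T.ρ_ker x hx).1 e
    have d1 : orderOf x ∣ 3 := orderOf_dvd_of_pow_eq_one h3
    have d2 : orderOf x ∣ 2 ^ 7 := F.T.card_Q ▸ Subgroup.orderOf_dvd_natCard _ hQ
    exact orderOf_eq_one_iff.1 (Nat.eq_one_of_dvd_one (by simpa using Nat.dvd_gcd d1 d2)))
  obtain ⟨v, hv⟩ : ∃ v, ap σ v + v ≠ 0 := by
    by_contra! h
    exact hσ1 (ext_ap fun v => by rw [ap_one]; exact add_eq_zero_v (h v))
  set w := ap σ v + v with hw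
  have hw' : ap σ w ∈ S := by rw [hw, map_add]; exact hmove _
  have hw'' : ap σ (ap σ w) ∈ S := by rw [hw, map_add, map_add]; exact hmove _
  have hne : ap σ w ≠ w := fun e => hv (by
    have e2 : ap σ (ap σ v) = v := by
      have h : ap σ (ap σ v) + ap σ v = ap σ v + v := by rw [← map_add, ← hw, e]
      rwa [add_comm (ap σ v) v, add_left_inj] at h
    have h := hσ3 v
    rw [e2] at h
    rw [hw, h, ZModModule.add_self])
  have hw0 : ap σ w ≠ 0 := fun e => hv (ap_inj σ (by rw [e, map_zero]))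
  have hS' : S = {0, w, ap σ w, w + ap σ w} := by
    refine (Set.eq_of_subset_of_ncard_le ?_ ?_).symm
    · rintro _ (rfl | rfl | rfl | rfl)
      exacts [hS0, hmove v, hw', hSadd _ _ (hmove v) hw']
    · rw [hS4, Set.ncard_insert_of_notMem, Set.ncard_insert_of_notMem,
        Set.ncard_insert_of_notMem, Set.ncard_singleton]
      · simpa using (fun e : ap σ w = w + ap σ w => hv (right_eq_add.mp e))
      · simp only [Set.mem_insert_iff, Set.mem_singleton_iff, not_or]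
        exact ⟨hne.symm, fun e => hw0 (left_eq_add.mp e)⟩
      · simp only [Set.mem_insert_iff, Set.mem_singleton_iff, not_or]
        exact ⟨Ne.symm hv, hw0.symm, fun e => hne (add_eq_zero_v e.symm).symm⟩
  have hww : ap σ (ap σ w) = w + ap σ w := by
    have h := hw''
    rw [hS'] at h
    rcases h with h | h | h | h
    · exact absurd h fun e => hw0 (ap_inj σ (by rw [e, map_zero]))
    · exact absurd h fun e => hne (by
        have h' := hσ3 w
        rw [e] at h'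
        exact h')
    · exact absurd (ap_inj σ h) hne
    · exact h
  have hb : bv w (ap σ w) = 1 := by
    have hpr' : bv (F.T.c p) (F.T.c r) = 1 := by
      rw [← polar_bv]
      have h := F.T.comm_Q (hKQ hp) (hKQ hr)
      rw [hcomm] at h
      exact (pw_inj F.z_ne ((pw_one F.z).trans h)).symm
    have hps : F.T.c p ∈ S := ⟨p, hp, rfl⟩
    have hrs : F.T.c r ∈ S := ⟨r, hr, rfl⟩
    rw [hS'] at hps hrs
    have b0l : ∀ a, bv 0 a = 0 := fun a => by simp [← polar_bv, pl_zero_left]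
    have b0r : ∀ a, bv a 0 = 0 := fun a => by simp [← polar_bv, pl_zero_right]
    have bs : ∀ a, bv a a = 0 := fun a => by
      rw [← polar_bv, pl_self, show (2 : ZMod 2) = 0 by decide, zero_mul]
    have bc : ∀ a b, bv a b = bv b a := fun a b => by rw [← polar_bv, pl_comm, polar_bv]
    have bl : ∀ a b c, bv (a + b) c = bv a c + bv b c := fun a b c => by
      simp only [← polar_bv, pl_add_left]
    have br : ∀ a b c, bv a (b + c) = bv a b + bv a c := fun a b c => by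
      simp only [← polar_bv, pl_add_right]
    rcases hps with e | e | e | e <;> rcases hrs with e' | e' | e' | e' <;>
      rw [e, e'] at hpr' <;>
      first
        | (with_reducible exact hpr')
        | (simp only [b0l, b0r, bs, bl, br, bc (ap σ w) w, ZModModule.add_self, add_zero,
            zero_add] at hpr'
           first
            | (with_reducible exact hpr')
            | (with_reducible exact absurd hpr' zero_ne_one))
  have hq : qv w = 1 := by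
    have h1 : qv (ap σ (ap σ w)) = qv w := by rw [← qm_qv, Q_ap, Q_ap, qm_qv]
    have h2 : qv (ap σ w) = qv w := by rw [← qm_qv, Q_ap, qm_qv]
    have h3 : qm (w + ap σ w) = qm w + qm (ap σ w) + polar ⇑qm w (ap σ w) := Q_add qm _ _
    rw [qm_qv, qm_qv, qm_qv, polar_bv, hb, ← hww, h1, h2] at h3
    exact h3.trans (by rw [ZModModule.add_self, zero_add])
  obtain ⟨ω, hω, hωw, hωσ⟩ := exists_to_frame hq (by rw [← qm_qv, Q_ap, qm_qv, hq]) hb
  obtain ⟨g, hg, hgρ⟩ := F.T.ρ_surj ω hω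
  have hρ : F.T.ρ (g * x * g⁻¹) = tor (2, 0, 0) := by
    rw [F.T.ρ_conj' hg hx, hgρ]
    have hk : Tv (2, 0, 0) (uu 0) = bb 0 ∧ Tv (2, 0, 0) (bb 0) = uu 0 + bb 0 ∧
        ∀ i : Fin 3, i ≠ 0 → Tv (2, 0, 0) (uu i) = uu i ∧ Tv (2, 0, 0) (bb i) = bb i := by
      decide +kernel
    have hw1 : ap ω⁻¹ (uu 0) = w := by rw [← hωw, ap_inv_ap]
    have hw2 : ap ω⁻¹ (bb 0) = ap σ w := by rw [← hωσ, ap_inv_ap]
    have hrest : ∀ a, bv (uu 0) a = 0 → bv (bb 0) a = 0 → ap ω (ap σ (ap ω⁻¹ a)) = a := by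
      intro a ha hb'
      set t := ap ω⁻¹ a with ht
      have p1 : polar ⇑qm w t = 0 := by rw [← hw1, ht, polar_ap, polar_bv, ha]
      have p2 : polar ⇑qm (ap σ w) t = 0 := by rw [← hw2, ht, polar_ap, polar_bv, hb']
      have p3 : polar ⇑qm (ap σ (ap σ w)) t = 0 := by rw [hww, pl_add_left, p1, p2, add_zero]
      have q1 : polar ⇑qm w (ap σ t + t) = 0 := by
        rw [pl_add_right, p1, add_zero, show w = ap σ (ap σ (ap σ w)) from (hσ3 w).symm, polar_ap, p3]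
      have q2 : polar ⇑qm (ap σ w) (ap σ t + t) = 0 := by
        rw [pl_add_right, p2, add_zero, polar_ap, p1]
      have hfix : ap σ t + t = 0 := by
        have h := hmove t
        rw [hS'] at h
        have bs : polar ⇑qm w w = 0 ∧ polar ⇑qm (ap σ w) (ap σ w) = 0 := by
          constructor <;> rw [pl_self, show (2 : ZMod 2) = 0 by decide, zero_mul]
        rcases h with h | h | h | h
        · exact h
        · rw [h, pl_comm, polar_bv, hb] at q2; exact absurd q2 one_ne_zero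
        · rw [h, polar_bv, hb] at q1; exact absurd q1 one_ne_zero
        · rw [h, pl_add_right, bs.1, zero_add, polar_bv, hb] at q1; exact absurd q1 one_ne_zero
      rw [add_eq_zero_v hfix, ht, ap_ap_inv]
    refine ext_frame (fun i => ?_) fun i => ?_ <;> rw [ap_mul, ap_mul, tor_ap] <;>
      by_cases hi : i = 0
    · subst hi; rw [hw1, hωσ, hk.1]
    · rw [hrest _ ((frame 0 i).2.2.2 (Ne.symm hi)).1
        (by rw [← polar_bv, pl_comm, polar_bv, (frame i 0).2.2.1, if_neg hi]), (hk.2.2 i hi).1]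
    · subst hi; rw [hw2, hww, map_add, hωw, hωσ, hk.2.1]
    · rw [hrest _ (by rw [(frame 0 i).2.2.1, if_neg (Ne.symm hi)])
        ((frame 0 i).2.2.2 (Ne.symm hi)).2, (hk.2.2 i hi).2]
  exact ⟨g, hg, ⟨F.T.conj_z hg hx, _, hρ⟩, hρ⟩

end Fr

namespace Tor

variable {F : Fr G} (D : Tor F)

/-- The element of the torus with given exponents. -/
noncomputable def el (e : E3) : G := (D.surj e).choose

theorem el_mem (e : E3) : D.el e ∈ D.T := (D.surj e).choose_spec.1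
theorem el_ρ (e : E3) : F.T.ρ (D.el e) = tor e := (D.surj e).choose_spec.2
theorem mem_z {t : G} (ht : t ∈ D.T) : t * F.z = F.z * t := (D.le ht).1

theorem eq_el {t : G} (ht : t ∈ D.T) {e : E3} (h : F.T.ρ t = tor e) : t = D.el e := by
  refine inv_mul_eq_one.1 (D.inj _ (mul_mem (inv_mem ht) (D.el_mem e)) ?_)
  rw [F.T.ρ_mul _ _ (D.mem_z (inv_mem ht)) (D.mem_z (D.el_mem e)), F.T.ρ_inv (D.mem_z ht), h, el_ρ,
    inv_mul_cancel]

theorem exists_el {t : G} (ht : t ∈ D.T) : ∃ e, t = D.el e := by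
  obtain ⟨e, he⟩ := (D.le ht).2
  exact ⟨e, D.eq_el ht he⟩

theorem el_mul (e f : E3) : D.el e * D.el f = D.el (e + f) :=
  D.eq_el (mul_mem (D.el_mem e) (D.el_mem f))
    (by rw [F.T.ρ_mul _ _ (D.mem_z (D.el_mem e)) (D.mem_z (D.el_mem f)), el_ρ, el_ρ, tor_add])

theorem el_zero : D.el 0 = 1 := (D.eq_el (one_mem _) (by rw [F.T.ρ_one, tor_zero])).symm

theorem el_inv (e : E3) : (D.el e)⁻¹ = D.el (-e) :=
  D.eq_el (inv_mem (D.el_mem e)) (by rw [F.T.ρ_inv (D.mem_z (D.el_mem e)), el_ρ, tor_inv])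

theorem el_injective : Function.Injective D.el := fun e f h =>
  tor_injective (by rw [← D.el_ρ, h, el_ρ])

theorem T_comm {s t : G} (hs : s ∈ D.T) (ht : t ∈ D.T) : s * t = t * s := by
  obtain ⟨e, rfl⟩ := D.exists_el hs
  obtain ⟨f, rfl⟩ := D.exists_el ht
  rw [D.el_mul, D.el_mul, (e3_facts e f).1]

theorem T_cube {t : G} (ht : t ∈ D.T) : t ^ 3 = 1 := by
  obtain ⟨e, rfl⟩ := D.exists_el ht
  rw [pow_succ, pow_two, D.el_mul, D.el_mul, (e3_facts e e).2.1, el_zero]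

/-- Normalising the torus inside `C(z)`. -/
def Nm (n : G) : Prop := n * F.z = F.z * n ∧ ∀ t ∈ D.T, n * t * n⁻¹ ∈ D.T

theorem Nm.mul {m n : G} (hm : D.Nm m) (hn : D.Nm n) : D.Nm (m * n) :=
  ⟨by rw [mul_assoc, hn.1, ← mul_assoc, hm.1, mul_assoc], fun t ht => by
    rw [show m * n * t * (m * n)⁻¹ = m * (n * t * n⁻¹) * m⁻¹ by group]; exact hm.2 _ (hn.2 t ht)⟩

theorem Nm.conj_el {n : G} (hn : D.Nm n) {e f : E3}
    (h : F.T.ρ n * tor e * (F.T.ρ n)⁻¹ = tor f) : n * D.el e * n⁻¹ = D.el f :=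
  D.eq_el (hn.2 _ (D.el_mem e)) (by rw [F.T.ρ_conj' hn.1 (D.mem_z (D.el_mem e)), el_ρ, h])

theorem T_nm {t : G} (ht : t ∈ D.T) : D.Nm t :=
  ⟨D.mem_z ht, fun _ hs => mul_mem (mul_mem ht hs) (inv_mem ht)⟩

theorem z_nm : D.Nm F.z :=
  ⟨rfl, fun t ht => by rw [show F.z * t * F.z⁻¹ = t by rw [← D.mem_z ht]; group]; exact ht⟩

/-- The centraliser of the torus in `C(z)`. -/
theorem cent {n : G} (hn : n * F.z = F.z * n) (hc : ∀ t ∈ D.T, n * t = t * n) :
    ∃ e : G, (e = 1 ∨ e = F.z) ∧ ∃ t ∈ D.T, n = e * t := by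
  obtain ⟨e, he⟩ := eq_tor (g := F.T.ρ n) fun i => by
    rw [← tor_sgl, ← D.el_ρ, ← F.T.ρ_mul _ _ hn (D.mem_z (D.el_mem _)),
      hc _ (D.el_mem _), F.T.ρ_mul _ _ (D.mem_z (D.el_mem _)) hn]
  set q := n * (D.el e)⁻¹ with hq
  have hqQ : q ∈ F.Q := by
    refine (F.T.ρ_ker q ?_).1 ?_
    · rw [hq, mul_assoc, D.mem_z (inv_mem (D.el_mem e)), ← mul_assoc, hn, mul_assoc]
    · rw [hq, F.T.ρ_mul _ _ hn (D.mem_z (inv_mem (D.el_mem e))), F.T.ρ_inv (D.mem_z (D.el_mem e)),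
        el_ρ, he, mul_inv_cancel]
  refine ⟨q, F.T.c_ker q hqQ ?_, D.el e, D.el_mem e, by rw [hq, inv_mul_cancel_right]⟩
  have key : ∀ m : Fin 64, (∀ i, Rv i (vn m) = vn m) → vn m = 0 := by decide +kernel
  obtain ⟨m, hm⟩ := vn_surj (F.T.c q)
  rw [← hm]
  refine key m fun i => ?_
  rw [hm, ← rr_ap, ← tor_sgl, ← D.el_ρ, ← F.T.ρ_conj _ (D.mem_z (D.el_mem _)) q hqQ]
  congr 1
  refine mul_inv_eq_iff_eq_mul.mpr (Commute.eq ?_).symm
  exact Commute.mul_left (hc _ (D.el_mem _)) (Commute.inv_left (D.T_comm (D.el_mem e) (D.el_mem _)))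

variable [Finite G]

/-- An element of `C(z)` whose image normalises the torus can be corrected by an element of `Q`. -/
theorem exists_nm {g : G} (hg : g * F.z = F.z * g)
    (hT : ∀ e, ∃ f, F.T.ρ g * tor e * (F.T.ρ g)⁻¹ = tor f) : ∃ q ∈ F.Q, D.Nm (q * g) := by
  haveI : Fact (Nat.Prime 3) := ⟨Nat.prime_three⟩
  set H := F.T.torPre
  set T' := D.T.map (MulAut.conj g).toMonoidHom with hT'
  have hle : T' ≤ H := by
    rintro _ ⟨t, ht, rfl⟩
    obtain ⟨e, rfl⟩ := D.exists_el ht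
    obtain ⟨f, hf⟩ := hT e
    exact ⟨F.T.conj_z hg (D.mem_z (D.el_mem e)), f, by
      show F.T.ρ (g * D.el e * g⁻¹) = _
      rw [F.T.ρ_conj' hg (D.mem_z (D.el_mem e)), el_ρ, hf]⟩
  have hfac : 3 ^ (Nat.card H).factorization 3 = 27 := by
    rw [F.T.card_torPre, show (3456 : ℕ) = 2 ^ 7 * 3 ^ 3 by norm_num,
      Nat.factorization_mul (by norm_num) (by norm_num),
      Nat.Prime.factorization_pow Nat.prime_two, Nat.Prime.factorization_pow Nat.prime_three]
    simp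
  let P : Sylow 3 H := Sylow.ofCard (D.T.subgroupOf H) (by
    rw [Nat.card_congr (Subgroup.subgroupOfEquivOfLe D.le).toEquiv, D.card, hfac])
  let P' : Sylow 3 H := Sylow.ofCard (T'.subgroupOf H) (by
    rw [Nat.card_congr (Subgroup.subgroupOfEquivOfLe hle).toEquiv, hT',
      Subgroup.card_map_of_injective (MulAut.conj g).injective, D.card, hfac])
  obtain ⟨h, hh⟩ := MulAction.exists_smul_eq H P' P
  obtain ⟨e, he⟩ := h.2.2
  set q := (D.el e)⁻¹ * (h : G) with hq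
  have hqz : q * F.z = F.z * q := by
    rw [hq, mul_assoc, h.2.1, ← mul_assoc, D.mem_z (inv_mem (D.el_mem e)), mul_assoc]
  have hqQ : q ∈ F.Q := (F.T.ρ_ker q hqz).1 (by
    rw [hq, F.T.ρ_mul _ _ (D.mem_z (inv_mem (D.el_mem e))) h.2.1, F.T.ρ_inv (D.mem_z (D.el_mem e)),
      el_ρ, he, inv_mul_cancel])
  refine ⟨q, hqQ, by rw [mul_assoc, hg, ← mul_assoc, hqz, mul_assoc], fun t ht => ?_⟩
  have hm : (MulAut.conj h) ⟨g * t * g⁻¹, hle ⟨t, ht, rfl⟩⟩ ∈ (P : Subgroup H) := by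
    rw [← hh]
    exact ⟨⟨g * t * g⁻¹, hle ⟨t, ht, rfl⟩⟩, ⟨t, ht, rfl⟩, rfl⟩
  have hm' : (h : G) * (g * t * g⁻¹) * (h : G)⁻¹ ∈ D.T := hm
  have h2 := mul_mem (mul_mem (inv_mem (D.el_mem e)) hm') (D.el_mem e)
  rwa [show (D.el e)⁻¹ * ((h : G) * (g * t * g⁻¹) * (h : G)⁻¹) * D.el e = q * g * t * (q * g)⁻¹ by
    rw [hq]; group] at h2

/-- The cyclic permutation of the planes. -/
theorem exists_y : ∃ y, D.Nm y ∧ y ^ 3 = 1 ∧
    (∀ i : Fin 3, ap (F.T.ρ y) (uu i) = uu (i + 1) ∧ ap (F.T.ρ y) (bb i) = bb (i + 1)) ∧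
    ∀ e, y * D.el e * y⁻¹ = D.el (e.2.2, e.1, e.2.1) := by
  obtain ⟨ω, hω, hω3, hωv⟩ := exists_cycle
  have hr : ∀ i, ω * rr i * ω⁻¹ = rr (i + 1) := fun i => by
    rw [rr, show ω * (refl qm (bb i) * refl qm (uu i)) * ω⁻¹ =
      (ω * refl qm (bb i) * ω⁻¹) * (ω * refl qm (uu i) * ω⁻¹) by group, conj_refl, conj_refl,
      (hωv i).1, (hωv i).2]
    rfl
  have hc : ∀ e : E3, ω * tor e * ω⁻¹ = tor (e.2.2, e.1, e.2.1) :=
    conj_tor (f := fun i => sgl (i + 1)) (fun i => by rw [hr, tor_sgl])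
      (fun e => (e.2.2, e.1, e.2.1)) rfl (by decide +kernel)
  obtain ⟨g, hg, hgρ⟩ := F.T.ρ_surj ω hω
  obtain ⟨q, hq, hn⟩ := D.exists_nm hg fun e => ⟨_, by rw [hgρ]; exact hc e⟩
  have hnρ : F.T.ρ (q * g) = ω := by rw [F.T.ρ_mul _ _ (F.T.Qz hq) hg, F.T.ρ_Q hq, one_mul, hgρ]
  set n := q * g
  have hnn := Nm.mul D (Nm.mul D hn hn) hn
  have hρ3 : F.T.ρ (n * n * n) = 1 := by
    rw [F.T.ρ_mul _ _ (Nm.mul D hn hn).1 hn.1, F.T.ρ_mul _ _ hn.1 hn.1, hnρ, hω3]
  obtain ⟨e, he, t, ht, hnt⟩ := D.cent hnn.1 (fun s hs => by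
    obtain ⟨e, rfl⟩ := D.exists_el hs
    exact mul_inv_eq_iff_eq_mul.mp (Nm.conj_el D hnn (by rw [hρ3]; group)))
  have ht1 : t = 1 := D.inj t ht (by
    have hez : e * F.z = F.z * e := by rcases he with rfl | rfl <;> simp
    have heρ : F.T.ρ e = 1 := by
      rcases he with rfl | rfl
      exacts [F.T.ρ_one, F.T.ρ_Q F.T.data.z_mem]
    rw [hnt, F.T.ρ_mul _ _ hez (D.mem_z ht), heρ, one_mul] at hρ3
    exact hρ3)
  have he2 : e * e = 1 := by rcases he with rfl | rfl <;> simp [F.z_sq]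
  have hn3 : n ^ 3 = e := by rw [pow_succ, pow_two, hnt, ht1, mul_one]
  refine ⟨n ^ 4, ?_, ?_, ?_, fun f => ?_⟩
  · rw [show n ^ 4 = n * n * n * n by rw [pow_succ, pow_succ, pow_two]]
    exact Nm.mul D hnn hn
  · rw [← pow_mul, show 4 * 3 = 3 * 4 by norm_num, pow_mul, hn3, show (4 : ℕ) = 2 + 2 by norm_num,
      pow_add, pow_two, he2, mul_one]
  all_goals
    have hρ4 : F.T.ρ (n ^ 4) = ω := by
      rw [F.T.ρ_pow hn.1, hnρ, pow_succ, pow_succ, pow_two, hω3, one_mul]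
  · rw [hρ4]; exact hωv
  · refine Nm.conj_el D ?_ (by rw [hρ4, hc])
    rw [show n ^ 4 = n * n * n * n by rw [pow_succ, pow_succ, pow_two]]
    exact Nm.mul D hnn hn

/-- The exchange of the last two planes. -/
theorem exists_s : ∃ s, D.Nm s ∧ ∀ e, s * D.el e * s⁻¹ = D.el (e.1, e.2.2, e.2.1) ∨
    s * D.el e * s⁻¹ = D.el (-e.1, e.2.2, e.2.1) := by
  obtain ⟨ω, hω, h1, h2, h0⟩ := exists_swap
  rcases h0 with h0 | h0
  · have hc : ∀ e : E3, ω * tor e * ω⁻¹ = tor (e.1, e.2.2, e.2.1) :=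
      conj_tor (f := ![sgl 0, sgl 2, sgl 1])
        (fun i => by
          fin_cases i
          exacts [h0.trans (tor_sgl 0).symm, h1.trans (tor_sgl 2).symm, h2.trans (tor_sgl 1).symm])
        (fun e => (e.1, e.2.2, e.2.1)) rfl (by decide +kernel)
    obtain ⟨g, hg, hgρ⟩ := F.T.ρ_surj ω hω
    obtain ⟨q, hq, hn⟩ := D.exists_nm hg fun e => ⟨_, by rw [hgρ]; exact hc e⟩
    exact ⟨q * g, hn, fun e => Or.inl (Nm.conj_el D hn (by
      rw [F.T.ρ_mul _ _ (F.T.Qz hq) hg, F.T.ρ_Q hq, one_mul, hgρ, hc]))⟩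
  · have h0' : ω * rr 0 * ω⁻¹ = tor (-(sgl 0)) := by
      rw [h0, ← tor_sgl, tor_add]; rfl
    have hc : ∀ e : E3, ω * tor e * ω⁻¹ = tor (-e.1, e.2.2, e.2.1) :=
      conj_tor (f := ![-(sgl 0), sgl 2, sgl 1])
        (fun i => by
          fin_cases i
          exacts [h0', h1.trans (tor_sgl 2).symm, h2.trans (tor_sgl 1).symm])
        (fun e => (-e.1, e.2.2, e.2.1)) rfl (by decide +kernel)
    obtain ⟨g, hg, hgρ⟩ := F.T.ρ_surj ω hω
    obtain ⟨q, hq, hn⟩ := D.exists_nm hg fun e => ⟨_, by rw [hgρ]; exact hc e⟩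
    exact ⟨q * g, hn, fun e => Or.inr (Nm.conj_el D hn (by
      rw [F.T.ρ_mul _ _ (F.T.Qz hq) hg, F.T.ρ_Q hq, one_mul, hgρ, hc]))⟩

/-- The sign change of the first two planes squares to `z`. -/
theorem exists_a : ∃ a, D.Nm a ∧ a * a = F.z ∧ F.T.ρ a = refl qm (uu 0) * refl qm (uu 1) ∧
    ∀ e, a * D.el e * a⁻¹ = D.el (-e.1, -e.2.1, e.2.2) := by
  obtain ⟨b, hb, hbθ⟩ := F.θ_surj W0
  have hbz : b * F.z = F.z * b := (mem_A.mp hb).2
  have hbρ : F.T.ρ b = refl qm (uu 0) * refl qm (uu 1) := by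
    refine eq_of_maps (f := fun x => x + cp x • io W0 + (cp x * qU W0 + bU (pu x) W0) • v0)
      (k := fun x => rv (uu 0) (rv (uu 1) x)) (fun x => by rw [F.ap_B hb, hbθ])
      (refl_pair_ap (qv_uu _) (qv_uu _)) (by decide +kernel)
  set ω := refl qm (uu 0) * refl qm (uu 1) with hω
  have hc : ∀ e : E3, ω * tor e * ω⁻¹ = tor (-e.1, -e.2.1, e.2.2) := by
    refine conj_tor (f := ![-(sgl 0), -(sgl 1), sgl 2]) (fun i => ?_)
      (fun e => (-e.1, -e.2.1, e.2.2)) rfl (by decide +kernel)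
    rw [hω, sign_conj 0 1 (by decide), ← tor_sgl, tor_add]
    fin_cases i <;> rfl
  obtain ⟨q, hq, hn⟩ := D.exists_nm hbz fun e => ⟨_, by rw [hbρ]; exact hc e⟩
  set a := q * b with ha
  have haρ : F.T.ρ a = ω := by rw [ha, F.T.ρ_mul _ _ (F.T.Qz hq) hbz, F.T.ρ_Q hq, one_mul, hbρ]
  have hel : ∀ e, a * D.el e * a⁻¹ = D.el (-e.1, -e.2.1, e.2.2) := fun e =>
    Nm.conj_el D hn (by rw [haρ, hc])
  refine ⟨a, hn, ?_, haρ, hel⟩
  have hnn := Nm.mul D hn hn
  have hρ2 : F.T.ρ (a * a) = 1 := by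
    rw [F.T.ρ_mul _ _ hn.1 hn.1, haρ, hω]
    calc refl qm (uu 0) * refl qm (uu 1) * (refl qm (uu 0) * refl qm (uu 1))
        = refl qm (uu 0) * (refl qm (uu 1) * refl qm (uu 0)) * refl qm (uu 1) := by group
      _ = refl qm (uu 0) * (refl qm (uu 0) * refl qm (uu 1)) * refl qm (uu 1) := by rw [sign_comm 1 0]
      _ = (refl qm (uu 0) * refl qm (uu 0)) * (refl qm (uu 1) * refl qm (uu 1)) := by group
      _ = 1 := by simp
  obtain ⟨e, he, t, ht, hnt⟩ := D.cent hnn.1 (fun s hs => by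
    obtain ⟨e, rfl⟩ := D.exists_el hs
    exact mul_inv_eq_iff_eq_mul.mp (Nm.conj_el D hnn (by rw [hρ2]; group)))
  have heQ : e ∈ F.Q := by
    rcases he with rfl | rfl
    exacts [one_mem _, F.T.data.z_mem]
  have ht1 : t = 1 := D.inj t ht (by
    rw [hnt, F.T.ρ_mul _ _ (F.T.Qz heQ) (D.mem_z ht), F.T.ρ_Q heQ, one_mul] at hρ2
    exact hρ2)
  rw [ht1, mul_one] at hnt
  have hce : F.T.c (a * a) = 0 := by
    rw [hnt]
    rcases he with rfl | rfl
    exacts [F.T.c_one, F.T.c_z]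
  -- the coordinates of the correction
  have hqb : b * q * b⁻¹ ∈ F.Q := F.T.data.norm b hbz q hq
  have hbb : b * b = F.v := by rw [F.sq_B hb, hbθ, qU_W0, pw_one]
  have h1 : F.T.c q + Av (F.T.c q) + v0 = 0 := by
    have hv : F.T.c F.v = v0 := F.cv
    rw [← hce, ha, show q * b * (q * b) = q * (b * q * b⁻¹) * (b * b) by group, hbb,
      F.T.c_mul _ (mul_mem hq hqb) _ F.hv, F.T.c_mul _ hq _ hqb, F.T.ρ_conj b hbz q hq, hbρ,
      refl_pair_ap (qv_uu _) (qv_uu _), hv, Av]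
  have h2 : ∀ w : V6, w = uu 2 ∨ w = bb 2 → bv (F.T.c q) (Rv 2 w) = bv (F.T.c q) w := by
    intro w hw
    have hfact : ∀ w, (w = uu 2 ∨ w = bb 2) → cp w = 0 ∧ bU (pu w) W0 = 0 ∧ cp (Rv 2 w) = 0 ∧
        bU (pu (Rv 2 w)) W0 = 0 := by
      rintro w (rfl | rfl) <;> decide +kernel
    obtain ⟨k1, k2, k3, k4⟩ := hfact w hw
    obtain ⟨x, hx, hxc⟩ := F.T.c_surj w
    set t := D.el (sgl 2) with htdef
    have htz := D.mem_z (D.el_mem (sgl 2))
    have hta : a * t = t * a := by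
      refine mul_inv_eq_iff_eq_mul.mp ?_
      rw [htdef, hel]; rfl
    set x' := t * x * t⁻¹ with hx'
    have hx'Q : x' ∈ F.Q := F.T.data.norm t htz x hx
    have hx'c : F.T.c x' = Rv 2 w := by rw [hx', F.T.ρ_conj t htz x hx, el_ρ, tor_sgl, rr_ap, hxc]
    have hact : ∀ y ∈ F.Q, cp (F.T.c y) = 0 → bU (pu (F.T.c y)) W0 = 0 →
        a * y * a⁻¹ = pw F.z (bv (F.T.c q) (F.T.c y)) * y := by
      intro y hy hy1 hy2
      have hyA : y ∈ A F.Q F.v := F.mem_A_iff.2 ⟨hy, hy1⟩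
      have hby : ⁅b, y⁆ = 1 := by
        rw [F.comm_ba hyA hb, hbθ, show F.κ y = pu (F.T.c y) from rfl, hy2, pw_zero, pw_zero, mul_one]
      have hby' : b * y * b⁻¹ = y :=
        mul_inv_eq_iff_eq_mul.mpr (commutatorElement_eq_one_iff_mul_comm.1 hby)
      rw [ha, show q * b * y * (q * b)⁻¹ = q * (b * y * b⁻¹) * q⁻¹ by group, hby', ← polar_bv,
        ← F.T.comm_Q hq hy, commutatorElement_def]
      group
    have e1 := hact x hx (by rw [hxc, k1]) (by rw [hxc, k2])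
    have e2 := hact x' hx'Q (by rw [hx'c, k3]) (by rw [hx'c, k4])
    rw [hxc] at e1
    rw [hx'c] at e2
    have e3 : a * x' * a⁻¹ = pw F.z (bv (F.T.c q) w) * x' := by
      rw [hx', show a * (t * x * t⁻¹) * a⁻¹ = (a * t) * x * (a * t)⁻¹ by group, hta,
        show t * a * x * (t * a)⁻¹ = t * (a * x * a⁻¹) * t⁻¹ by group, e1, ← mul_assoc t,
        pw_comm t htz, mul_assoc (pw F.z _) t, mul_assoc]
    exact pw_inj F.z_ne (mul_right_cancel (e2.symm.trans e3))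
  have key : ∀ n : Fin 64, vn n + Av (vn n) + v0 = 0 → bv (vn n) (Rv 2 (uu 2)) = bv (vn n) (uu 2) →
      bv (vn n) (Rv 2 (bb 2)) = bv (vn n) (bb 2) →
      cp (vn n) = 0 ∧ qU (pu (vn n)) + bU (pu (vn n)) W0 = 1 ∧ bU (pu (vn n)) W0 = 1 := by
    decide +kernel
  obtain ⟨m, hm⟩ := vn_surj (F.T.c q)
  rw [← hm] at h1
  have h2u := h2 (uu 2) (Or.inl rfl)
  have h2b := h2 (bb 2) (Or.inr rfl)
  rw [← hm] at h2u h2b
  obtain ⟨c1, c2, c3⟩ := key m h1 h2u h2b
  rw [hm] at c1 c2 c3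
  rw [ha, F.sq_AB (F.mem_A_iff.2 ⟨hq, c1⟩) hb, hbθ, show F.κ q = pu (F.T.c q) from rfl, c2, qU_W0,
    c3, ZModModule.add_self, pw_zero, pw_one, mul_one]

end Tor

end Cfsg.Agent.SuzType
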