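/-
The centraliser of the torus of order 27 in a group of Suzuki type (helper1).

* `Loc` : torus with sign change, cyclic permutation and exchange of the planes
* `A` : the elements of odd order of `C(T)`, a normal subgroup of index two
* `card_A`, `A_comm`, `A_cube` : `A` is elementary abelian of order 243
-/
import Cfsg.Agent.Lib.SuzType.Torus
import Cfsg.Agent.Lib.SuzType.Five
import Mathlib.GroupTheory.Transfer
import Mathlib.GroupTheory.FixedPointFree

set_option autoImplicit false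
open scoped commutatorElement

namespace Cfsg.Agent.SuzType

open Cfsg.Agent.Orth Cfsg.Agent.LargeExtraspecial Cfsg.Agent.LargeExtraspecial.Cfg

set_option synthInstance.maxSize 1024

theorem z3_sq : ∀ s : ZMod 3, s * s + 1 ≠ 0 := by decide

theorem e3_fix : ∀ e : E3, ((-e.1, -e.2.1, e.2.2) = e → e.1 = 0 ∧ e.2.1 = 0) ∧
    ((e.2.2, e.1, e.2.1) = e → e.1 = e.2.1 ∧ e.2.1 = e.2.2) := by decide +kernel

variable {G : Type*} [Group G]

/-- The torus with its monomial elements. -/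
structure Loc (F : Fr G) where
  D : Tor F
  a : G
  y : G
  s : G
  ha : D.Nm a
  ha2 : a * a = F.z
  haρ : F.T.ρ a = refl qm (uu 0) * refl qm (uu 1)
  ha_el : ∀ e, a * D.el e * a⁻¹ = D.el (-e.1, -e.2.1, e.2.2)
  hy : D.Nm y
  hy3 : y ^ 3 = 1
  hyρ : ∀ i : Fin 3, ap (F.T.ρ y) (uu i) = uu (i + 1) ∧ ap (F.T.ρ y) (bb i) = bb (i + 1)
  hy_el : ∀ e, y * D.el e * y⁻¹ = D.el (e.2.2, e.1, e.2.1)
  hs : D.Nm s
  hs_el : ∀ e, s * D.el e * s⁻¹ = D.el (e.1, e.2.2, e.2.1) ∨ s * D.el e * s⁻¹ = D.el (-e.1, e.2.2, e.2.1)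

theorem Fr.exists_loc [Finite G] (F : Fr G) {x : G} (hx : x ∈ F.T.torPre) (h3 : x ^ 3 = 1) :
    ∃ L : Loc F, x ∈ L.D.T := by
  obtain ⟨D, hxD⟩ := F.exists_tor hx h3
  obtain ⟨a, h1, h2, h3, h4⟩ := D.exists_a
  obtain ⟨y, k1, k2, k3, k4⟩ := D.exists_y
  obtain ⟨s, l1, l2⟩ := D.exists_s
  exact ⟨⟨D, a, y, s, h1, h2, h3, h4, k1, k2, k3, k4, l1, l2⟩, hxD⟩

namespace Loc

variable {F : Fr G} (L : Loc F)

/-- The centraliser of the torus. -/
def CT : Subgroup G := Subgroup.centralizer (L.D.T : Set G)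

theorem mem_CT {g : G} : g ∈ L.CT ↔ ∀ t ∈ L.D.T, g * t = t * g := by
  rw [CT, Subgroup.mem_centralizer_iff]
  exact forall₂_congr fun t _ => eq_comm

theorem z_mem_CT : F.z ∈ L.CT := L.mem_CT.2 fun _ ht => (L.D.mem_z ht).symm

theorem T_le_CT : L.D.T ≤ L.CT := fun _ ht => L.mem_CT.2 fun _ hs => L.D.T_comm ht hs

theorem cent_z {g : G} (hg : g ∈ L.CT) (hz : g * F.z = F.z * g) :
    ∃ t ∈ L.D.T, g = t ∨ g = F.z * t := by
  obtain ⟨e, he, t, ht, rfl⟩ := L.D.cent hz (L.mem_CT.1 hg)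
  rcases he with rfl | rfl
  exacts [⟨t, ht, Or.inl (one_mul t)⟩, ⟨t, ht, Or.inr rfl⟩]

theorem z_inv : F.z⁻¹ = F.z := inv_eq_of_mul_eq_one_right F.z_sq

theorem zconj_zconj (p : G) : F.z * (F.z * p * F.z⁻¹) * F.z⁻¹ = p := by
  rw [z_inv, show F.z * (F.z * p * F.z) * F.z = (F.z * F.z) * p * (F.z * F.z) by group, F.z_sq,
    one_mul, mul_one]

theorem commute_z {g : G} (h : g * F.z = F.z * g) : Commute g F.z := h

/-- Conjugation by `y` of the sign change. -/
def a' : G := L.y * L.a * L.y⁻¹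

theorem a'_nm [Finite G] : L.D.Nm L.a' := by
  have hyi : L.y⁻¹ = L.y * L.y :=
    inv_eq_of_mul_eq_one_right (by rw [← L.hy3, pow_succ, pow_two, mul_assoc])
  rw [a', hyi]
  exact Tor.Nm.mul L.D (Tor.Nm.mul L.D L.hy L.ha) (Tor.Nm.mul L.D L.hy L.hy)

variable [Finite G]

theorem yi_el (e : E3) : L.y⁻¹ * L.D.el e * L.y = L.D.el (e.2.1, e.2.2, e.1) := by
  have h := L.hy_el (e.2.1, e.2.2, e.1)
  simp only [Prod.mk.eta] at h
  rw [← h]; group

theorem a'_el (e : E3) : L.a' * L.D.el e * L.a'⁻¹ = L.D.el (e.1, -e.2.1, -e.2.2) := by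
  rw [a', show L.y * L.a * L.y⁻¹ * L.D.el e * (L.y * L.a * L.y⁻¹)⁻¹ =
    L.y * (L.a * (L.y⁻¹ * L.D.el e * L.y) * L.a⁻¹) * L.y⁻¹ by group, L.yi_el, L.ha_el, L.hy_el]

theorem a'_sq : L.a' * L.a' = F.z := by
  rw [a', show L.y * L.a * L.y⁻¹ * (L.y * L.a * L.y⁻¹) = L.y * (L.a * L.a) * L.y⁻¹ by group, L.ha2,
    L.hy.1]
  group

theorem a'_ρ : F.T.ρ L.a' = refl qm (uu 1) * refl qm (uu 2) := by
  rw [a', F.T.ρ_conj' L.hy.1 L.ha.1, L.haρ,
    show F.T.ρ L.y * (refl qm (uu 0) * refl qm (uu 1)) * (F.T.ρ L.y)⁻¹ =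
      (F.T.ρ L.y * refl qm (uu 0) * (F.T.ρ L.y)⁻¹) * (F.T.ρ L.y * refl qm (uu 1) * (F.T.ρ L.y)⁻¹) by
      group, conj_refl, conj_refl, (L.hyρ 0).1, (L.hyρ 1).1]
  rfl

theorem aa'_sq : L.a * L.a' * (L.a * L.a') = F.z := by
  set a'' := L.y * L.a' * L.y⁻¹ with ha''
  have hsq : a'' * a'' = F.z := by
    rw [ha'', show L.y * L.a' * L.y⁻¹ * (L.y * L.a' * L.y⁻¹) = L.y * (L.a' * L.a') * L.y⁻¹ by group,
      L.a'_sq, L.hy.1]
    group
  have hz'' : a'' * F.z = F.z * a'' := F.T.conj_z L.hy.1 L.a'_nm.1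
  have hzaa : L.a * L.a' * F.z = F.z * (L.a * L.a') := (Tor.Nm.mul L.D L.ha L.a'_nm).1
  have hel : ∀ e, L.a * L.a' * L.D.el e * (L.a * L.a')⁻¹ = a'' * L.D.el e * a''⁻¹ := by
    intro e
    rw [show L.a * L.a' * L.D.el e * (L.a * L.a')⁻¹ =
      L.a * (L.a' * L.D.el e * L.a'⁻¹) * L.a⁻¹ by group, L.a'_el, L.ha_el, ha'',
      show L.y * L.a' * L.y⁻¹ * L.D.el e * (L.y * L.a' * L.y⁻¹)⁻¹ =
      L.y * (L.a' * (L.y⁻¹ * L.D.el e * L.y) * L.a'⁻¹) * L.y⁻¹ by group, L.yi_el, L.a'_el, L.hy_el]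
    simp
  have hρ'' : F.T.ρ a'' = refl qm (uu 2) * refl qm (uu 0) := by
    rw [ha'', F.T.ρ_conj' L.hy.1 L.a'_nm.1, L.a'_ρ,
      show F.T.ρ L.y * (refl qm (uu 1) * refl qm (uu 2)) * (F.T.ρ L.y)⁻¹ =
        (F.T.ρ L.y * refl qm (uu 1) * (F.T.ρ L.y)⁻¹) * (F.T.ρ L.y * refl qm (uu 2) * (F.T.ρ L.y)⁻¹) by
        group, conj_refl, conj_refl, (L.hyρ 1).1, (L.hyρ 2).1]
    rfl
  set w := a''⁻¹ * (L.a * L.a') with hw
  have hwz : w * F.z = F.z * w :=
    ((commute_z hz'').inv_left.mul_left (commute_z hzaa)).eq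
  obtain ⟨e, he, t, ht, hwe⟩ := L.D.cent hwz (fun t ht => by
    obtain ⟨e, rfl⟩ := L.D.exists_el ht
    refine mul_inv_eq_iff_eq_mul.mp ?_
    rw [hw, show a''⁻¹ * (L.a * L.a') * L.D.el e * (a''⁻¹ * (L.a * L.a'))⁻¹ =
      a''⁻¹ * (L.a * L.a' * L.D.el e * (L.a * L.a')⁻¹) * a'' by group, hel]
    group)
  have heQ : e ∈ F.Q := by
    rcases he with rfl | rfl
    exacts [one_mem _, F.T.data.z_mem]
  have ht1 : t = 1 := L.D.inj t ht (by
    have h : F.T.ρ w = 1 := by
      have hz' : a''⁻¹ * F.z = F.z * a''⁻¹ := (commute_z hz'').inv_left.eq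
      rw [hw, F.T.ρ_mul _ _ hz' hzaa, F.T.ρ_inv hz'', hρ'', F.T.ρ_mul _ _ L.ha.1 L.a'_nm.1, L.haρ,
        L.a'_ρ, show refl qm (uu 0) * refl qm (uu 1) * (refl qm (uu 1) * refl qm (uu 2)) =
          refl qm (uu 0) * (refl qm (uu 1) * refl qm (uu 1)) * refl qm (uu 2) by group, refl_mul_self,
        mul_one, sign_comm 0 2, inv_mul_cancel]
    rwa [hwe, F.T.ρ_mul _ _ (F.T.Qz heQ) (L.D.mem_z ht), F.T.ρ_Q heQ, one_mul] at h)
  rw [ht1, mul_one] at hwe
  have haa : L.a * L.a' = a'' * e := by rw [← hwe, hw, mul_inv_cancel_left]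
  have hec : e * a'' = a'' * e ∧ e * e = 1 := by
    rcases he with rfl | rfl
    exacts [⟨by simp, by simp⟩, ⟨hz''.symm, F.z_sq⟩]
  rw [haa, show a'' * e * (a'' * e) = a'' * (e * a'') * e by group, hec.1,
    show a'' * (a'' * e) * e = a'' * a'' * (e * e) by group, hsq, hec.2, mul_one]

theorem z_comm : L.a * L.a' * L.a⁻¹ * L.a'⁻¹ = F.z := by
  have h1 : L.a⁻¹ = L.a * F.z := inv_eq_of_mul_eq_one_right (by rw [← mul_assoc, L.ha2, F.z_sq])
  have h2 : L.a'⁻¹ = L.a' * F.z := inv_eq_of_mul_eq_one_right (by rw [← mul_assoc, L.a'_sq, F.z_sq])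
  rw [h1, h2, show L.a * L.a' * (L.a * F.z) * (L.a' * F.z) = L.a * L.a' * L.a * (F.z * L.a') * F.z by
    group, ← L.a'_nm.1, show L.a * L.a' * L.a * (L.a' * F.z) * F.z =
      L.a * L.a' * (L.a * L.a') * (F.z * F.z) by group, L.aa'_sq, F.z_sq, mul_one]

theorem exists_core : ∃ K : Subgroup G, K ≤ L.CT ∧ (∀ g ∈ L.CT, g ∈ K ↔ Odd (orderOf g)) ∧
    Odd (Nat.card K) ∧ Nat.card L.CT = 2 * Nat.card K := by
  classical
  haveI : Fact (Nat.Prime 2) := ⟨Nat.prime_two⟩
  set zc : L.CT := ⟨F.z, L.z_mem_CT⟩ with hzc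
  have hzc2 : orderOf zc = 2 := orderOf_eq_prime (Subtype.ext (by
    show F.z ^ 2 = 1
    rw [sq, F.z_sq])) fun e => F.z_ne (congrArg Subtype.val e)
  obtain ⟨P, hP⟩ := (IsPGroup.of_card (p := 2) (n := 1) (G := Subgroup.zpowers zc)
    (by rw [Nat.card_zpowers, hzc2, pow_one])).exists_le_sylow
  have hzP : zc ∈ (P : Subgroup L.CT) := hP (Subgroup.mem_zpowers _)
  have hsmall : ∀ g ∈ (P : Subgroup L.CT), g * zc = zc * g → g ∈ Subgroup.zpowers zc := by
    intro g hg hgz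
    obtain ⟨t, ht, e⟩ := L.cent_z g.2 (congrArg Subtype.val hgz)
    have h3 : t ^ 3 = 1 := L.D.T_cube ht
    obtain ⟨k, hk⟩ := P.2 ⟨g, hg⟩
    have hgk : (g : G) ^ 2 ^ k = 1 := congrArg (fun x : (P : Subgroup L.CT) => ((x : L.CT) : G)) hk
    have d3 : orderOf t ∣ 3 := orderOf_dvd_of_pow_eq_one h3
    have ht1 : t = 1 := by
      have htk : t ^ 2 ^ (k + 1) = 1 := by
        rcases e with e | e
        · rw [← e, pow_succ, pow_mul, hgk, one_pow]
        · have hc : Commute F.z t := (L.D.mem_z ht).symm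
          have : (g : G) ^ 2 ^ (k + 1) = t ^ 2 ^ (k + 1) := by
            rw [e, hc.mul_pow, show F.z ^ 2 ^ (k + 1) = 1 by
              rw [pow_succ', pow_mul, sq, F.z_sq, one_pow], one_mul]
          rw [← this, pow_succ, pow_mul, hgk, one_pow]
      have hco : Nat.Coprime 3 (2 ^ (k + 1)) := Nat.Coprime.pow_right _ (by norm_num)
      exact orderOf_eq_one_iff.1 (Nat.eq_one_of_dvd_one
        (hco ▸ Nat.dvd_gcd d3 (orderOf_dvd_of_pow_eq_one htk)))
    rcases e with e | e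
    · rw [show g = 1 from Subtype.ext (e.trans ht1)]; exact one_mem _
    · rw [show g = zc from Subtype.ext (by rw [e, ht1, mul_one])]; exact Subgroup.mem_zpowers _
  have hPz : (P : Subgroup L.CT) = Subgroup.zpowers zc := by
    refine (eq_of_le_of_not_lt hP fun hlt => ?_).symm
    haveI := P.2.isNilpotent
    set Z' := (Subgroup.zpowers zc).subgroupOf (P : Subgroup L.CT)
    have hZ : Z' < ⊤ := lt_top_iff_ne_top.2 fun h => hlt.not_ge (Subgroup.subgroupOf_eq_top.1 h)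
    obtain ⟨g, hgN, hgZ⟩ := SetLike.exists_of_lt (normalizerCondition_of_isNilpotent Z' hZ)
    refine hgZ (hsmall _ g.2 ?_)
    have h1 : g * (⟨zc, hzP⟩ : (P : Subgroup L.CT)) * g⁻¹ ∈ Z' :=
      (Subgroup.mem_normalizer_iff.1 hgN _).1 (Subgroup.mem_zpowers zc)
    have h2 : (g : L.CT) * zc * (g : L.CT)⁻¹ ∈ Subgroup.zpowers zc := h1
    rcases mem_zpowers_two (show zc * zc = 1 from Subtype.ext F.z_sq) h2 with h | h
    · exfalso
      have h' := congrArg Subtype.val (conj_eq_one_iff.1 h : zc = 1)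
      exact F.z_ne h'
    · exact mul_inv_eq_iff_eq_mul.1 h
  have hNP : Subgroup.normalizer ((P : Subgroup L.CT) : Set L.CT) ≤
      Subgroup.centralizer ((P : Subgroup L.CT) : Set L.CT) := by
    intro g hg
    rw [Subgroup.mem_centralizer_iff]
    intro x hx
    rw [hPz] at hg hx
    have h2 := (Subgroup.mem_normalizer_iff.1 hg zc).1 (Subgroup.mem_zpowers _)
    have hgz : g * zc * g⁻¹ = zc := by
      rcases mem_zpowers_two (show zc * zc = 1 from Subtype.ext F.z_sq) h2 with h | h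
      · exact absurd (congrArg Subtype.val (conj_eq_one_iff.1 h : zc = 1)) F.z_ne
      · exact h
    obtain ⟨n, rfl⟩ := Subgroup.mem_zpowers_iff.1 hx
    exact (Commute.zpow_left (mul_inv_eq_iff_eq_mul.1 hgz).symm n).eq
  have hcompl := MonoidHom.ker_transferSylow_isComplement' P hNP
  set K0 := (MonoidHom.transferSylow P hNP).ker
  have hc2 : Nat.card (P : Subgroup L.CT) = 2 := by rw [hPz, Nat.card_zpowers, hzc2]
  have hcard : Nat.card L.CT = 2 * Nat.card K0 := by rw [← hcompl.card_mul, hc2, mul_comm]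
  have hidx : K0.index = 2 := by rw [hcompl.symm.index_eq_card, hc2]
  have hodd : Odd (Nat.card K0) := by
    have h := P.not_dvd_index
    have hP' : (P : Subgroup L.CT).index = Nat.card K0 := by
      have h' := (P : Subgroup L.CT).card_mul_index
      rw [hc2, hcard] at h'
      omega
    rw [hP'] at h
    exact Nat.not_even_iff_odd.1 fun he => h (even_iff_two_dvd.1 he)
  refine ⟨K0.map L.CT.subtype, Subgroup.map_subtype_le _, fun g hg => ⟨?_, fun ho => ?_⟩, ?_, ?_⟩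
  · rintro ⟨k, hk, rfl⟩
    show Odd (orderOf (k : G))
    rw [Subgroup.orderOf_coe]
    exact hodd.of_dvd_nat (Subgroup.orderOf_dvd_natCard _ hk)
  · obtain ⟨j, hj⟩ := ho
    refine ⟨⟨g, hg⟩, ?_, rfl⟩
    have h2 := Subgroup.sq_mem_of_index_two hidx (⟨g, hg⟩ : L.CT)
    have e : (⟨g, hg⟩ : L.CT) = ((⟨g, hg⟩ : L.CT) ^ 2) ^ (j + 1) := Subtype.ext (by
      show g = (g ^ 2) ^ (j + 1)
      rw [← pow_mul, show 2 * (j + 1) = orderOf g + 1 by omega, pow_succ, pow_orderOf_eq_one, one_mul])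
    rw [e]; exact pow_mem h2 _
  · rw [Subgroup.card_map_of_injective L.CT.subtype_injective]; exact hodd
  · rw [Subgroup.card_map_of_injective L.CT.subtype_injective]; exact hcard

/-- The elements of odd order of the centraliser of the torus. -/
noncomputable def A : Subgroup G := L.exists_core.choose

theorem A_le : L.A ≤ L.CT := L.exists_core.choose_spec.1

theorem mem_A' {g : G} (hg : g ∈ L.CT) : g ∈ L.A ↔ Odd (orderOf g) :=
  L.exists_core.choose_spec.2.1 g hg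

theorem odd_A : Odd (Nat.card L.A) := L.exists_core.choose_spec.2.2.1

theorem card_CT : Nat.card L.CT = 2 * Nat.card L.A := L.exists_core.choose_spec.2.2.2

theorem T_le_A : L.D.T ≤ L.A := fun t ht => (L.mem_A' (L.T_le_CT ht)).2 (by
  exact (show Odd 3 by decide).of_dvd_nat (orderOf_dvd_of_pow_eq_one (L.D.T_cube ht)))

theorem A_T {p t : G} (hp : p ∈ L.A) (ht : t ∈ L.D.T) : p * t = t * p := L.mem_CT.1 (L.A_le hp) t ht

theorem z_not_A : F.z ∉ L.A := fun h => by
  have ho := (L.mem_A' L.z_mem_CT).1 h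
  rw [Involution.orderOf_of_sq F.z_sq F.z_ne] at ho
  exact absurd ho (by decide)

theorem fix_T {p : G} (hp : p ∈ L.A) (hz : p * F.z = F.z * p) : p ∈ L.D.T := by
  obtain ⟨t, ht, e | e⟩ := L.cent_z (L.A_le hp) hz
  · rwa [e]
  · exfalso
    refine L.z_not_A ?_
    have := mul_mem hp (inv_mem (L.T_le_A ht))
    rwa [e, mul_inv_cancel_right] at this

theorem CT_conj {n : G} (hn : n ∈ Subgroup.normalizer (L.D.T : Set G)) {g : G} (hg : g ∈ L.CT) :
    n * g * n⁻¹ ∈ L.CT := L.mem_CT.2 fun t ht => by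
  have h := L.mem_CT.1 hg _ ((Subgroup.mem_normalizer_iff''.1 hn t).1 ht)
  calc n * g * n⁻¹ * t = n * (g * (n⁻¹ * t * n)) * n⁻¹ := by group
    _ = n * ((n⁻¹ * t * n) * g) * n⁻¹ := by rw [h]
    _ = _ := by group

theorem A_conj {n : G} (hn : n ∈ Subgroup.normalizer (L.D.T : Set G)) {g : G} (hg : g ∈ L.A) :
    n * g * n⁻¹ ∈ L.A := by
  refine (L.mem_A' (L.CT_conj hn (L.A_le hg))).2 ?_
  rw [Involution.orderOf_conj]
  exact (L.mem_A' (L.A_le hg)).1 hg

theorem nm_normalizer {n : G} (hn : L.D.Nm n) : n ∈ Subgroup.normalizer (L.D.T : Set G) :=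
  Subgroup.mem_normalizer_fintype fun t ht => hn.2 t ht

theorem nm_A {n : G} (hn : L.D.Nm n) {g : G} (hg : g ∈ L.A) : n * g * n⁻¹ ∈ L.A :=
  L.A_conj (L.nm_normalizer hn) hg

/-- The torus in `A`. -/
noncomputable def AT : Subgroup L.A := L.D.T.subgroupOf L.A

instance : L.AT.Normal := ⟨fun t ht p => by
  have h : p * t * p⁻¹ = t := Subtype.ext (mul_inv_eq_iff_eq_mul.mpr (L.A_T p.2 ht))
  rwa [h]⟩

/-- The action on `A` modulo the torus. -/
noncomputable def act (n : G) (hn : L.D.Nm n) : L.A ⧸ L.AT →* L.A ⧸ L.AT :=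
  QuotientGroup.map L.AT L.AT
    (MonoidHom.mk' (fun p => (⟨n * p * n⁻¹, L.nm_A hn p.2⟩ : L.A)) fun p q => Subtype.ext (by simp))
    fun _ hp => hn.2 _ hp

theorem act_mk (n : G) (hn : L.D.Nm n) (p : L.A) :
    L.act n hn (QuotientGroup.mk p) = QuotientGroup.mk ⟨n * p * n⁻¹, L.nm_A hn p.2⟩ := rfl

theorem z_inverts (x : L.A ⧸ L.AT) : L.act F.z L.D.z_nm x = x⁻¹ := by
  refine congrFun (MonoidHom.FixedPointFree.coe_eq_inv_of_involutive (fun x hx => ?_) fun x => ?_) x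
  · obtain ⟨p, rfl⟩ := QuotientGroup.mk_surjective x
    rw [L.act_mk, QuotientGroup.eq] at hx
    set t : G := (F.z * p * F.z⁻¹)⁻¹ * p with ht
    have htT : t ∈ L.D.T := hx
    have hfix : F.z * p * F.z⁻¹ = p * t⁻¹ := by rw [ht]; group
    have h2 := zconj_zconj (F := F) (p : G)
    rw [hfix, show F.z * (p * t⁻¹) * F.z⁻¹ = (F.z * p * F.z⁻¹) * (F.z * t⁻¹ * F.z⁻¹) by group, hfix,
      show F.z * t⁻¹ * F.z⁻¹ = t⁻¹ by
        rw [← L.D.mem_z (inv_mem htT)]; group, mul_assoc, mul_eq_left, ← mul_inv_rev, inv_eq_one] at h2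
    have ht3 := L.D.T_cube htT
    rw [pow_succ, pow_two, h2, one_mul] at ht3
    rw [ht3, inv_one, mul_one] at hfix
    exact (QuotientGroup.eq_one_iff p).2 (L.fix_T p.2 (mul_inv_eq_iff_eq_mul.1 hfix).symm)
  · obtain ⟨p, rfl⟩ := QuotientGroup.mk_surjective x
    rw [L.act_mk, L.act_mk]
    exact congrArg QuotientGroup.mk (Subtype.ext (zconj_zconj (F := F) _))

theorem act_mul {m n : G} (hm : L.D.Nm m) (hn : L.D.Nm n) (x : L.A ⧸ L.AT) :
    L.act (m * n) (Tor.Nm.mul L.D hm hn) x = L.act m hm (L.act n hn x) := by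
  obtain ⟨p, rfl⟩ := QuotientGroup.mk_surjective x
  rw [L.act_mk, L.act_mk, L.act_mk]
  refine congrArg QuotientGroup.mk (Subtype.ext ?_)
  show m * n * p * (m * n)⁻¹ = m * (n * p * n⁻¹) * m⁻¹
  group

theorem act_congr {m n : G} (h : m = n) (hm : L.D.Nm m) (hn : L.D.Nm n) : L.act m hm = L.act n hn := by
  subst h; rfl

theorem a_sq_act (x : L.A ⧸ L.AT) : L.act L.a L.ha (L.act L.a L.ha x) = x⁻¹ := by
  rw [← L.act_mul, L.act_congr L.ha2 _ L.D.z_nm, L.z_inverts]

theorem Y_comm (x y : L.A ⧸ L.AT) : x * y = y * x := by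
  have h := L.z_inverts (x * y)
  rw [map_mul, L.z_inverts, L.z_inverts, mul_inv_rev] at h
  simpa [mul_inv_rev] using (congrArg (·⁻¹) h).symm

theorem comm_mem {p q : G} (hp : p ∈ L.A) (hq : q ∈ L.A) : ⁅p, q⁆ ∈ L.D.T := by
  have h : QuotientGroup.mk' L.AT ⁅(⟨p, hp⟩ : L.A), (⟨q, hq⟩ : L.A)⁆ = 1 := by
    rw [map_commutatorElement]
    exact commutatorElement_eq_one_iff_mul_comm.2 (L.Y_comm _ _)
  exact (QuotientGroup.eq_one_iff (N := L.AT) ⁅(⟨p, hp⟩ : L.A), (⟨q, hq⟩ : L.A)⁆).1 h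

theorem z_tw {p : G} (hp : p ∈ L.A) : ∃ t ∈ L.D.T, F.z * p * F.z⁻¹ = p⁻¹ * t := by
  have h := L.z_inverts (QuotientGroup.mk (⟨p, hp⟩ : L.A))
  rw [L.act_mk, ← QuotientGroup.mk_inv, eq_comm, QuotientGroup.eq] at h
  exact ⟨_, h, by
    show F.z * p * F.z⁻¹ = p⁻¹ * (p⁻¹⁻¹ * (F.z * p * F.z⁻¹))
    group⟩

theorem no_line {u : L.A ⧸ L.AT} (h3 : u ^ 3 = 1) (h1 : u ≠ 1) {i : ℤ}
    (h : L.act L.a L.ha u = u ^ i) : False := by
  have h2 := L.a_sq_act u
  rw [h, map_zpow, h, ← zpow_mul] at h2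
  have hd : (orderOf u : ℤ) ∣ i * i + 1 :=
    orderOf_dvd_iff_zpow_eq_one.2 (by rw [zpow_add_one, h2, inv_mul_cancel])
  haveI : Fact (Nat.Prime 3) := ⟨Nat.prime_three⟩
  rw [orderOf_eq_prime h3 h1] at hd
  refine z3_sq (i : ZMod 3) ?_
  have := (ZMod.intCast_zmod_eq_zero_iff_dvd (i * i + 1) 3).2 hd
  push_cast at this
  exact this

theorem card_A_mul : Nat.card L.A = Nat.card (L.A ⧸ L.AT) * 27 := by
  rw [Subgroup.card_eq_card_quotient_mul_card_subgroup L.AT,
    show Nat.card L.AT = 27 from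
      (Nat.card_congr (Subgroup.subgroupOfEquivOfLe L.T_le_A).toEquiv).trans L.D.card]

end Loc

end Cfsg.Agent.SuzType

namespace Cfsg.Agent.SuzType

open Cfsg.Agent.Orth

variable {G : Type*} [Group G] [Finite G]

namespace Loc

variable {W : Fu G} (L : Loc W.F)

include W in
theorem dvd_card {H : Subgroup G} : Nat.card H ∣ 448345497600 := W.card_G ▸ H.card_subgroup_dvd_card

/-- No element of prime order other than 3 lies in `A`. -/
theorem prime_A {p : ℕ} (hp : p.Prime) (hd : p ∣ Nat.card L.A) : p = 3 := by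
  classical
  by_contra hp3
  haveI := Fact.mk hp
  have hp2 : p ≠ 2 := fun h => by
    subst h
    exact (Nat.not_even_iff_odd.2 L.odd_A) (even_iff_two_dvd.2 hd)
  have hcases : p = 5 ∨ p = 7 ∨ p = 11 ∨ p = 13 := by
    have h := hd.trans (dvd_card (W := W))
    have e : (448345497600 : ℕ) = 2 ^ 13 * (3 ^ 7 * (5 ^ 2 * (7 * (11 * 13)))) := by norm_num
    rw [e] at h
    have hc : ∀ q k : ℕ, q.Prime → p ≠ q → Nat.Coprime p (q ^ k) := fun q k hq hne =>
      Nat.Coprime.pow_right _ ((Nat.coprime_primes hp hq).2 hne)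
    replace h := (hc 2 13 Nat.prime_two hp2).dvd_of_dvd_mul_left h
    replace h := (hc 3 7 Nat.prime_three hp3).dvd_of_dvd_mul_left h
    by_contra! hne
    obtain ⟨h5, h7, h11, h13⟩ := hne
    replace h := (hc 5 2 (by norm_num) h5).dvd_of_dvd_mul_left h
    rcases hp.dvd_mul.1 h with h | h
    · exact h7 ((Nat.prime_dvd_prime_iff_eq hp (by norm_num)).1 h)
    rcases hp.dvd_mul.1 h with h | h
    · exact h11 ((Nat.prime_dvd_prime_iff_eq hp (by norm_num)).1 h)
    · exact h13 ((Nat.prime_dvd_prime_iff_eq hp (by norm_num)).1 h)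
  have hp3' : ∀ {c : G}, c ^ p = 1 → c ^ 3 = 1 → c = 1 := fun {c} h1 h2 =>
    orderOf_eq_one_iff.1 (Nat.eq_one_of_dvd_one (by
      have h := Nat.dvd_gcd (orderOf_dvd_of_pow_eq_one h1) (orderOf_dvd_of_pow_eq_one h2)
      rwa [(Nat.coprime_primes hp Nat.prime_three).2 hp3] at h))
  have habel : ∀ r ∈ L.A, r ^ p = 1 → ∀ r' ∈ L.A, r' ^ p = 1 → r * r' = r' * r := by
    intro r hr hrp r' hr' _
    have hc := L.comm_mem hr hr'
    set c := ⁅r, r'⁆ with hcdef
    have e : r * r' * r⁻¹ = c * r' := by rw [hcdef, commutatorElement_def]; group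
    have hrc : r * c = c * r := L.A_T hr hc
    have hn : ∀ n : ℕ, r ^ n * r' * (r ^ n)⁻¹ = c ^ n * r' := by
      intro n
      induction n with
      | zero => simp
      | succ n ih =>
        calc r ^ (n + 1) * r' * (r ^ (n + 1))⁻¹ = r * (r ^ n * r' * (r ^ n)⁻¹) * r⁻¹ := by group
          _ = r * c ^ n * r' * r⁻¹ := by rw [ih]; group
          _ = c ^ n * (r * r' * r⁻¹) := by rw [(Commute.pow_right hrc n).eq]; group
          _ = c ^ (n + 1) * r' := by rw [e, pow_succ, mul_assoc]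
    have h := hn p
    rw [hrp] at h
    simp only [inv_one, mul_one, one_mul, right_eq_mul] at h
    have h1 := hp3' h (L.D.T_cube hc)
    exact commutatorElement_eq_one_iff_mul_comm.1 h1
  let R : Subgroup G :=
    { carrier := {r | r ∈ L.A ∧ r ^ p = 1}
      one_mem' := ⟨one_mem _, one_pow _⟩
      mul_mem' := fun {r r'} h h' => ⟨mul_mem h.1 h'.1, by
        rw [(show Commute r r' from habel r h.1 h.2 r' h'.1 h'.2).mul_pow, h.2, h'.2, one_mul]⟩
      inv_mem' := fun {r} h => ⟨inv_mem h.1, by rw [inv_pow, h.2, inv_one]⟩ }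
  have hinv : ∀ r ∈ R, W.F.z * r * W.F.z⁻¹ = r⁻¹ := by
    intro r hr
    obtain ⟨t, ht, e⟩ := L.z_tw hr.1
    have h := congrArg (· ^ p) e
    simp only [conj_pow, hr.2] at h
    rw [(show Commute r⁻¹ t from Commute.inv_left (L.A_T hr.1 ht)).mul_pow, inv_pow, hr.2, inv_one,
      one_mul, mul_one, mul_inv_cancel] at h
    rw [e, hp3' h.symm (L.D.T_cube ht), mul_one]
  have hRp : IsPGroup p R := fun r => ⟨1, Subtype.ext (by rw [pow_one]; exact r.2.2)⟩
  obtain ⟨k, hk⟩ := IsPGroup.iff_card.1 hRp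
  obtain ⟨r, hr⟩ := exists_prime_orderOf_dvd_card' (G := L.A) p hd
  have hrR : (r : G) ∈ R := ⟨r.2, by rw [← hr, ← Subgroup.orderOf_coe, pow_orderOf_eq_one]⟩
  have hr1 : (r : G) ≠ 1 := fun e => by
    rw [orderOf_eq_one_iff.2 (Subtype.ext e)] at hr
    exact hp.ne_one hr.symm
  have hk0 : k ≠ 0 := fun h => hr1 (by
    rw [h, pow_zero] at hk
    have := (Subgroup.card_eq_one.1 hk).le hrR
    rwa [Subgroup.mem_bot] at this)
  have hk2 : k = 1 ∨ (p = 5 ∧ k = 2) := by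
    have h : p ^ k ∣ 448345497600 := hk ▸ dvd_card (W := W)
    have key : ∀ j : ℕ, p ^ j ∣ 448345497600 → j ≤ k → j ≤ k := fun j _ h => h
    rcases hcases with rfl | rfl | rfl | rfl
    · have : k ≤ 2 := by
        by_contra h'
        have := (pow_dvd_pow 5 (show 3 ≤ k by omega)).trans h
        norm_num at this
      omega
    all_goals
      have : k ≤ 1 := by
        by_contra h'
        first
          | (have := (pow_dvd_pow 7 (show 2 ≤ k by omega)).trans h; norm_num at this; done)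
          | (have := (pow_dvd_pow 11 (show 2 ≤ k by omega)).trans h; norm_num at this; done)
          | (have := (pow_dvd_pow 13 (show 2 ≤ k by omega)).trans h; norm_num at this; done)
      omega
  rcases hk2 with rfl | ⟨rfl, rfl⟩
  · rw [pow_one] at hk
    have hN : ∀ n, L.D.Nm n → n ∈ Subgroup.normalizer (R : Set G) := fun n hn =>
      Subgroup.mem_normalizer_fintype fun x hx => ⟨L.nm_A hn hx.1, by rw [conj_pow, hx.2]; group⟩
    haveI : IsCyclic R := isCyclic_of_prime_card hk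
    letI : CommGroup (MulAut R) :=
      { (inferInstance : Group (MulAut R)) with
        mul_comm := fun φ ψ => by
          apply (IsCyclic.mulAutMulEquiv R).injective
          rw [map_mul, map_mul]
          exact mul_comm _ _ }
    set f := R.normalizerMonoidHom
    let na : Subgroup.normalizer (R : Set G) := ⟨L.a, hN _ L.ha⟩
    let nb : Subgroup.normalizer (R : Set G) := ⟨L.a', hN _ L.a'_nm⟩
    have hz : f (na * nb * na⁻¹ * nb⁻¹) = 1 := by
      simp only [map_mul, map_inv]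
      rw [mul_comm (f na) (f nb), mul_inv_cancel_right, mul_inv_cancel]
    have hz' : (na * nb * na⁻¹ * nb⁻¹) ∈ f.ker := hz
    rw [Subgroup.normalizerMonoidHom_ker, Subgroup.mem_subgroupOf] at hz'
    have hc := Subgroup.mem_centralizer_iff.1 hz' r hrR
    simp only [na, nb, Subgroup.coe_mul, InvMemClass.coe_inv, L.z_comm] at hc
    have h := hinv r hrR
    rw [← hc, mul_inv_cancel_right] at h
    refine hr1 (orderOf_eq_one_iff.1 (Nat.eq_one_of_dvd_one ?_))
    have h2 : (r : G) ^ 2 = 1 := by rw [sq]; nth_rw 1 [h]; exact inv_mul_cancel _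
    have h' := Nat.dvd_gcd (orderOf_dvd_of_pow_eq_one hrR.2) (orderOf_dvd_of_pow_eq_one h2)
    rwa [(Nat.coprime_primes hp Nat.prime_two).2 hp2] at h'
  · -- a Sylow 5-subgroup would centralise the torus
    obtain ⟨D5, hD5⟩ := W.exists_sub (p := 5) (Or.inl rfl)
    obtain ⟨P0, h5⟩ := D5.five_data hD5
    have hfac : Nat.card (R : Subgroup G) = 5 ^ (Nat.card G).factorization 5 := by
      rw [hk, ← Sylow.card_eq_multiplicity P0, h5.card]
      norm_num
    obtain ⟨g, hg⟩ := MulAction.exists_smul_eq G P0 (Sylow.ofCard R hfac)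
    have hR : (P0 : Subgroup G).map (MulAut.conj g).toMonoidHom = R := congrArg Sylow.toSubgroup hg
    have hcR : Subgroup.centralizer (R : Set G) = R := by rw [← hR, ← map_cent, h5.cent]
    have ht : L.D.el (1, 0, 0) ∈ R := by
      rw [← hcR, Subgroup.mem_centralizer_iff]
      exact fun x hx => L.A_T hx.1 (L.D.el_mem _)
    have h1 := hp3' ht.2 (L.D.T_cube (L.D.el_mem _))
    rw [← L.D.el_zero] at h1
    exact absurd (L.D.el_injective h1) (by decide)

theorem exists_pow : ∃ k, k ≤ 3 ∧ Nat.card (L.A ⧸ L.AT) = 3 ^ k := by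
  classical
  haveI : Fact (Nat.Prime 3) := ⟨Nat.prime_three⟩
  obtain ⟨n, hn⟩ : ∃ n, Nat.card L.A = 3 ^ n :=
    ⟨(Nat.card L.A).primeFactorsList.length,
      Nat.eq_prime_pow_of_unique_prime_dvd Nat.card_pos.ne' fun {q} hq hd => L.prime_A hq hd⟩
  have hm := L.card_A_mul
  rw [hn, show (27 : ℕ) = 3 ^ 3 by norm_num] at hm
  obtain ⟨k, -, hk⟩ := (Nat.dvd_prime_pow Nat.prime_three).1 (Dvd.intro _ hm.symm)
  refine ⟨k, ?_, hk⟩
  rw [hk, ← pow_add] at hm
  have hnk : n = k + 3 := Nat.pow_right_injective (le_refl 2 |>.trans (by norm_num)) hm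
  set NA := Subgroup.normalizer (L.A : Set G)
  have hA_le : L.A ≤ NA := Subgroup.le_normalizer
  have hyN : L.y ∈ NA := Subgroup.mem_normalizer_fintype fun x hx => L.nm_A L.hy hx
  set q := QuotientGroup.mk' (L.A.subgroupOf NA)
  have hq : orderOf (q ⟨L.y, hyN⟩) = 3 := orderOf_eq_prime
    (by rw [← map_pow, show (⟨L.y, hyN⟩ : NA) ^ 3 = 1 from Subtype.ext L.hy3, map_one])
    fun h => by
      have hyA : L.y ∈ L.A :=
        (QuotientGroup.eq_one_iff (N := L.A.subgroupOf NA) (⟨L.y, hyN⟩ : NA)).1 h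
      have he := L.A_T hyA (L.D.el_mem (1, 0, 0))
      have h2 := mul_inv_eq_iff_eq_mul.mpr he
      rw [L.hy_el] at h2
      exact absurd (L.D.el_injective h2) (by decide)
  have h : 3 ^ (n + 1) ∣ 448345497600 := by
    refine dvd_trans ?_ (dvd_card (W := W) (H := NA))
    rw [Subgroup.card_eq_card_quotient_mul_card_subgroup (L.A.subgroupOf NA),
      Nat.card_congr (Subgroup.subgroupOfEquivOfLe hA_le).toEquiv, hn, pow_succ, mul_comm]
    exact Nat.mul_dvd_mul (hq ▸ orderOf_dvd_natCard _) dvd_rfl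
  by_contra hk3
  have := (pow_dvd_pow 3 (show 8 ≤ n + 1 by omega)).trans h
  norm_num at this

/-- `C(T)` is larger than `⟨z⟩ × T`: otherwise a Sylow 3-subgroup of `C(z)` would be one of `G`. -/
theorem card_ne_one : Nat.card (L.A ⧸ L.AT) ≠ 1 := by
  classical
  intro h1
  haveI : Fact (Nat.Prime 3) := ⟨Nat.prime_three⟩
  have hA : L.A = L.D.T := by
    refine (Subgroup.eq_of_le_of_card_ge L.T_le_A ?_).symm
    rw [L.card_A_mul, h1, L.D.card]
  have hNT : ∀ g, (∀ t ∈ L.D.T, g * t * g⁻¹ ∈ L.D.T) → g * W.F.z = W.F.z * g := by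
    intro g hg
    have hgN : g ∈ Subgroup.normalizer (L.D.T : Set G) := Subgroup.mem_normalizer_fintype hg
    have hc := L.CT_conj hgN L.z_mem_CT
    by_cases hA' : g * W.F.z * g⁻¹ ∈ L.A
    · have ho := (L.mem_A' hc).1 hA'
      rw [Involution.orderOf_conj, Involution.orderOf_of_sq W.F.z_sq W.F.z_ne] at ho
      exact absurd ho (by decide)
    · -- `C(T) = T ∪ z T`
      have hidx : (L.A.subgroupOf L.CT).index = 2 := by
        have h := (L.A.subgroupOf L.CT).card_mul_index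
        rw [Nat.card_congr (Subgroup.subgroupOfEquivOfLe L.A_le).toEquiv, L.card_CT] at h
        have hpos : 0 < Nat.card L.A := Nat.card_pos
        exact Nat.eq_of_mul_eq_mul_left hpos (h.trans (mul_comm _ _))
      have hm : W.F.z * (g * W.F.z * g⁻¹) ∈ L.A := by
        have := (Subgroup.mul_mem_iff_of_index_two hidx (a := ⟨W.F.z, L.z_mem_CT⟩)
          (b := ⟨g * W.F.z * g⁻¹, hc⟩)).2 (iff_of_false L.z_not_A hA')
        exact this
      rw [hA] at hm
      set t := W.F.z * (g * W.F.z * g⁻¹) with ht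
      have hx : g * W.F.z * g⁻¹ = W.F.z * t := by rw [ht, ← mul_assoc, W.F.z_sq, one_mul]
      have h2 : g * W.F.z * g⁻¹ * (g * W.F.z * g⁻¹) = 1 := by
        rw [show g * W.F.z * g⁻¹ * (g * W.F.z * g⁻¹) = g * (W.F.z * W.F.z) * g⁻¹ by group, W.F.z_sq]; group
      have hcomm : Commute W.F.z t := (L.D.mem_z hm).symm
      rw [hx, ← sq, hcomm.mul_pow, sq W.F.z, W.F.z_sq, one_mul] at h2
      have ht3 := L.D.T_cube hm
      rw [pow_succ, h2, one_mul] at ht3
      rw [ht3, mul_one] at hx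
      exact mul_inv_eq_iff_eq_mul.1 hx
  -- the Sylow subgroup of order 81
  set q := QuotientGroup.mk' (L.D.T.subgroupOf (Subgroup.normalizer (L.D.T : Set G)))
  set yb := q ⟨L.y, L.nm_normalizer L.hy⟩
  have hy3 : orderOf yb = 3 := orderOf_eq_prime
    (by rw [← map_pow, show (⟨L.y, L.nm_normalizer L.hy⟩ : Subgroup.normalizer (L.D.T : Set G)) ^ 3 = 1
      from Subtype.ext L.hy3, map_one])
    fun h => by
      have hyT : L.y ∈ L.D.T := (QuotientGroup.eq_one_iff
        (N := L.D.T.subgroupOf (Subgroup.normalizer (L.D.T : Set G)))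
        (⟨L.y, L.nm_normalizer L.hy⟩ : Subgroup.normalizer (L.D.T : Set G))).1 h
      have h2 := mul_inv_eq_iff_eq_mul.mpr (L.D.T_comm hyT (L.D.el_mem (1, 0, 0)))
      rw [L.hy_el] at h2
      exact absurd (L.D.el_injective h2) (by decide)
  set P := (Subgroup.comap q (Subgroup.zpowers yb)).map
    (Subgroup.normalizer (L.D.T : Set G)).subtype with hP
  have hPcard : Nat.card P = 3 ^ 4 := by
    rw [hP, Subgroup.card_map_of_injective (Subgroup.subtype_injective _)]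
    let f : Subgroup.comap q (Subgroup.zpowers yb) →* Subgroup.zpowers yb :=
      MonoidHom.mk' (fun x => ⟨q x.1, x.2⟩) fun a b => Subtype.ext (map_mul q _ _)
    have hf : Function.Surjective f := by
      rintro ⟨x, hx⟩
      obtain ⟨n, rfl⟩ := QuotientGroup.mk'_surjective _ x
      exact ⟨⟨n, hx⟩, rfl⟩
    have hk : Nat.card f.ker = 27 := by
      rw [← L.D.card]
      exact Nat.card_congr
        { toFun := fun x => ⟨(((x.1.1 : Subgroup.normalizer (L.D.T : Set G))) : G),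
            (QuotientGroup.eq_one_iff x.1.1).1 (congrArg Subtype.val x.2)⟩
          invFun := fun t => ⟨⟨⟨t, Subgroup.le_normalizer t.2⟩, by
            have : q ⟨t, Subgroup.le_normalizer t.2⟩ = 1 := (QuotientGroup.eq_one_iff _).2 t.2
            rw [Subgroup.mem_comap, this]; exact one_mem _⟩,
            Subtype.ext ((QuotientGroup.eq_one_iff _).2 t.2)⟩
          left_inv := fun x => rfl
          right_inv := fun t => rfl }
    have h := f.ker.card_mul_index
    rw [Subgroup.index_ker, MonoidHom.range_eq_top.2 hf, Subgroup.card_top, Nat.card_zpowers, hy3,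
      hk] at h
    rw [← h]
    norm_num
  have hPz : ∀ n, (∀ x ∈ P, n * x * n⁻¹ ∈ P) → n * W.F.z = W.F.z * n := by
    intro n hn
    refine hNT n fun t ht => ?_
    have htP : t ∈ P := ⟨⟨t, Subgroup.le_normalizer ht⟩, by
      show q ⟨t, Subgroup.le_normalizer ht⟩ ∈ Subgroup.zpowers yb
      rw [show q ⟨t, Subgroup.le_normalizer ht⟩ = 1 from (QuotientGroup.eq_one_iff _).2 ht]
      exact one_mem _, rfl⟩
    by_contra hout
    obtain ⟨x, hx, hxe⟩ := hn t htP
    obtain ⟨i, hi⟩ := Subgroup.mem_zpowers_iff.1 hx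
    have hmem : (⟨L.y, L.nm_normalizer L.hy⟩ ^ i)⁻¹ * x ∈
        L.D.T.subgroupOf (Subgroup.normalizer (L.D.T : Set G)) := by
      refine (QuotientGroup.eq_one_iff _).1 ?_
      show q _ = 1
      rw [map_mul, map_inv, map_zpow, hi, inv_mul_cancel]
    set u := n * t * n⁻¹ with hu
    have hxG : (x : G) = u := hxe
    set t1 := (L.y ^ i)⁻¹ * u with ht1
    have ht1T : t1 ∈ L.D.T := by
      have : ((L.y ^ i)⁻¹ * (x : G)) ∈ L.D.T := hmem
      rwa [hxG] at this
    -- the conjugate of the torus would be centralised by `y`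
    have hycent : ∀ s ∈ L.D.T, n * (n⁻¹ * s * n) * n⁻¹ = s := fun s _ => by group
    set B := (L.D.T.map (MulAut.conj n).toMonoidHom) ⊓ L.D.T with hB
    have hfix : ∀ s ∈ B, L.y * s * L.y⁻¹ = s := by
      intro s hs
      have hus : u * s = s * u := by
        obtain ⟨s', hs', hse⟩ := hs.1
        have e : s = n * s' * n⁻¹ := hse.symm
        calc u * s = n * (t * s') * n⁻¹ := by rw [e, hu]; group
          _ = n * (s' * t) * n⁻¹ := by rw [L.D.T_comm ht hs']
          _ = s * u := by rw [e, hu]; group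
      have hc : Commute (L.y ^ i) s := by
        have hu' : Commute u s := hus
        have ht' : Commute t1 s := L.D.T_comm ht1T hs.2
        have e : L.y ^ i = u * t1⁻¹ := by rw [ht1]; group
        rw [e]; exact hu'.mul_left ht'.inv_left
      have hi0 : ¬ (3 : ℤ) ∣ i := fun ⟨j, hj⟩ => hout (by
        have hyi : L.y ^ i = 1 := by
          rw [hj, zpow_mul, show (3 : ℤ) = ((3 : ℕ) : ℤ) by rfl, zpow_natCast, L.hy3, one_zpow]
        rwa [ht1, hyi, inv_one, one_mul] at ht1T)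
      obtain ⟨c, d, hcd⟩ := Int.isCoprime_iff_gcd_eq_one.2
        (show Int.gcd i 3 = 1 by
          rw [Int.gcd_comm]
          exact (Nat.Prime.coprime_iff_not_dvd Nat.prime_three).2
            (fun h => hi0 (Int.natCast_dvd.2 h)))
      have hy : L.y = (L.y ^ i) ^ c := by
        conv_lhs => rw [← zpow_one L.y, ← hcd]
        rw [zpow_add, mul_comm c i, mul_comm d 3, zpow_mul, zpow_mul,
          show (3 : ℤ) = ((3 : ℕ) : ℤ) by rfl, zpow_natCast, L.hy3, one_zpow, mul_one]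
      rw [hy]
      exact mul_inv_eq_iff_eq_mul.mpr (hc.zpow_left c).eq
    have hB3 : Nat.card B ≤ 3 := by
      let f : B → Fin 3 := fun s => (L.D.exists_el s.2.2).choose.1
      have hf : Function.Injective f := by
        intro s s' h
        have h1 := (L.D.exists_el s.2.2).choose_spec
        have h2 := (L.D.exists_el s'.2.2).choose_spec
        have e1 := hfix _ s.2
        have e2 := hfix _ s'.2
        rw [h1, L.hy_el] at e1
        rw [h2, L.hy_el] at e2
        obtain ⟨a1, a2⟩ := (e3_fix _).2 (L.D.el_injective e1)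
        obtain ⟨b1, b2⟩ := (e3_fix _).2 (L.D.el_injective e2)
        refine Subtype.ext ?_
        rw [h1, h2]
        exact congrArg L.D.el (Prod.ext h (Prod.ext (a1.symm.trans (h.trans b1))
          (a2.symm.trans (a1.symm.trans (h.trans (b1.trans b2))))))
      simpa using Nat.card_le_card_of_injective f hf
    set T' := L.D.T.map (MulAut.conj n).toMonoidHom with hT'
    have hT'c : Nat.card T' = 27 := by
      rw [hT', Subgroup.card_map_of_injective (MulAut.conj n).injective, L.D.card]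
    have hT'P : ∀ s ∈ T', ∃ hs : s ∈ Subgroup.normalizer (L.D.T : Set G),
        q ⟨s, hs⟩ ∈ Subgroup.zpowers yb := by
      rintro _ ⟨s, hs, rfl⟩
      obtain ⟨x, hx, hxe⟩ := hn s ⟨⟨s, Subgroup.le_normalizer hs⟩, by
        show q ⟨s, Subgroup.le_normalizer hs⟩ ∈ Subgroup.zpowers yb
        rw [show q ⟨s, Subgroup.le_normalizer hs⟩ = 1 from (QuotientGroup.eq_one_iff _).2 hs]
        exact one_mem _, rfl⟩
      have e : (x : G) = n * s * n⁻¹ := hxe
      refine ⟨by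
        show n * s * n⁻¹ ∈ _
        rw [← e]; exact x.2, ?_⟩
      show q ⟨n * s * n⁻¹, _⟩ ∈ _
      simp only [← e]
      exact hx
    let f : T' →* Subgroup.zpowers yb :=
      MonoidHom.mk' (fun s => ⟨q ⟨s, (hT'P s s.2).1⟩, (hT'P s s.2).2⟩)
        fun a b => Subtype.ext (by
          show q _ = q _ * q _
          rw [← map_mul]; rfl)
    have hker : Nat.card f.ker ≤ 3 := le_trans (Nat.card_le_card_of_injective
      (fun s => (⟨(s.1 : G), s.1.2, (QuotientGroup.eq_one_iff (N := L.D.T.subgroupOf (Subgroup.normalizer (L.D.T : Set G))) (⟨(s.1 : G), (hT'P s.1 s.1.2).1⟩ : Subgroup.normalizer (L.D.T : Set G))).1 (congrArg Subtype.val s.2)⟩ : B))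
      fun a b h => Subtype.ext (Subtype.ext (congrArg (fun x : B => (x : G)) h))) hB3
    have hr : Nat.card f.range ≤ 3 := by
      refine le_trans (Subgroup.card_le_card_group _) (le_of_eq ?_)
      rw [Nat.card_zpowers, hy3]
    have h := f.ker.card_mul_index
    rw [Subgroup.index_ker, hT'c] at h
    have := Nat.mul_le_mul hker hr
    omega
  have hdvd := Sylow.prime_dvd_card_quotient_normalizer (p := 3) (n := 4)
    (by rw [W.card_G]; norm_num) hPcard
  have h5 : 3 ^ 5 ∣ Nat.card (Subgroup.normalizer (P : Set G)) := by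
    rw [Subgroup.card_eq_card_quotient_mul_card_subgroup (P.comap (Subgroup.normalizer (P : Set G)).subtype)]
    refine (show 3 ^ 5 = 3 * 3 ^ 4 by norm_num) ▸ Nat.mul_dvd_mul hdvd (dvd_of_eq ?_)
    rw [← hPcard]
    exact (Nat.card_congr (Subgroup.subgroupOfEquivOfLe Subgroup.le_normalizer).toEquiv).symm
  have hle : Subgroup.normalizer (P : Set G) ≤ Subgroup.centralizer ({W.F.z} : Set G) := fun n hn =>
    Subgroup.mem_centralizer_singleton_iff.2 (hPz n fun x hx => (Subgroup.mem_normalizer_iff.1 hn x).1 hx)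
  have := h5.trans (Subgroup.card_dvd_of_le hle)
  rw [W.F.card_Cz] at this
  norm_num at this

/-- `A` has order 243. -/
theorem card_Y : Nat.card (L.A ⧸ L.AT) = 9 ∧ ∀ x : L.A ⧸ L.AT, x ^ 3 = 1 := by
  classical
  haveI : Fact (Nat.Prime 3) := ⟨Nat.prime_three⟩
  set σ := L.act L.a L.ha
  obtain ⟨k, hk3, hk⟩ := L.exists_pow
  have hpg : IsPGroup 3 (L.A ⧸ L.AT) := IsPGroup.of_card hk
  have hk0 : k ≠ 0 := fun h => L.card_ne_one (by rw [hk, h, pow_zero])
  haveI : Nontrivial (L.A ⧸ L.AT) := Finite.one_lt_card_iff_nontrivial.1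
    (by rw [hk]; exact Nat.one_lt_pow hk0 (by norm_num))
  obtain ⟨u, hu⟩ := exists_prime_orderOf_dvd_card' (G := L.A ⧸ L.AT) 3
    (by rw [hk]; exact dvd_pow_self 3 hk0)
  have hu3 : u ^ 3 = 1 := hu ▸ pow_orderOf_eq_one u
  have hu1 : u ≠ 1 := fun e => by rw [e, orderOf_one] at hu; omega
  have hk1 : k ≠ 1 := fun h => by
    have htop : Subgroup.zpowers u = ⊤ := Subgroup.eq_top_of_card_eq _ (by
      rw [Nat.card_zpowers, hu, hk, h, pow_one])
    obtain ⟨i, hi⟩ := Subgroup.mem_zpowers_iff.1 (htop ▸ Subgroup.mem_top (σ u))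
    exact L.no_line hu3 hu1 hi.symm
  have hk2 : k ≠ 3 := fun h => by
    -- the subgroup generated by `u` and its image has index three
    set v := σ u with hv
    have hv3 : v ^ 3 = 1 := by rw [hv, ← map_pow, hu3, map_one]
    let f : Fin 3 × Fin 3 → L.A ⧸ L.AT := fun e => u ^ e.1.val * v ^ e.2.val
    let B : Subgroup (L.A ⧸ L.AT) :=
      { carrier := {x | ∃ i j : ℕ, x = u ^ i * v ^ j}
        one_mem' := ⟨0, 0, by simp⟩
        mul_mem' := by
          rintro _ _ ⟨i, j, rfl⟩ ⟨i', j', rfl⟩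
          refine ⟨i + i', j + j', ?_⟩
          rw [pow_add, pow_add, mul_assoc, ← mul_assoc (v ^ j), L.Y_comm (v ^ j) (u ^ i')]
          group
        inv_mem' := by
          rintro _ ⟨i, j, rfl⟩
          refine ⟨i * 2, j * 2, ?_⟩
          have hu2 : u⁻¹ = u ^ 2 := inv_eq_of_mul_eq_one_right (by rw [← pow_succ', hu3])
          have hv2 : v⁻¹ = v ^ 2 := inv_eq_of_mul_eq_one_right (by rw [← pow_succ', hv3])
          rw [mul_inv_rev, ← inv_pow, ← inv_pow, hu2, hv2, ← pow_mul, ← pow_mul, mul_comm 2 i,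
            mul_comm 2 j, L.Y_comm] }
    have hB9 : Nat.card B ≤ 9 := by
      refine le_trans (Nat.card_le_card_of_surjective (f := fun e : Fin 3 × Fin 3 =>
        (⟨f e, e.1.val, e.2.val, rfl⟩ : B)) ?_) (by simp)
      rintro ⟨_, i, j, rfl⟩
      refine ⟨(⟨i % 3, Nat.mod_lt _ (by norm_num)⟩, ⟨j % 3, Nat.mod_lt _ (by norm_num)⟩), Subtype.ext ?_⟩
      show u ^ (i % 3) * v ^ (j % 3) = u ^ i * v ^ j
      conv_rhs => rw [← Nat.mod_add_div i 3, ← Nat.mod_add_div j 3]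
      rw [pow_add, pow_add, pow_mul, pow_mul, hu3, hv3, one_pow, one_pow, mul_one, mul_one]
    have huB : u ∈ B := ⟨1, 0, by simp⟩
    have hvB : v ∈ B := ⟨0, 1, by simp⟩
    have hσB : ∀ x ∈ B, σ x ∈ B := by
      rintro _ ⟨i, j, rfl⟩
      rw [map_mul, map_pow, map_pow, ← hv, L.a_sq_act u, hv]
      exact mul_mem (pow_mem hvB i) (pow_mem (inv_mem huB) j)
    haveI : B.Normal := ⟨fun x hx g => by rw [L.Y_comm g x, mul_inv_cancel_right]; exact hx⟩
    have hdvd := B.card_mul_index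
    rw [hk, h] at hdvd
    have hB3 : 3 < Nat.card B := by
      by_contra hle
      have hz : Subgroup.zpowers u = B := Subgroup.eq_of_le_of_card_ge
        (Subgroup.zpowers_le.2 huB) (by rw [Nat.card_zpowers, hu]; omega)
      obtain ⟨i, hi⟩ := Subgroup.mem_zpowers_iff.1 (hz.symm ▸ hvB)
      exact L.no_line hu3 hu1 hi.symm
    obtain ⟨m, -, hm⟩ := (Nat.dvd_prime_pow Nat.prime_three).1 (Dvd.intro _ hdvd)
    have hm2 : m = 2 := by
      rcases m with _ | _ | _ | m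
      · rw [pow_zero] at hm; omega
      · norm_num at hm; omega
      · rfl
      · exfalso
        rw [hm, pow_succ, pow_succ, pow_succ] at hB9
        have : 1 ≤ 3 ^ m := Nat.one_le_pow _ _ (by norm_num)
        omega
    rw [hm, hm2] at hdvd
    have hidx : B.index = 3 := by omega
    obtain ⟨w, hw⟩ : ∃ w, w ∉ B := by
      by_contra! hall
      rw [(Subgroup.eq_top_iff' B).2 hall, Subgroup.index_top] at hidx
      omega
    set q := QuotientGroup.mk' B
    have hqc : Nat.card (_ ⧸ B) = 3 := by rw [← Subgroup.index_eq_card, hidx]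
    have hqw : orderOf (q w) = 3 := by
      refine orderOf_eq_prime ?_ fun e => hw ((QuotientGroup.eq_one_iff _).1 e)
      rw [← hqc]; exact pow_card_eq_one'
    have htop : Subgroup.zpowers (q w) = ⊤ := Subgroup.eq_top_of_card_eq _ (by
      rw [Nat.card_zpowers, hqw, hqc])
    obtain ⟨i, hi⟩ := Subgroup.mem_zpowers_iff.1 (htop ▸ Subgroup.mem_top (q (σ w)))
    have h1 : (w ^ i)⁻¹ * σ w ∈ B := (QuotientGroup.eq_one_iff _).1 (by
      show q ((w ^ i)⁻¹ * σ w) = 1
      rw [map_mul, map_inv, map_zpow, hi, inv_mul_cancel])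
    have h2 := hσB _ h1
    rw [map_mul, map_inv, map_zpow, L.a_sq_act w] at h2
    have e2 : q (σ w) ^ i = (q w)⁻¹ := by
      have := (QuotientGroup.eq_one_iff _).2 h2
      change q ((σ w ^ i)⁻¹ * w⁻¹) = 1 at this
      rw [map_mul, map_inv, map_zpow, map_inv, inv_mul_eq_one] at this
      exact this
    rw [← hi, ← zpow_mul] at e2
    have hd : (orderOf (q w) : ℤ) ∣ i * i + 1 :=
      orderOf_dvd_iff_zpow_eq_one.2 (by rw [zpow_add_one, e2, inv_mul_cancel])
    rw [hqw] at hd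
    refine z3_sq (i : ZMod 3) ?_
    have := (ZMod.intCast_zmod_eq_zero_iff_dvd (i * i + 1) 3).2 hd
    push_cast at this
    exact this
  have hk' : k = 2 := by omega
  refine ⟨by rw [hk, hk']; rfl, fun x => ?_⟩
  by_contra hx
  have hd : orderOf x ∣ 3 ^ 2 := hk' ▸ hk ▸ orderOf_dvd_natCard x
  obtain ⟨m, hm2, hm⟩ := (Nat.dvd_prime_pow Nat.prime_three).1 hd
  have hm' : m = 2 := by
    by_contra h
    exact hx (orderOf_dvd_iff_pow_eq_one.1 (hm.symm ▸ pow_dvd_pow 3 (show m ≤ 1 by omega)))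
  rw [hm'] at hm
  have htop : Subgroup.zpowers x = ⊤ :=
    Subgroup.eq_top_of_card_eq _ (by rw [Nat.card_zpowers, hm, hk, hk'])
  obtain ⟨i, hi⟩ := Subgroup.mem_zpowers_iff.1 (htop ▸ Subgroup.mem_top (σ x))
  refine L.no_line (u := x ^ 3) ?_ hx (i := i) ?_
  · rw [← pow_mul, show 3 * 3 = 3 ^ 2 by norm_num, ← hm, pow_orderOf_eq_one]
  · rw [map_pow]
    calc σ x ^ 3 = (x ^ i) ^ 3 := by rw [hi]
      _ = (x ^ 3) ^ i := by
        rw [← zpow_natCast, ← zpow_mul, mul_comm, zpow_mul, zpow_natCast]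

theorem card_A : Nat.card L.A = 243 := by rw [L.card_A_mul, L.card_Y.1]

theorem A_comm {p q : G} (hp : p ∈ L.A) (hq : q ∈ L.A) : p * q = q * p := by
  classical
  haveI : Fact (Nat.Prime 3) := ⟨Nat.prime_three⟩
  obtain ⟨hY, hexp⟩ := L.card_Y
  haveI : Nontrivial (L.A ⧸ L.AT) := Finite.one_lt_card_iff_nontrivial.1 (by rw [hY]; norm_num)
  obtain ⟨u, hu1⟩ := exists_ne (1 : L.A ⧸ L.AT)
  obtain ⟨⟨s₀, hs₀⟩, rfl⟩ := QuotientGroup.mk_surjective u
  set u : L.A ⧸ L.AT := QuotientGroup.mk ⟨s₀, hs₀⟩ with hu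
  set w : L.A ⧸ L.AT := L.act L.a L.ha u with hw
  have hBtop : ∀ x, ∃ i j : ℕ, x = u ^ i * w ^ j := by
    let f : Fin 3 × Fin 3 → L.A ⧸ L.AT := fun e => u ^ e.1.val * w ^ e.2.val
    have hf : Function.Injective f := by
      have hsep : ∀ i j : ℤ, u ^ i * w ^ j = 1 → (3 : ℤ) ∣ i ∧ (3 : ℤ) ∣ j := by
        intro i j h
        have hou : orderOf u = 3 := orderOf_eq_prime (hexp u) hu1
        by_cases hj : (3 : ℤ) ∣ j
        · obtain ⟨c, rfl⟩ := hj
          rw [zpow_mul, show (3 : ℤ) = ((3 : ℕ) : ℤ) by rfl, zpow_natCast, hexp, one_zpow, mul_one] at h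
          have := orderOf_dvd_iff_zpow_eq_one.2 h
          rw [hou] at this
          exact ⟨this, dvd_mul_right _ _⟩
        · exfalso
          obtain ⟨c, d, hcd⟩ := Int.isCoprime_iff_gcd_eq_one.2
            (show Int.gcd j 3 = 1 by
              rw [Int.gcd_comm]
              exact (Nat.Prime.coprime_iff_not_dvd Nat.prime_three).2
                (fun h => hj (Int.natCast_dvd.2 h)))
          have hwj : w ^ j = (u ^ i)⁻¹ := eq_inv_of_mul_eq_one_right h
          refine L.no_line (hexp u) hu1 (i := -i * c) ?_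
          rw [← hw]
          conv_lhs => rw [← zpow_one w, ← hcd]
          rw [zpow_add, mul_comm c j, mul_comm d 3, zpow_mul, zpow_mul,
            show (3 : ℤ) = ((3 : ℕ) : ℤ) by rfl, zpow_natCast, hexp, one_zpow, mul_one, hwj, ← zpow_neg,
            ← zpow_mul]
      rintro ⟨i, j⟩ ⟨i', j'⟩ h
      have h' : u ^ ((i.val : ℤ) - i'.val) * w ^ ((j.val : ℤ) - j'.val) = 1 := by
        have h0 : u ^ i.val * w ^ j.val = u ^ i'.val * w ^ j'.val := h
        rw [zpow_sub, zpow_sub, zpow_natCast, zpow_natCast, zpow_natCast, zpow_natCast,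
          mul_assoc, L.Y_comm ((u ^ i'.val)⁻¹), ← mul_assoc, ← mul_assoc, h0,
          mul_inv_cancel_right, mul_inv_cancel]
      obtain ⟨h1, h2⟩ := hsep _ _ h'
      refine Prod.ext (Fin.ext ?_) (Fin.ext ?_)
      · show i.val = i'.val; omega
      · show j.val = j'.val; omega
    haveI := Fintype.ofFinite (L.A ⧸ L.AT)
    have hbij : Function.Bijective f :=
      (Fintype.bijective_iff_injective_and_card f).2 ⟨hf, by rw [← Nat.card_eq_fintype_card (α := _ ⧸ _), hY]; rfl⟩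
    intro x
    obtain ⟨⟨i, j⟩, rfl⟩ := hbij.2 x
    exact ⟨i, j, rfl⟩
  set v := L.a * s₀ * L.a⁻¹ with hv
  have hvA : v ∈ L.A := L.nm_A L.ha hs₀
  set d := ⁅s₀, v⁆ with hd
  have hdT : d ∈ L.D.T := L.comm_mem hs₀ hvA
  have hdec : ∀ x ∈ L.A, ∃ t ∈ L.D.T, ∃ i j : ℕ, x = s₀ ^ i * v ^ j * t := by
    intro x hx
    obtain ⟨i, j, e⟩ := hBtop (QuotientGroup.mk ⟨x, hx⟩)
    rw [hw, L.act_mk, hu, ← QuotientGroup.mk_pow, ← QuotientGroup.mk_pow, ← QuotientGroup.mk_mul,
      eq_comm, QuotientGroup.eq] at e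
    exact ⟨_, e, i, j, by
      show x = s₀ ^ i * v ^ j * ((s₀ ^ i * v ^ j)⁻¹ * x)
      group⟩
  -- all commutators are powers of `d`
  let Z := Subgroup.zpowers d
  have hbil : ∀ r ∈ L.A, ∀ x ∈ L.A, ∀ y ∈ L.A, ⁅r, x * y⁆ = ⁅r, x⁆ * ⁅r, y⁆ := by
    intro r hr x hx y hy
    have hc : Commute x ⁅r, y⁆ := L.A_T hx (L.comm_mem hr hy)
    calc ⁅r, x * y⁆ = ⁅r, x⁆ * (x * ⁅r, y⁆ * x⁻¹) := by simp only [commutatorElement_def]; group
      _ = _ := by rw [hc.eq, mul_inv_cancel_right]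
  have hgen : ∀ r ∈ L.A, ⁅r, s₀⁆ ∈ Z → ⁅r, v⁆ ∈ Z → ∀ x ∈ L.A, ⁅r, x⁆ ∈ Z := by
    intro r hr h1 h2 x hx
    obtain ⟨t, ht, i, j, rfl⟩ := hdec x hx
    have hpow : ∀ y ∈ L.A, ⁅r, y⁆ ∈ Z → ∀ n : ℕ, ⁅r, y ^ n⁆ ∈ Z := by
      intro y hy h n
      induction n with
      | zero => simp [commutatorElement_def]
      | succ n ih => rw [pow_succ, hbil r hr _ (pow_mem hy n) _ hy]; exact mul_mem ih h
    rw [hbil r hr _ (mul_mem (pow_mem hs₀ i) (pow_mem hvA j)) _ (L.T_le_A ht),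
      hbil r hr _ (pow_mem hs₀ i) _ (pow_mem hvA j),
      commutatorElement_eq_one_iff_mul_comm.2 (L.A_T hr ht), mul_one]
    exact mul_mem (hpow _ hs₀ h1 i) (hpow _ hvA h2 j)
  have hZ : ∀ r ∈ L.A, ∀ x ∈ L.A, ⁅r, x⁆ ∈ Z := by
    have hinv : ∀ {r x : G}, ⁅r, x⁆ ∈ Z → ⁅x, r⁆ ∈ Z := fun {r x} h => by
      rw [← commutatorElement_inv]; exact inv_mem h
    have hs : ∀ x ∈ L.A, ⁅s₀, x⁆ ∈ Z := hgen s₀ hs₀ (by simp [commutatorElement_def])
      (Subgroup.mem_zpowers d)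
    have hv' : ∀ x ∈ L.A, ⁅v, x⁆ ∈ Z := hgen v hvA (hinv (Subgroup.mem_zpowers d))
      (by simp [commutatorElement_def])
    exact fun r hr x hx => hgen r hr (hinv (hs r hr)) (hinv (hv' r hr)) x hx
  have hd1 : d = 1 := by
    obtain ⟨e, he⟩ := L.D.exists_el hdT
    -- `a` fixes `d`
    have hfix : L.a * d * L.a⁻¹ = d := by
      have hva : L.a * v * L.a⁻¹ = W.F.z * s₀ * W.F.z⁻¹ := by
        rw [hv, ← L.ha2]; group
      obtain ⟨t, ht, htw⟩ := L.z_tw hs₀
      rw [hd, show L.a * ⁅s₀, v⁆ * L.a⁻¹ = ⁅L.a * s₀ * L.a⁻¹, L.a * v * L.a⁻¹⁆ by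
        simp only [commutatorElement_def]; group, ← hv, hva, htw,
        hbil v hvA _ (inv_mem hs₀) _ (L.T_le_A ht),
        commutatorElement_eq_one_iff_mul_comm.2 (L.A_T hvA ht), mul_one]
      have h := hbil v hvA _ (inv_mem hs₀) _ hs₀
      rw [inv_mul_cancel, show ⁅v, (1 : G)⁆ = 1 by simp [commutatorElement_def]] at h
      rw [eq_inv_of_mul_eq_one_left h.symm, commutatorElement_inv]
    rw [he, L.ha_el] at hfix
    obtain ⟨e1, e2⟩ := (e3_fix e).1 (L.D.el_injective hfix)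
    obtain ⟨m, hm⟩ := Subgroup.mem_zpowers_iff.1
      (hZ _ (L.nm_A L.hy hs₀) _ (L.nm_A L.hy hvA))
    have hy : L.y * d * L.y⁻¹ = d ^ m := by
      rw [hm, hd]; simp only [commutatorElement_def]; group
    have hpow : ∀ c : ℤ, ∃ k : Fin 3, L.D.el (0, 0, e.2.2) ^ c = L.D.el (0, 0, k) := by
      intro c
      induction c with
      | zero => exact ⟨0, by rw [zpow_zero]; exact L.D.el_zero.symm⟩
      | succ c ih =>
        obtain ⟨k, hk⟩ := ih
        exact ⟨k + e.2.2, by rw [zpow_add_one, hk, L.D.el_mul]; simp⟩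
      | pred c ih =>
        obtain ⟨k, hk⟩ := ih
        exact ⟨k + -e.2.2, by rw [zpow_sub_one, hk, L.D.el_inv, L.D.el_mul]; simp⟩
    have he' : e = (0, 0, e.2.2) := Prod.ext e1 (Prod.ext e2 rfl)
    rw [he, he'] at hy
    obtain ⟨k, hk⟩ := hpow m
    rw [L.hy_el, hk] at hy
    have := congrArg Prod.fst (L.D.el_injective hy)
    simp only at this
    rw [he, he', this]
    exact L.D.el_zero
  have h := hZ p hp q hq
  rw [show Z = ⊥ from Subgroup.zpowers_eq_bot.2 hd1, Subgroup.mem_bot] at h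
  exact commutatorElement_eq_one_iff_mul_comm.1 h

theorem A_cube {p : G} (hp : p ∈ L.A) : p ^ 3 = 1 := by
  have h3 := L.card_Y.2 (QuotientGroup.mk ⟨p, hp⟩)
  rw [← QuotientGroup.mk_pow, QuotientGroup.eq_one_iff] at h3
  have hT : p ^ 3 ∈ L.D.T := h3
  obtain ⟨t, ht, e⟩ := L.z_tw hp
  have h := congrArg (· ^ 3) e
  simp only [conj_pow] at h
  rw [← L.D.mem_z hT, mul_inv_cancel_right,
    (show Commute p⁻¹ t from L.A_comm (inv_mem hp) (L.T_le_A ht)).mul_pow, L.D.T_cube ht, mul_one,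
    inv_pow] at h
  have h2 : (p ^ 3) ^ 2 = 1 := by rw [sq]; nth_rw 1 [h]; exact inv_mul_cancel _
  exact orderOf_eq_one_iff.1 (Nat.eq_one_of_dvd_one (by
    simpa using Nat.dvd_gcd (orderOf_dvd_of_pow_eq_one h2)
      (orderOf_dvd_of_pow_eq_one (L.D.T_cube hT))))

/-- `A` is self-centralising. -/
theorem cent_A : Subgroup.centralizer (L.A : Set G) = L.A := by
  refine le_antisymm (fun g hg => ?_) fun g hg =>
    Subgroup.mem_centralizer_iff.2 fun x hx => L.A_comm hx hg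
  have hgCT : g ∈ L.CT := L.mem_CT.2 fun t ht =>
    (Subgroup.mem_centralizer_iff.1 hg t (L.T_le_A ht)).symm
  by_contra hgA
  have hidx : (L.A.subgroupOf L.CT).index = 2 := by
    have h := (L.A.subgroupOf L.CT).card_mul_index
    rw [Nat.card_congr (Subgroup.subgroupOfEquivOfLe L.A_le).toEquiv, L.card_CT, L.card_A] at h
    omega
  have hzg : W.F.z * g ∈ L.A :=
    (Subgroup.mul_mem_iff_of_index_two hidx (a := ⟨W.F.z, L.z_mem_CT⟩) (b := ⟨g, hgCT⟩)).2
      (iff_of_false L.z_not_A hgA)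
  have hzA : ∀ x ∈ L.A, W.F.z * x = x * W.F.z := by
    intro x hx
    have e : W.F.z = (W.F.z * g) * g⁻¹ := by group
    have h1 : Commute x (W.F.z * g) := L.A_comm hx hzg
    have h2 : Commute x g := Subgroup.mem_centralizer_iff.1 hg x hx
    rw [e]
    exact (h1.mul_right h2.inv_right).eq.symm
  have : L.A ≤ L.D.T := fun x hx => L.fix_T hx (hzA x hx).symm
  have h := Subgroup.card_dvd_of_le this
  rw [L.card_A, L.D.card] at h
  norm_num at h

end Loc

end Cfsg.Agent.SuzType
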