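/-
The action of `N(T) ∩ C(z)` on the inverted part of `A = O(C(T))` in a group of Suzuki type (helper1).

* `NT` : the normaliser of the torus in `C(z)`; `S` : the elements of `A` inverted by `z`, of order 9
* `ψ` : the action on `S`, with kernel `T` and image `GL(2,3)`
-/
import Cfsg.Agent.Lib.SuzType.ThreeCent
import Cfsg.Agent.Lib.SuzType.Eleven

set_option autoImplicit false
open scoped commutatorElement

namespace Cfsg.Agent.SuzType

open Cfsg.Agent.Orth Cfsg.Agent.LargeExtraspecial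
open Cfsg.Agent.GL23Cent (kz k1 eps)

set_option synthInstance.maxSize 1024

/-- The exponent `k` at place `j`. -/
def sk (k : Fin 3) : Fin 3 → E3 := ![(k, 0, 0), (0, k, 0), (0, 0, k)]

theorem sk_one : ∀ j : Fin 3, sk 1 j = sgl j := by decide +kernel
theorem sk_two : ∀ j : Fin 3, sk 2 j = sgl j + sgl j := by decide +kernel
theorem sk_add : ∀ k j : Fin 3, sk k j + sk k j = sk (k + k) j := by decide +kernel
theorem sk_inj : ∀ k k' j j' : Fin 3, k ≠ 0 → sk k j = sk k' j' → j = j' ∧ k = k' := by decide +kernel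
theorem s_exp : ∀ i : Fin 3, ((sgl i).1, (sgl i).2.2, (sgl i).2.1) = sk 1 (-i) ∧
    (-(sgl i).1, (sgl i).2.2, (sgl i).2.1) = sk (![2, 1, 1] i) (-i) ∧ ![(2 : Fin 3), 1, 1] i ≠ 0 ∧
    sk 2 i + sk 2 i = sgl i ∧ sgl i ≠ 0 := by decide +kernel

theorem fin3_two : ∀ k : Fin 3, k ≠ 0 → k + k ≠ 0 := by decide +kernel

theorem fin3_mul : ∀ k l : Fin 3, k ≠ 0 → l ≠ 0 →
    k * l ≠ 0 ∧ (k = 1 ∨ k = 2) ∧ 2 * k = k + k ∧ k * k = 1 ∧ k * l = l * k := by decide +kernel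

theorem perm_cases : ∀ π π' : Fin 3 → Fin 3, (∀ i, π' (π i) = i) → (∀ i, π (π' i) = i) →
    (∀ i, π i = i) ∨ (∃ l : Fin 3, (l = 1 ∨ l = 2) ∧ ∀ i, π i + l = i) ∨
      ∀ i, π (π' i + 1) + 1 = i := by decide +kernel

theorem sign_cases : ∀ ε : Fin 3 → Fin 3, (∀ i, ε i ≠ 0) →
    (∀ i, ε i = 1) ∨ (∀ i, ε i * ![2, 2, 1] i = 1) ∨ (∀ i, ε i * ![1, 2, 2] i = 1) ∨
    (∀ i, ε i * ![2, 1, 2] i = 1) ∨ (∀ i, ε i = ![1, 1, 2] i) ∨
    (∀ i, ε i * ![2, 2, 1] i = ![1, 1, 2] i) ∨ (∀ i, ε i * ![1, 2, 2] i = ![1, 1, 2] i) ∨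
    (∀ i, ε i * ![2, 1, 2] i = ![1, 1, 2] i) := by decide +kernel

theorem pow_val_add {H : Type*} [Monoid H] {x : H} (hx : x ^ 3 = 1) (i j : ZMod 3) :
    x ^ (i + j).val = x ^ i.val * x ^ j.val := by
  rw [← pow_add, ZMod.val_add]
  conv_rhs => rw [← Nat.mod_add_div (i.val + j.val) 3, pow_add, pow_mul, hx, one_pow, mul_one]

variable {G : Type*} [Group G] [Finite G]

namespace Loc

variable {F : Fr G} (L : Loc F)

/-- The normaliser of the torus in `C(z)`. -/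
def NT : Subgroup G :=
  Subgroup.centralizer ({F.z} : Set G) ⊓ Subgroup.normalizer (L.D.T : Set G)

theorem mem_NT {g : G} : g ∈ L.NT ↔ L.D.Nm g :=
  ⟨fun h => ⟨Subgroup.mem_centralizer_singleton_iff.1 h.1,
    fun t ht => (Subgroup.mem_normalizer_iff.1 h.2 t).1 ht⟩,
   fun h => ⟨Subgroup.mem_centralizer_singleton_iff.2 h.1, L.nm_normalizer h⟩⟩

theorem el_pow_sum (e : E3) : L.D.el e =
    L.D.el (sgl 0) ^ e.1.val * L.D.el (sgl 1) ^ e.2.1.val * L.D.el (sgl 2) ^ e.2.2.val := by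
  refine (L.D.eq_el (mul_mem (mul_mem (pow_mem (L.D.el_mem _) _) (pow_mem (L.D.el_mem _) _))
    (pow_mem (L.D.el_mem _) _)) ?_).symm
  have hz : ∀ i (n : ℕ), L.D.el (sgl i) ^ n * F.z = F.z * L.D.el (sgl i) ^ n := fun i n =>
    L.D.mem_z (pow_mem (L.D.el_mem _) n)
  rw [F.T.ρ_mul _ _ (L.D.mem_z (mul_mem (pow_mem (L.D.el_mem _) _) (pow_mem (L.D.el_mem _) _)))
      (hz _ _), F.T.ρ_mul _ _ (hz _ _) (hz _ _), F.T.ρ_pow (L.D.mem_z (L.D.el_mem _)),
    F.T.ρ_pow (L.D.mem_z (L.D.el_mem _)), F.T.ρ_pow (L.D.mem_z (L.D.el_mem _)), L.D.el_ρ, L.D.el_ρ,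
    L.D.el_ρ, tor_sgl, tor_sgl, tor_sgl]
  rfl

theorem cent_gens {m : G} (h : ∀ i, m * L.D.el (sgl i) * m⁻¹ = L.D.el (sgl i)) {t : G}
    (ht : t ∈ L.D.T) : m * t = t * m := by
  obtain ⟨e, rfl⟩ := L.D.exists_el ht
  refine mul_inv_eq_iff_eq_mul.mp ?_
  conv_lhs => rw [L.el_pow_sum e]
  conv_rhs => rw [L.el_pow_sum e]
  rw [show ∀ a b c : G, m * (a * b * c) * m⁻¹ = (m * a * m⁻¹) * (m * b * m⁻¹) * (m * c * m⁻¹) from
    fun a b c => by group, ← conj_pow, ← conj_pow, ← conj_pow, h, h, h]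

/-- `n` permutes the lines of the torus by `π`. -/
def Maps (n : G) (π : Fin 3 → Fin 3) : Prop :=
  ∀ i, ∃ k : Fin 3, k ≠ 0 ∧ n * L.D.el (sgl i) * n⁻¹ = L.D.el (sk k (π i))

theorem exists_maps {n : G} (hn : L.D.Nm n) : ∃ π, L.Maps n π := by
  have h : ∀ i, ∃ j k : Fin 3, k ≠ 0 ∧ n * L.D.el (sgl i) * n⁻¹ = L.D.el (sk k j) := by
    intro i
    obtain ⟨e, he⟩ := L.D.exists_el (hn.2 _ (L.D.el_mem (sgl i)))
    have hρ : F.T.ρ n * rr i * (F.T.ρ n)⁻¹ = tor e := by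
      rw [← tor_sgl, ← L.D.el_ρ, ← F.T.ρ_conj' hn.1 (L.D.mem_z (L.D.el_mem _)), he, L.D.el_ρ]
    obtain ⟨j, k, rfl⟩ := frame_line hρ
    refine ⟨j, k, fun hk => ?_, he⟩
    subst hk
    have h0 : ∀ j : Fin 3, (![((0 : Fin 3), (0 : Fin 3), (0 : Fin 3)), (0, 0, 0), (0, 0, 0)] j : E3) = 0 := by
      decide +kernel
    rw [h0 j, L.D.el_zero, conj_eq_one_iff, ← L.D.el_zero] at he
    exact (s_exp i).2.2.2.2 (L.D.el_injective he)
  choose π k hk he using h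
  exact ⟨π, fun i => ⟨k i, hk i, he i⟩⟩

theorem Maps.sk {n : G} {π : Fin 3 → Fin 3} (hn : L.Maps n π) {c : Fin 3} (hc : c ≠ 0) (i : Fin 3) :
    ∃ k : Fin 3, k ≠ 0 ∧ n * L.D.el (SuzType.sk c i) * n⁻¹ = L.D.el (SuzType.sk k (π i)) := by
  obtain ⟨k, hk, he⟩ := hn i
  rcases (fin3_mul c c hc hc).2.1 with rfl | rfl
  · exact ⟨k, hk, by rw [sk_one, he]⟩
  · refine ⟨k + k, fin3_two k hk, ?_⟩
    rw [sk_two, ← L.D.el_mul, show ∀ a b : G, n * (a * b) * n⁻¹ = (n * a * n⁻¹) * (n * b * n⁻¹) from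
      fun a b => by group, he, L.D.el_mul, sk_add]

theorem Maps.mul {m n : G} {π σ : Fin 3 → Fin 3} (hm : L.Maps m π) (hn : L.Maps n σ) :
    L.Maps (m * n) fun i => π (σ i) := fun i => by
  obtain ⟨k, hk, he⟩ := hn i
  obtain ⟨k', hk', he'⟩ := Maps.sk L hm hk (σ i)
  exact ⟨k', hk', by rw [show m * n * L.D.el (sgl i) * (m * n)⁻¹ =
    m * (n * L.D.el (sgl i) * n⁻¹) * m⁻¹ by group, he, he']⟩

theorem maps_one : L.Maps 1 fun i => i := fun i => ⟨1, by decide, by rw [sk_one]; group⟩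

theorem Maps.unique {n : G} {π σ : Fin 3 → Fin 3} (h : L.Maps n π) (h' : L.Maps n σ) (i : Fin 3) :
    π i = σ i := by
  obtain ⟨k, hk, he⟩ := h i
  obtain ⟨k', -, he'⟩ := h' i
  exact (sk_inj k k' _ _ hk (L.D.el_injective (he.symm.trans he'))).1

theorem maps_T {t : G} (ht : t ∈ L.D.T) : L.Maps t fun i => i := fun i =>
  ⟨1, by decide, by rw [sk_one]; exact mul_inv_eq_iff_eq_mul.mpr (L.D.T_comm ht (L.D.el_mem _))⟩

theorem maps_a : L.Maps L.a fun i => i := fun i => by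
  refine ⟨![2, 2, 1] i, by revert i; decide +kernel, ?_⟩
  rw [L.ha_el]; congr 1; revert i; decide +kernel

theorem maps_a' : L.Maps L.a' fun i => i := fun i => by
  refine ⟨![1, 2, 2] i, by revert i; decide +kernel, ?_⟩
  rw [L.a'_el]; congr 1; revert i; decide +kernel

theorem maps_y : L.Maps L.y fun i => i + 1 := fun i => by
  refine ⟨1, by decide, ?_⟩
  rw [L.hy_el]; congr 1; revert i; decide +kernel

theorem maps_s : L.Maps L.s fun i => -i := fun i => by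
  rcases L.hs_el (sgl i) with e | e
  · refine ⟨1, by decide, ?_⟩
    rw [e, (s_exp i).1]
  · refine ⟨![2, 1, 1] i, (s_exp i).2.2.1, ?_⟩
    rw [e, (s_exp i).2.1]

end Loc

namespace Loc

variable {W : Fu G} (L : Loc W.F)

/-- The elements of `A` inverted by `z`. -/
noncomputable def S : Subgroup G where
  carrier := {p | p ∈ L.A ∧ W.F.z * p * W.F.z⁻¹ = p⁻¹}
  one_mem' := ⟨one_mem _, by group⟩
  mul_mem' := by
    rintro p q ⟨hp, hp'⟩ ⟨hq, hq'⟩
    refine ⟨mul_mem hp hq, ?_⟩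
    rw [show W.F.z * (p * q) * W.F.z⁻¹ = (W.F.z * p * W.F.z⁻¹) * (W.F.z * q * W.F.z⁻¹) by group, hp',
      hq', mul_inv_rev, L.A_comm (inv_mem hq) (inv_mem hp)]
  inv_mem' := by
    rintro p ⟨hp, hp'⟩
    refine ⟨inv_mem hp, ?_⟩
    rw [show W.F.z * p⁻¹ * W.F.z⁻¹ = (W.F.z * p * W.F.z⁻¹)⁻¹ by group, hp']

theorem S_le : L.S ≤ L.A := fun _ h => h.1

theorem S_inter_T {p : G} (hS : p ∈ L.S) (hT : p ∈ L.D.T) : p = 1 := by
  have h := hS.2
  rw [← L.D.mem_z hT, mul_inv_cancel_right] at h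
  have h2 : p ^ 2 = 1 := by rw [sq]; nth_rw 1 [h]; exact inv_mul_cancel p
  exact orderOf_eq_one_iff.1 (Nat.eq_one_of_dvd_one (by
    simpa using Nat.dvd_gcd (orderOf_dvd_of_pow_eq_one h2)
      (orderOf_dvd_of_pow_eq_one (L.A_cube hS.1))))

theorem A_split {p : G} (hp : p ∈ L.A) : ∃ σ ∈ L.S, ∃ t ∈ L.D.T, p = σ * t := by
  obtain ⟨t, ht, e⟩ := L.z_tw hp
  refine ⟨p * t, ⟨mul_mem hp (L.T_le_A ht), ?_⟩, t⁻¹, inv_mem ht, by group⟩
  have ht2 : t * t = t⁻¹ := eq_inv_of_mul_eq_one_left (by rw [← pow_two, ← pow_succ, L.D.T_cube ht])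
  rw [show W.F.z * (p * t) * W.F.z⁻¹ = (W.F.z * p * W.F.z⁻¹) * (W.F.z * t * W.F.z⁻¹) by group, e,
    show W.F.z * t * W.F.z⁻¹ = t by rw [← L.D.mem_z ht]; group, mul_assoc, ht2, mul_inv_rev,
    L.A_comm (inv_mem (L.T_le_A ht)) (inv_mem hp)]

theorem split_unique {σ σ' t t' : G} (hσ : σ ∈ L.S) (hσ' : σ' ∈ L.S) (ht : t ∈ L.D.T)
    (ht' : t' ∈ L.D.T) (h : σ * t = σ' * t') : σ = σ' ∧ t = t' := by
  have e : σ'⁻¹ * σ = t' * t⁻¹ := by
    calc σ'⁻¹ * σ = σ'⁻¹ * (σ * t) * t⁻¹ := by group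
      _ = t' * t⁻¹ := by rw [h]; group
  have e1 := L.S_inter_T (mul_mem (inv_mem hσ') hσ) (e ▸ mul_mem ht' (inv_mem ht))
  have hs : σ' = σ := inv_mul_eq_one.1 e1
  exact ⟨hs.symm, mul_left_cancel (hs ▸ h)⟩

theorem card_S : Nat.card L.S = 9 := by
  rw [← L.card_Y.1]
  refine Nat.card_eq_of_bijective
    (fun σ : L.S => (QuotientGroup.mk (⟨σ, L.S_le σ.2⟩ : L.A) : L.A ⧸ L.AT)) ⟨fun σ σ' h => ?_, fun x => ?_⟩
  · rw [QuotientGroup.eq] at h
    exact Subtype.ext (inv_mul_eq_one.1 (L.S_inter_T (mul_mem (inv_mem σ.2) σ'.2) h))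
  · obtain ⟨⟨p, hp⟩, rfl⟩ := QuotientGroup.mk_surjective x
    obtain ⟨σ, hσ, t, ht, rfl⟩ := L.A_split hp
    refine ⟨⟨σ, hσ⟩, QuotientGroup.eq.2 ?_⟩
    show σ⁻¹ * (σ * t) ∈ L.D.T
    rwa [inv_mul_cancel_left]

theorem S_conj {n : G} (hn : L.D.Nm n) {σ : G} (hσ : σ ∈ L.S) : n * σ * n⁻¹ ∈ L.S := by
  refine ⟨L.nm_A hn hσ.1, ?_⟩
  calc W.F.z * (n * σ * n⁻¹) * W.F.z⁻¹ = (W.F.z * n) * σ * (W.F.z * n)⁻¹ := by group
    _ = (n * W.F.z) * σ * (n * W.F.z)⁻¹ := by rw [hn.1]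
    _ = n * (W.F.z * σ * W.F.z⁻¹) * n⁻¹ := by group
    _ = (n * σ * n⁻¹)⁻¹ := by rw [hσ.2]; group

theorem exists_phi : Nonempty (Multiplicative (Fin 2 → ZMod 3) ≃* L.S) := by
  classical
  haveI : Nontrivial L.S := Finite.one_lt_card_iff_nontrivial.1 (by rw [L.card_S]; norm_num)
  obtain ⟨s1, hs1⟩ := exists_ne (1 : L.S)
  let s2 : L.S := ⟨L.a * s1 * L.a⁻¹, L.S_conj L.ha s1.2⟩
  have hcomm : ∀ x y : L.S, x * y = y * x := fun x y => Subtype.ext (L.A_comm x.2.1 y.2.1)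
  have h3 : ∀ x : L.S, x ^ 3 = 1 := fun x => Subtype.ext (L.A_cube x.2.1)
  let f : Multiplicative (Fin 2 → ZMod 3) →* L.S :=
    MonoidHom.mk' (fun v => s1 ^ (v.toAdd 0).val * s2 ^ (v.toAdd 1).val) fun v w => by
      show s1 ^ (v.toAdd 0 + w.toAdd 0).val * s2 ^ (v.toAdd 1 + w.toAdd 1).val = _
      rw [pow_val_add (h3 s1), pow_val_add (h3 s2), mul_assoc, ← mul_assoc (s1 ^ (w.toAdd 0).val),
        hcomm (s1 ^ (w.toAdd 0).val) (s2 ^ (v.toAdd 1).val), mul_assoc, mul_assoc]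
  have hinj : Function.Injective f := by
    refine (injective_iff_map_eq_one f).2 fun v hv => ?_
    have h : s1 ^ (v.toAdd 0).val * s2 ^ (v.toAdd 1).val = 1 := hv
    have hmem : s1 ∉ Subgroup.zpowers (1 : L.S) := by simpa [Subgroup.zpowers_one_eq_bot] using hs1
    have hv1 : v.toAdd 1 = 0 := by
      by_contra hne
      have key : ∀ j : ZMod 3, j ≠ 0 → j.val * j.val % 3 = 1 := by decide
      have hs2 : s2 ∈ Subgroup.zpowers s1 := by
        have e : s2 = (s2 ^ (v.toAdd 1).val) ^ (v.toAdd 1).val := by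
          rw [← pow_mul]
          conv_rhs => rw [← Nat.mod_add_div ((v.toAdd 1).val * (v.toAdd 1).val) 3, key _ hne, pow_add,
            pow_mul, h3, one_pow, mul_one, pow_one]
        rw [e, eq_inv_of_mul_eq_one_right h]
        exact pow_mem (inv_mem (pow_mem (Subgroup.mem_zpowers s1) _)) _
      obtain ⟨i, hi⟩ := Subgroup.mem_zpowers_iff.1 hs2
      set u : L.A ⧸ L.AT := QuotientGroup.mk ⟨s1, L.S_le s1.2⟩ with hu
      have hu1 : u ≠ 1 := fun e => hs1 (Subtype.ext (L.S_inter_T s1.2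
        ((QuotientGroup.eq_one_iff (N := L.AT) (⟨s1, L.S_le s1.2⟩ : L.A)).1 e)))
      refine L.no_line (L.card_Y.2 u) hu1 (i := i) ?_
      rw [hu, L.act_mk, ← QuotientGroup.mk_zpow]
      refine congrArg QuotientGroup.mk (Subtype.ext ?_)
      have h' := congrArg (fun x : L.S => (x : G)) hi
      simp only [Subgroup.coe_zpow] at h' ⊢
      exact h'.symm
    have hv0 : v.toAdd 0 = 0 := by
      rw [hv1, ZMod.val_zero, pow_zero, mul_one] at h
      have hd := orderOf_dvd_of_pow_eq_one h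
      haveI : Fact (Nat.Prime 3) := ⟨Nat.prime_three⟩
      rw [orderOf_eq_prime (h3 s1) hs1] at hd
      have hlt : (v.toAdd 0).val < 3 := ZMod.val_lt _
      exact (ZMod.val_eq_zero _).1 (by omega)
    refine Multiplicative.toAdd.injective (funext fun i => ?_)
    fin_cases i
    exacts [hv0, hv1]
  exact ⟨MulEquiv.ofBijective f ((Nat.bijective_iff_injective_and_card f).2
    ⟨hinj, by rw [L.card_S]; simp⟩)⟩

/-- Coordinates on `S`. -/
noncomputable def φ : Multiplicative (Fin 2 → ZMod 3) ≃* L.S := L.exists_phi.some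

/-- The action in coordinates. -/
noncomputable def lin (n : L.NT) : (Fin 2 → ZMod 3) →ₗ[ZMod 3] (Fin 2 → ZMod 3) :=
  AddMonoidHom.toZModLinearMap 3
    { toFun := fun x => (L.φ.symm ⟨(n : G) * L.φ (Multiplicative.ofAdd x) * (n : G)⁻¹,
        L.S_conj (L.mem_NT.1 n.2) (L.φ (Multiplicative.ofAdd x)).2⟩).toAdd
      map_zero' := by
        rw [ofAdd_zero, show (⟨(n : G) * (L.φ 1 : L.S) * (n : G)⁻¹,
          L.S_conj (L.mem_NT.1 n.2) (L.φ 1).2⟩ : L.S) = 1 from Subtype.ext (by simp), map_one]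
        rfl
      map_add' := fun x y => by
        rw [← toAdd_mul, ← map_mul]
        refine congrArg (fun s => (L.φ.symm s).toAdd) (Subtype.ext ?_)
        show (n : G) * (L.φ (Multiplicative.ofAdd (x + y)) : G) * (n : G)⁻¹ = _
        rw [ofAdd_add, map_mul, Subgroup.coe_mul]
        simp only [Subgroup.coe_mul]
        group }

theorem lin_spec (n : L.NT) (x : Fin 2 → ZMod 3) :
    ((L.φ (Multiplicative.ofAdd (L.lin n x)) : L.S) : G) =
      (n : G) * (L.φ (Multiplicative.ofAdd x) : G) * (n : G)⁻¹ := by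
  simp [lin]

/-- The action on `S`. -/
noncomputable def ψ : L.NT →* GL (Fin 2) (ZMod 3) :=
  MonoidHom.toHomUnits
    { toFun := fun n => LinearMap.toMatrix' (L.lin n)
      map_one' := by
        rw [← LinearMap.toMatrix'_id]
        refine congrArg _ (LinearMap.ext fun x => ?_)
        refine Multiplicative.ofAdd.injective (L.φ.injective (Subtype.ext ?_))
        rw [L.lin_spec]; simp
      map_mul' := fun m n => by
        rw [← LinearMap.toMatrix'_mul]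
        refine congrArg _ (LinearMap.ext fun x => ?_)
        refine Multiplicative.ofAdd.injective (L.φ.injective (Subtype.ext ?_))
        rw [Module.End.mul_apply, L.lin_spec, L.lin_spec, L.lin_spec]
        simp only [Subgroup.coe_mul]
        group }

theorem ψ_val (n : L.NT) : ((L.ψ n : GL (Fin 2) (ZMod 3)) : Matrix (Fin 2) (Fin 2) (ZMod 3)) =
    LinearMap.toMatrix' (L.lin n) := rfl

theorem ψ_one_iff {n : L.NT} : L.ψ n = 1 ↔ ∀ σ ∈ L.S, (n : G) * σ * (n : G)⁻¹ = σ := by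
  constructor
  · intro h σ hσ
    obtain ⟨x, hx⟩ := L.φ.surjective ⟨σ, hσ⟩
    have hl : L.lin n = LinearMap.id := LinearMap.toMatrix'.injective (by
      rw [← L.ψ_val, h, LinearMap.toMatrix'_id]; rfl)
    have h1 := L.lin_spec n x.toAdd
    rw [hl, LinearMap.id_apply, ofAdd_toAdd, hx] at h1
    exact h1.symm
  · intro h
    refine Units.ext ?_
    rw [L.ψ_val, show L.lin n = LinearMap.id from LinearMap.ext fun x =>
      Multiplicative.ofAdd.injective (L.φ.injective (Subtype.ext (by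
        rw [L.lin_spec, h _ (L.φ (Multiplicative.ofAdd x)).2]; rfl))), LinearMap.toMatrix'_id]
    rfl

theorem exists_S : ∃ σ ∈ L.S, σ ≠ 1 := by
  haveI : Nontrivial L.S := Finite.one_lt_card_iff_nontrivial.1 (by rw [L.card_S]; norm_num)
  obtain ⟨σ, hσ⟩ := exists_ne (1 : L.S)
  exact ⟨σ, σ.2, fun e => hσ (Subtype.ext e)⟩

theorem z_not_cent : ¬ ∀ σ ∈ L.S, W.F.z * σ * W.F.z⁻¹ = σ := fun h => by
  obtain ⟨σ, hσ, h1⟩ := L.exists_S
  refine h1 (L.S_inter_T hσ (L.fix_T hσ.1 ?_))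
  exact (mul_inv_eq_iff_eq_mul.1 (h σ hσ)).symm

/-- The square of a sign change inverts `S`, so no sign change is a sign on `S`. -/
theorem sq_z_not_sign {m : G} (hm : m * m = W.F.z) :
    ¬ ((∀ σ ∈ L.S, m * σ * m⁻¹ = σ) ∨ ∀ σ ∈ L.S, m * σ * m⁻¹ = σ⁻¹) := fun h => L.z_not_cent (by
  intro σ hσ
  rw [← hm, show m * m * σ * (m * m)⁻¹ = m * (m * σ * m⁻¹) * m⁻¹ by group]
  rcases h with h | h
  · rw [h σ hσ, h σ hσ]
  · rw [h σ hσ, show m * σ⁻¹ * m⁻¹ = (m * σ * m⁻¹)⁻¹ by group, h σ hσ, inv_inv])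

theorem y_four (σ : G) :
    L.y * (L.y * (L.y * (L.y * σ * L.y⁻¹) * L.y⁻¹) * L.y⁻¹) * L.y⁻¹ = L.y * σ * L.y⁻¹ := by
  calc L.y * (L.y * (L.y * (L.y * σ * L.y⁻¹) * L.y⁻¹) * L.y⁻¹) * L.y⁻¹
      = L.y ^ 3 * (L.y * σ * L.y⁻¹) * (L.y ^ 3)⁻¹ := by
        simp only [pow_succ, pow_zero, one_mul, mul_inv_rev, mul_assoc]
    _ = L.y * σ * L.y⁻¹ := by rw [L.hy3, inv_one, mul_one, one_mul]

theorem y_not_sign : ¬ ((∀ σ ∈ L.S, L.y * σ * L.y⁻¹ = σ) ∨ ∀ σ ∈ L.S, L.y * σ * L.y⁻¹ = σ⁻¹) := by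
  intro hor
  have h : ∀ σ ∈ L.S, L.y * σ * L.y⁻¹ = σ := by
    refine hor.resolve_right fun h => ?_
    obtain ⟨σ, hσ, h1⟩ := L.exists_S
    have e3 : L.y ^ 3 * σ * (L.y ^ 3)⁻¹ = σ⁻¹ := by
      rw [show L.y ^ 3 * σ * (L.y ^ 3)⁻¹ = L.y * (L.y * (L.y * σ * L.y⁻¹) * L.y⁻¹) * L.y⁻¹ by
          simp only [pow_succ, pow_zero, one_mul, mul_inv_rev, mul_assoc],
        h σ hσ, h _ (inv_mem hσ), inv_inv, h σ hσ]
    rw [L.hy3, one_mul, inv_one, mul_one] at e3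
    have h2 : σ ^ 2 = 1 := by rw [sq]; nth_rw 1 [e3]; exact inv_mul_cancel σ
    exact h1 (orderOf_eq_one_iff.1 (Nat.eq_one_of_dvd_one (by
      simpa using Nat.dvd_gcd (orderOf_dvd_of_pow_eq_one h2)
        (orderOf_dvd_of_pow_eq_one (L.A_cube hσ.1)))))
  -- then `a a'` acts as `a a`
  have ha' : ∀ σ ∈ L.S, L.a' * σ * L.a'⁻¹ = L.a * σ * L.a⁻¹ := by
    intro σ hσ
    have hi : L.y⁻¹ * σ * L.y = σ := by
      calc L.y⁻¹ * σ * L.y = L.y⁻¹ * (L.y * σ * L.y⁻¹) * L.y := by rw [h σ hσ]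
        _ = σ := by group
    rw [a', show L.y * L.a * L.y⁻¹ * σ * (L.y * L.a * L.y⁻¹)⁻¹ =
      L.y * (L.a * (L.y⁻¹ * σ * L.y) * L.a⁻¹) * L.y⁻¹ by group, hi, h _ (L.S_conj L.ha hσ)]
  refine L.sq_z_not_sign L.aa'_sq (Or.inr fun σ hσ => ?_)
  rw [show L.a * L.a' * σ * (L.a * L.a')⁻¹ = L.a * (L.a' * σ * L.a'⁻¹) * L.a⁻¹ by group, ha' σ hσ,
    show L.a * (L.a * σ * L.a⁻¹) * L.a⁻¹ = (L.a * L.a) * σ * (L.a * L.a)⁻¹ by group, L.ha2, hσ.2]

theorem cent_act {m : G} (hz : m * W.F.z = W.F.z * m) (hc : ∀ t ∈ L.D.T, m * t = t * m) :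
    (∀ σ ∈ L.S, m * σ * m⁻¹ = σ) ∧ m ∈ L.D.T ∨ ∀ σ ∈ L.S, m * σ * m⁻¹ = σ⁻¹ := by
  obtain ⟨e, he, t, ht, rfl⟩ := L.D.cent hz hc
  have hts : ∀ σ ∈ L.S, t * σ * t⁻¹ = σ := fun σ hσ =>
    mul_inv_eq_iff_eq_mul.mpr (L.A_comm (L.T_le_A ht) hσ.1)
  rcases he with rfl | rfl
  · refine Or.inl ⟨fun σ hσ => by rw [one_mul]; exact hts σ hσ, by rwa [one_mul]⟩
  · refine Or.inr fun σ hσ => ?_
    rw [show W.F.z * t * σ * (W.F.z * t)⁻¹ = W.F.z * (t * σ * t⁻¹) * W.F.z⁻¹ by group, hts σ hσ, hσ.2]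

theorem fix_sq {m : G} (hm : L.D.Nm m) (h : L.Maps m fun i => i) :
    (∀ σ ∈ L.S, m * m * σ * (m * m)⁻¹ = σ) ∨ ∀ σ ∈ L.S, m * m * σ * (m * m)⁻¹ = σ⁻¹ := by
  refine (L.cent_act (Tor.Nm.mul L.D hm hm).1 fun t ht => L.cent_gens (fun i => ?_) ht).imp_left And.left
  obtain ⟨k, hk, he⟩ := h i
  rw [show m * m * L.D.el (sgl i) * (m * m)⁻¹ = m * (m * L.D.el (sgl i) * m⁻¹) * m⁻¹ by group, he]
  rcases (fin3_mul k k hk hk).2.1 with rfl | rfl
  · rw [sk_one] at he ⊢; exact he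
  · rw [sk_two, ← L.D.el_mul, show ∀ a b : G, m * (a * b) * m⁻¹ = (m * a * m⁻¹) * (m * b * m⁻¹) from
      fun a b => by group, he, L.D.el_mul, (s_exp i).2.2.2.1]

/-- An element acting trivially on `S` fixes the lines. -/
theorem ker_lines {n : G} (hn : L.D.Nm n) (hS : ∀ σ ∈ L.S, n * σ * n⁻¹ = σ) :
    L.Maps n fun i => i := by
  have hni : L.D.Nm n⁻¹ := L.mem_NT.1 (inv_mem (L.mem_NT.2 hn))
  obtain ⟨π, hπ⟩ := L.exists_maps hn
  obtain ⟨π', hπ'⟩ := L.exists_maps hni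
  have e1 : ∀ i, π' (π i) = i := by
    have h := Maps.mul L hπ' hπ
    rw [inv_mul_cancel] at h
    exact fun i => Maps.unique L h L.maps_one i
  have e2 : ∀ i, π (π' i) = i := by
    have h := Maps.mul L hπ hπ'
    rw [mul_inv_cancel] at h
    exact fun i => Maps.unique L h L.maps_one i
  rcases perm_cases π π' e1 e2 with h | ⟨l, hl, h⟩ | h
  · exact (funext h : π = fun i => i) ▸ hπ
  · exfalso
    have hy2 : L.Maps (L.y * L.y) fun i => i + 2 := by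
      have h2 := Maps.mul L L.maps_y L.maps_y
      have e : (fun i : Fin 3 => i + 1 + 1) = fun i => i + 2 := by funext i; revert i; decide +kernel
      rwa [e] at h2
    rcases hl with rfl | rfl
    · have hm : L.Maps (L.y * n) fun i => i := by
        have h2 := Maps.mul L L.maps_y hπ
        have e : (fun i => π i + 1) = fun i : Fin 3 => i := funext h
        rwa [e] at h2
      rcases L.fix_sq (Tor.Nm.mul L.D L.hy hn) hm with h' | h'
      all_goals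
        have hyy : ∀ σ ∈ L.S, L.y * n * (L.y * n) * σ * (L.y * n * (L.y * n))⁻¹ =
            L.y * (L.y * σ * L.y⁻¹) * L.y⁻¹ := fun σ hσ => by
          rw [show L.y * n * (L.y * n) * σ * (L.y * n * (L.y * n))⁻¹ =
            L.y * (n * (L.y * (n * σ * n⁻¹) * L.y⁻¹) * n⁻¹) * L.y⁻¹ by group, hS σ hσ,
            hS _ (L.S_conj L.hy hσ)]
        refine L.y_not_sign ?_
        have hsq : ∀ σ, L.y * σ * L.y⁻¹ = L.y * (L.y * (L.y * (L.y * σ * L.y⁻¹) * L.y⁻¹) * L.y⁻¹) * L.y⁻¹ :=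
          fun σ => (L.y_four σ).symm
      · exact Or.inl fun σ hσ => by
          rw [hsq, ← hyy σ hσ, h' σ hσ, ← hyy σ hσ, h' σ hσ]
      · exact Or.inl fun σ hσ => by
          rw [hsq, ← hyy σ hσ, h' σ hσ, ← hyy _ (inv_mem hσ), h' _ (inv_mem hσ), inv_inv]
    · have hm : L.Maps (L.y * L.y * n) fun i => i := by
        have h2 := Maps.mul L hy2 hπ
        have e : (fun i => π i + 2) = fun i : Fin 3 => i := funext h
        rwa [e] at h2
      refine L.y_not_sign ?_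
      refine (L.fix_sq (Tor.Nm.mul L.D (Tor.Nm.mul L.D L.hy L.hy) hn) hm).imp (fun h' σ hσ => ?_)
        (fun h' σ hσ => ?_)
      all_goals
        refine Eq.trans ?_ (h' σ hσ)
        rw [show L.y * L.y * n * (L.y * L.y * n) * σ * (L.y * L.y * n * (L.y * L.y * n))⁻¹ =
          L.y * L.y * (n * (L.y * L.y * (n * σ * n⁻¹) * (L.y * L.y)⁻¹) * n⁻¹) * (L.y * L.y)⁻¹ by group,
          hS σ hσ, hS _ (L.S_conj (Tor.Nm.mul L.D L.hy L.hy) hσ),
          show L.y * L.y * (L.y * L.y * σ * (L.y * L.y)⁻¹) * (L.y * L.y)⁻¹ =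
            L.y * (L.y * (L.y * (L.y * σ * L.y⁻¹) * L.y⁻¹) * L.y⁻¹) * L.y⁻¹ by
            simp only [mul_inv_rev, mul_assoc], L.y_four]
  · exfalso
    have hm : L.Maps (L.y * (n * L.y * n⁻¹)) fun i => i := by
      have h2 := Maps.mul L L.maps_y (Maps.mul L (Maps.mul L hπ L.maps_y) hπ')
      have e : (fun i => π (π' i + 1) + 1) = fun i : Fin 3 => i := funext h
      rwa [e] at h2
    refine L.y_not_sign ?_
    have hnm := Tor.Nm.mul L.D L.hy (Tor.Nm.mul L.D (Tor.Nm.mul L.D hn L.hy) hni)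
    have hact : ∀ σ ∈ L.S, L.y * (n * L.y * n⁻¹) * σ * (L.y * (n * L.y * n⁻¹))⁻¹ =
        L.y * (L.y * σ * L.y⁻¹) * L.y⁻¹ := by
      intro σ hσ
      have hi : n⁻¹ * σ * n = σ := by
        calc n⁻¹ * σ * n = n⁻¹ * (n * σ * n⁻¹) * n := by rw [hS σ hσ]
          _ = σ := by group
      rw [show L.y * (n * L.y * n⁻¹) * σ * (L.y * (n * L.y * n⁻¹))⁻¹ =
        L.y * (n * (L.y * (n⁻¹ * σ * n) * L.y⁻¹) * n⁻¹) * L.y⁻¹ by group, hi,
        hS _ (L.S_conj L.hy hσ)]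
    refine (L.fix_sq hnm hm).imp (fun h' σ hσ => ?_) (fun h' σ hσ => ?_)
    all_goals
      set M := L.y * (n * L.y * n⁻¹) with hM
      refine Eq.trans ?_ (h' σ hσ)
      rw [show M * M * σ * (M * M)⁻¹ = M * (M * σ * M⁻¹) * M⁻¹ by group, hact σ hσ,
        hact _ (L.S_conj L.hy (L.S_conj L.hy hσ)), L.y_four]

/-- `n` acts on the torus by the signs `ε`. -/
def Sg (n : G) (ε : Fin 3 → Fin 3) : Prop :=
  ∀ i, n * L.D.el (sgl i) * n⁻¹ = L.D.el (SuzType.sk (ε i) i)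

theorem Sg.mul {m n : G} {ε η : Fin 3 → Fin 3} (hm : L.Sg m ε) (hn : L.Sg n η)
    (hη : ∀ i, η i ≠ 0) : L.Sg (m * n) fun i => η i * ε i := fun i => by
  rw [show m * n * L.D.el (sgl i) * (m * n)⁻¹ = m * (n * L.D.el (sgl i) * n⁻¹) * m⁻¹ by group, hn i]
  show m * L.D.el (SuzType.sk (η i) i) * m⁻¹ = L.D.el (SuzType.sk (η i * ε i) i)
  rcases (fin3_mul (η i) (η i) (hη i) (hη i)).2.1 with e | e <;> rw [e]
  · rw [sk_one, one_mul]; exact hm i
  · rw [sk_two, ← L.D.el_mul, show ∀ a b : G, m * (a * b) * m⁻¹ = (m * a * m⁻¹) * (m * b * m⁻¹) from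
      fun a b => by group, hm i, L.D.el_mul, sk_add]
    congr 2
    generalize ε i = c
    revert c; decide +kernel

/-- The kernel of the action on `S` is the torus. -/
theorem ker_eq {n : G} (hn : L.D.Nm n) (hS : ∀ σ ∈ L.S, n * σ * n⁻¹ = σ) : n ∈ L.D.T := by
  choose ε hε0 hε using L.ker_lines hn hS
  have hsg : L.Sg n ε := hε
  have haS : L.Sg L.a ![2, 2, 1] := fun i => by rw [L.ha_el]; congr 1; revert i; decide +kernel
  have ha'S : L.Sg L.a' ![1, 2, 2] := fun i => by rw [L.a'_el]; congr 1; revert i; decide +kernel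
  have haaS : L.Sg (L.a * L.a') ![2, 1, 2] := by
    have h := Sg.mul L haS ha'S (by decide +kernel)
    intro i
    rw [h i]; congr 2; revert i; decide +kernel
  have neg : ∀ {m : G}, L.D.Nm m → m * m = W.F.z → ∀ {η : Fin 3 → Fin 3}, L.Sg m η → (∀ i, η i ≠ 0) →
      (∀ i, ε i * η i = 1) → n ∈ L.D.T := by
    intro m hm hm2 η hη hη0 h1
    have hc : L.Sg (n * m) fun _ => 1 := by
      intro i
      rw [Sg.mul L hsg hη hη0 i]
      simp only [(fin3_mul (η i) (ε i) (hη0 i) (hε0 i)).2.2.2.2, h1]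
    refine absurd ?_ (L.sq_z_not_sign hm2)
    refine (L.cent_act (Tor.Nm.mul L.D hn hm).1
      (fun t ht => L.cent_gens (fun i => by rw [hc i, sk_one]) ht)).imp (fun h σ hσ => ?_) (fun h σ hσ => ?_)
    · rw [← hS _ (L.S_conj hm hσ)]
      have := h.1 σ hσ
      rw [show n * m * σ * (n * m)⁻¹ = n * (m * σ * m⁻¹) * n⁻¹ by group] at this
      exact this
    · rw [← hS _ (L.S_conj hm hσ)]
      have := h σ hσ
      rw [show n * m * σ * (n * m)⁻¹ = n * (m * σ * m⁻¹) * n⁻¹ by group] at this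
      exact this
  have pos : ∀ {m : G}, L.D.Nm m → ∀ {η : Fin 3 → Fin 3}, L.Sg m η → (∀ i, η i ≠ 0) →
      (∀ i, ε i * η i = ![1, 1, 2] i) → n ∈ L.D.T := by
    intro m hm η hη hη0 h1
    exfalso
    have hnm := Tor.Nm.mul L.D hn hm
    have hρ : ∀ i, W.F.T.ρ (n * m) * rr i * (W.F.T.ρ (n * m))⁻¹ = tor (SuzType.sk (![1, 1, 2] i) i) := by
      intro i
      rw [← tor_sgl, ← L.D.el_ρ, ← W.F.T.ρ_conj' hnm.1 (L.D.mem_z (L.D.el_mem _)), Sg.mul L hsg hη hη0 i]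
      simp only [(fin3_mul (η i) (ε i) (hη0 i) (hε0 i)).2.2.2.2, h1, L.D.el_ρ]
    refine no_single (g := W.F.T.ρ (n * m)) (W.F.T.ρ_mem _ hnm.1) ?_ ?_ ?_
    · exact (hρ 0).trans ((congrArg tor (sk_one 0)).trans (tor_sgl 0))
    · exact (hρ 1).trans ((congrArg tor (sk_one 1)).trans (tor_sgl 1))
    · exact (hρ 2).trans ((congrArg tor (sk_two 2)).trans (by rw [← tor_add, tor_sgl]))
  rcases sign_cases ε hε0 with h | h | h | h | h | h | h | h
  · rcases L.cent_act hn.1 (fun t ht => L.cent_gens (fun i => by rw [hε i, h i, sk_one]) ht) with h' | h'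
    · exact h'.2
    · obtain ⟨σ, hσ, h1⟩ := L.exists_S
      have e := (hS σ hσ).symm.trans (h' σ hσ)
      have h2 : σ ^ 2 = 1 := by rw [sq]; nth_rw 1 [e]; exact inv_mul_cancel σ
      exact absurd (orderOf_eq_one_iff.1 (Nat.eq_one_of_dvd_one (by
        simpa using Nat.dvd_gcd (orderOf_dvd_of_pow_eq_one h2)
          (orderOf_dvd_of_pow_eq_one (L.A_cube hσ.1))))) h1
  · exact neg L.ha L.ha2 haS (by decide +kernel) h
  · exact neg L.a'_nm L.a'_sq ha'S (by decide +kernel) h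
  · exact neg (Tor.Nm.mul L.D L.ha L.a'_nm) L.aa'_sq haaS (by decide +kernel) h
  · exact pos (L.mem_NT.1 (one_mem _)) (η := fun _ => 1) (fun i => by rw [sk_one]; group) (by decide)
      (fun i => by rw [mul_one]; exact h i)
  · exact pos L.ha haS (by decide +kernel) h
  · exact pos L.a'_nm ha'S (by decide +kernel) h
  · exact pos (Tor.Nm.mul L.D L.ha L.a'_nm) haaS (by decide +kernel) h

theorem ψ_ker {n : L.NT} : L.ψ n = 1 ↔ (n : G) ∈ L.D.T := by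
  rw [L.ψ_one_iff]
  exact ⟨L.ker_eq (L.mem_NT.1 n.2),
    fun ht σ hσ => mul_inv_eq_iff_eq_mul.mpr (L.A_comm (L.T_le_A ht) hσ.1)⟩

/-- The elements as members of `NT`. -/
noncomputable def nt {g : G} (h : L.D.Nm g) : L.NT := ⟨g, L.mem_NT.2 h⟩

theorem ψ_z : L.ψ (L.nt L.D.z_nm) = -1 := by
  refine Units.ext ?_
  rw [L.ψ_val, Units.val_neg, Units.val_one, show L.lin (L.nt L.D.z_nm) = -LinearMap.id from
    LinearMap.ext fun x => Multiplicative.ofAdd.injective (L.φ.injective (Subtype.ext (by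
      rw [L.lin_spec, LinearMap.neg_apply, LinearMap.id_apply, ofAdd_neg, map_inv,
        Subgroup.coe_inv]
      exact (L.φ (Multiplicative.ofAdd x)).2.2))), map_neg, LinearMap.toMatrix'_id]

theorem ψ_a_sq : L.ψ (L.nt L.ha) * L.ψ (L.nt L.ha) = -1 := by
  rw [← map_mul, ← L.ψ_z]
  exact congrArg L.ψ (Subtype.ext L.ha2)

theorem ψ_y : L.ψ (L.nt L.hy) ^ 3 = 1 ∧ L.ψ (L.nt L.hy) ≠ 1 := by
  refine ⟨by rw [← map_pow, show L.nt L.hy ^ 3 = 1 from Subtype.ext L.hy3, map_one], fun h => ?_⟩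
  exact absurd (Maps.unique L L.maps_y (L.maps_T (L.ψ_ker.1 h)) 0) (by decide)

/-- The table of `GL(2,3)`. -/
noncomputable def tab : GL23Cent.Table (GL (Fin 2) (ZMod 3)) :=
  GL23Cent.Table.ofEquiv (MulEquiv.refl _)

omit [Finite G] in
theorem tab_neg_one : tab.φ (-1) = kz := by
  refine GL23Cent.kz_unique _ ?_ ?_ fun k => ?_
  · rw [← tab.φ_mul, tab.eq_one_iff, neg_mul_neg, one_mul]
  · rw [Ne, tab.eq_one_iff]
    intro h
    have h0 := congrArg (fun g : GL (Fin 2) (ZMod 3) => (g : Matrix (Fin 2) (Fin 2) (ZMod 3)) 0 0) h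
    simp at h0
    exact absurd h0 (by decide)
  · obtain ⟨x, rfl⟩ := tab.φ.surjective k
    rw [← tab.φ_mul, ← tab.φ_mul, mul_neg_one, neg_one_mul]

theorem ψ_s : eps (tab.φ (L.ψ (L.nt L.hs))) ≠ 1 := by
  intro h
  obtain ⟨i, j, l, e⟩ := Eleven.table_word tab tab_neg_one L.ψ_a_sq L.ψ_y.1 L.ψ_y.2 _ h
  obtain ⟨A', hA'⟩ : ∃ g : L.NT, g = L.nt L.hy * L.nt L.ha * (L.nt L.hy)⁻¹ := ⟨_, rfl⟩
  obtain ⟨w, hwdef⟩ : ∃ g : L.NT, g = L.nt L.ha ^ i * A' ^ j * L.nt L.hy ^ l := ⟨_, rfl⟩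
  have hw : L.ψ ((L.nt L.hs)⁻¹ * w) = 1 := by
    rw [map_mul, map_inv, inv_mul_eq_one, e, hwdef, hA']
    simp only [map_mul, map_pow, map_inv]
  have ht := L.ψ_ker.1 hw
  have hpow : ∀ {g : G} {π : Fin 3 → Fin 3}, L.Maps g π → (∀ i, π i = i) → ∀ n : ℕ,
      L.Maps (g ^ n) fun i => i := by
    intro g π hg hπ n
    induction n with
    | zero => rw [pow_zero]; exact L.maps_one
    | succ n ih =>
      have h2 := Maps.mul L ih hg
      rw [pow_succ]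
      exact (funext hπ : π = fun i => i) ▸ h2
  have hyl : ∀ n : ℕ, ∃ c : Fin 3, L.Maps (L.y ^ n) fun i => i + c := by
    intro n
    induction n with
    | zero =>
      refine ⟨0, ?_⟩
      rw [pow_zero]
      have e : (fun i : Fin 3 => i + 0) = fun i => i := by funext i; simp
      rw [e]; exact L.maps_one
    | succ n ih =>
      obtain ⟨c, hc⟩ := ih
      refine ⟨1 + c, ?_⟩
      have h2 := Maps.mul L hc L.maps_y
      have e : (fun i : Fin 3 => i + 1 + c) = fun i => i + (1 + c) := by funext i; rw [add_assoc]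
      rw [pow_succ]; exact e ▸ h2
  obtain ⟨c, hc⟩ := hyl l
  have hwv : (w : G) = L.a ^ i * L.a' ^ j * L.y ^ l := by
    simp only [hwdef, hA', nt, a', Subgroup.coe_mul, SubmonoidClass.coe_pow, InvMemClass.coe_inv]
  have hM : L.Maps (w : G) fun i => i + c := by
    have hM0 : L.Maps (L.a ^ i * L.a' ^ j * L.y ^ l) fun i => i + c :=
      Maps.mul L (π := fun i => i) (Maps.mul L (π := fun i => i) (σ := fun i => i)
        (hpow L.maps_a (fun _ => rfl) i) (hpow L.maps_a' (fun _ => rfl) j)) hc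
    exact hwv.symm ▸ hM0
  have hs' : L.Maps (w : G) fun i => -i := by
    have h2 := Maps.mul L L.maps_s (L.maps_T ht)
    have e : L.s * (((L.nt L.hs)⁻¹ * w : L.NT) : G) = (w : G) := by
      rw [Subgroup.coe_mul, InvMemClass.coe_inv]
      exact mul_inv_cancel_left L.s _
    rwa [e] at h2
  have h0 := Maps.unique L hM hs' 0
  have h1 := Maps.unique L hM hs' 1
  simp only [neg_zero, zero_add] at h0
  rw [h0] at h1
  exact absurd h1 (by decide)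

theorem ψ_surjective : Function.Surjective L.ψ :=
  MonoidHom.range_eq_top.1 (Eleven.table_top tab tab_neg_one L.ψ_a_sq L.ψ_y.1 L.ψ_y.2 L.ψ_s L.ψ.range
    ⟨_, rfl⟩ ⟨_, rfl⟩ ⟨_, rfl⟩)

end Loc

end Cfsg.Agent.SuzType
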