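/-
The normaliser of the elementary abelian subgroup of order `3^5` in a group of Suzuki type (helper1).

* `card_MA`, `iso_M11` : `N(A)/A` is `M11`
* `exists_sylow` : the normaliser of a line of the torus contains a subgroup of order `3^7` containing `A`
-/
import Cfsg.Agent.Lib.SuzType.ThreeAct

set_option autoImplicit false
open scoped commutatorElement

namespace Cfsg.Agent.SuzType

open Cfsg.Agent.Orth Cfsg.Agent.LargeExtraspecial
open Cfsg.Agent.GL23Cent (kz k1 eps)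

set_option synthInstance.maxSize 1024

theorem sk_step : ∀ m : Fin 3, sk m 0 + sgl 0 = sk (m + 1) 0 ∧ sk m 0 + -sgl 0 = sk (m + 2) 0 := by
  decide +kernel

theorem sixteen_words : ∀ a y d : Fin 48, GL23Cent.mul a a = kz →
    GL23Cent.mul y (GL23Cent.mul y y) = k1 → y ≠ k1 → eps d ≠ 1 →
    (Finset.image (fun p : Fin 4 × Fin 4 × Fin 2 =>
      GL23Cent.mul (GL23Cent.mul (Eleven.tpow a p.1)
        (Eleven.tpow (GL23Cent.mul (GL23Cent.mul y a) (GL23Cent.mul y y)) p.2.1))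
        (Eleven.tpow d p.2.2)) Finset.univ).card ≥ 16 := by
  decide +kernel

/-- A subgroup of `GL(2,3)` with a quaternion part and an outer element but without a given element of
order 3. -/
theorem card_sixteen {a y d : GL (Fin 2) (ZMod 3)} (ha : a * a = -1) (hy : y ^ 3 = 1) (hy1 : y ≠ 1)
    (hd : eps (Loc.tab.φ d) ≠ 1) (K : Subgroup (GL (Fin 2) (ZMod 3))) (haK : a ∈ K)
    (ha'K : y * a * y⁻¹ ∈ K) (hdK : d ∈ K) (hyK : y ∉ K) : Nat.card K = 16 := by
  classical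
  set T := Loc.tab
  have hy3 : GL23Cent.mul (T.φ y) (GL23Cent.mul (T.φ y) (T.φ y)) = k1 := by
    rw [← T.φ_mul, ← T.φ_mul, T.eq_one_iff, ← hy, pow_succ, pow_two, mul_assoc]
  have hge := sixteen_words (T.φ a) (T.φ y) (T.φ d) (by rw [← T.φ_mul, ha, Loc.tab_neg_one]) hy3
    (fun e => hy1 (T.eq_one_iff.1 e)) hd
  have hyi : y⁻¹ = y * y := inv_eq_of_mul_eq_one_right (by rw [← hy, pow_succ, pow_two, mul_assoc])
  have h16 : 16 ≤ Nat.card K := by
    refine hge.trans ?_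
    rw [Nat.card_eq_fintype_card]
    have hsub : ∀ S : Finset (Fin 48), (∀ x ∈ S, ∃ k : K, T.φ (k : GL (Fin 2) (ZMod 3)) = x) →
        S.card ≤ Fintype.card K := by
      intro S hS
      choose k hk using fun x : S => hS x.1 x.2
      rw [← Fintype.card_coe]
      refine Fintype.card_le_of_injective k fun x y h => Subtype.ext ?_
      rw [← hk x, ← hk y, h]
    refine hsub _ ?_
    intro x hx
    obtain ⟨⟨i, j, l⟩, -, rfl⟩ := Finset.mem_image.1 hx
    refine ⟨⟨a ^ i.val * (y * a * y⁻¹) ^ j.val * d ^ l.val,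
      mul_mem (mul_mem (pow_mem haK _) (pow_mem ha'K _)) (pow_mem hdK _)⟩, ?_⟩
    simp only [T.φ_mul, Eleven.φ_pow, hyi]
  have h48 : Nat.card (GL (Fin 2) (ZMod 3)) = 48 := T.card_eq
  have hd48 := h48 ▸ K.card_subgroup_dvd_card
  have hne : Nat.card K ≠ 48 := fun h => hyK ((Subgroup.eq_top_of_card_eq K (h.trans h48.symm)).symm ▸ Subgroup.mem_top y)
  have hne24 : Nat.card K ≠ 24 := fun h => by
    have hi : K.index = 2 := by
      have := K.card_mul_index
      rw [h, h48] at this; omega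
    refine hyK ?_
    have e : y = (y ^ 2) ^ 2 := by rw [← pow_mul, show 2 * 2 = 3 + 1 by norm_num, pow_succ, hy, one_mul]
    rw [e]
    exact Subgroup.sq_mem_of_index_two hi _
  have key : ∀ n : Fin 49, n.val ∣ 48 → 16 ≤ n.val → n.val ≠ 48 → n.val ≠ 24 → n.val = 16 := by
    decide +kernel
  exact key ⟨Nat.card K, Nat.lt_succ_of_le (Nat.le_of_dvd (by norm_num) hd48)⟩ hd48 h16 hne hne24

variable {G : Type*} [Group G] [Finite G]

namespace Loc

variable {W : Fu G} (L : Loc W.F)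

/-- The normaliser of `A`. -/
noncomputable def NA : Subgroup G := Subgroup.normalizer (L.A : Set G)

/-- The quotient `N(A)/A`. -/
abbrev MA : Type _ := L.NA ⧸ L.A.subgroupOf L.NA

instance : (L.A.subgroupOf L.NA).Normal := Subgroup.normal_in_normalizer

theorem NT_le : L.NT ≤ L.NA := fun _ hn =>
  Subgroup.mem_normalizer_fintype fun _ hx => L.nm_A (L.mem_NT.1 hn) hx

theorem A_le_NA : L.A ≤ L.NA := Subgroup.le_normalizer

/-- The projection. -/
noncomputable abbrev q : L.NA →* L.MA := QuotientGroup.mk' _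

theorem q_eq_one {n : L.NA} : L.q n = 1 ↔ (n : G) ∈ L.A := QuotientGroup.eq_one_iff n

/-- The image of `z`. -/
noncomputable def zb : L.MA := L.q ⟨W.F.z, L.NT_le (L.mem_NT.2 L.D.z_nm)⟩

theorem orderOf_zb : orderOf L.zb = 2 :=
  orderOf_eq_prime
    (by rw [zb, ← map_pow]; exact L.q_eq_one.2 (by
      show W.F.z ^ 2 ∈ L.A
      rw [sq, W.F.z_sq]; exact one_mem _))
    fun h => L.z_not_A (L.q_eq_one.1 h)

/-- The map to the centraliser of the involution. -/
noncomputable def χ : L.NT →* Subgroup.centralizer ({L.zb} : Set L.MA) :=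
  MonoidHom.mk' (fun n => ⟨L.q ⟨n, L.NT_le n.2⟩, Subgroup.mem_centralizer_singleton_iff.2 (by
      rw [zb, ← map_mul, ← map_mul]
      exact congrArg L.q (Subtype.ext (L.mem_NT.1 n.2).1))⟩)
    fun a b => Subtype.ext (by
      show L.q _ = L.q _ * L.q _
      rw [← map_mul]; rfl)

theorem A_inter_NT {g : G} (hA : g ∈ L.A) (hN : L.D.Nm g) : g ∈ L.D.T := L.fix_T hA hN.1

theorem χ_ker {n : L.NT} : L.χ n = 1 ↔ (n : G) ∈ L.D.T := by
  constructor
  · intro h
    exact L.A_inter_NT (L.q_eq_one.1 (congrArg Subtype.val h)) (L.mem_NT.1 n.2)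
  · intro h
    exact Subtype.ext (L.q_eq_one.2 (L.T_le_A h))

theorem lift_cent {n : G} (hn : n ∈ L.NA) (h : L.q ⟨n, hn⟩ * L.zb = L.zb * L.q ⟨n, hn⟩) :
    ∃ b ∈ L.A, b⁻¹ * n ∈ L.NT := by
  set z := W.F.z with hz
  have hzz : z⁻¹ = z := z_inv
  have ha0 : n * z * n⁻¹ * z⁻¹ ∈ L.A := by
    rw [zb, ← map_mul, ← map_mul] at h
    have h' : L.q (⟨n, hn⟩ * ⟨z, L.NT_le (L.mem_NT.2 L.D.z_nm)⟩ * (⟨z, L.NT_le (L.mem_NT.2 L.D.z_nm)⟩ *
        ⟨n, hn⟩)⁻¹) = 1 := by
      rw [map_mul, map_inv, h, mul_inv_cancel]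
    have := L.q_eq_one.1 h'
    simpa [mul_inv_rev, mul_assoc] using this
  set a0 := n * z * n⁻¹ * z⁻¹ with ha0d
  have hinv : z * a0 * z⁻¹ = a0⁻¹ := by
    rw [ha0d, hzz]
    calc z * (n * z * n⁻¹ * z) * z = z * n * z * n⁻¹ * (z * z) := by group
      _ = z⁻¹ * n * z⁻¹ * n⁻¹ := by rw [W.F.z_sq, hzz, mul_one]
      _ = (n * z * n⁻¹ * z)⁻¹ := by group
  refine ⟨a0 ^ 2, pow_mem ha0 2, L.mem_NT.2 ?_⟩
  have ha3 := L.A_cube ha0
  have hcomm : (a0 ^ 2)⁻¹ * n * z = z * ((a0 ^ 2)⁻¹ * n) := by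
    have e1 : (a0 ^ 2)⁻¹ = a0 := inv_eq_of_mul_eq_one_left (by rw [← pow_succ', ha3])
    have e2 : z * a0 = a0⁻¹ * z := by rw [← hinv]; group
    have e3 : n * z = a0 * z * n := by rw [ha0d]; group
    have e4 : a0⁻¹ = a0 * a0 := inv_eq_of_mul_eq_one_right (by rw [← pow_two, ← pow_succ', ha3])
    rw [e1, mul_assoc, e3, ← mul_assoc z, e2, e4]
    group
  refine ⟨hcomm, fun t ht => ?_⟩
  have hb : (a0 ^ 2)⁻¹ * n ∈ L.NA := mul_mem (inv_mem (L.A_le_NA (pow_mem ha0 2))) hn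
  refine L.fix_T ((Subgroup.mem_normalizer_iff.1 hb t).1 (L.T_le_A ht)) ?_
  exact W.F.T.conj_z hcomm (L.D.mem_z ht)

theorem χ_surjective : Function.Surjective L.χ := by
  rintro ⟨x, hx⟩
  obtain ⟨⟨n, hn⟩, rfl⟩ := QuotientGroup.mk'_surjective _ x
  obtain ⟨b, hb, hbn⟩ := L.lift_cent hn (Subgroup.mem_centralizer_singleton_iff.1 hx)
  refine ⟨⟨b⁻¹ * n, hbn⟩, Subtype.ext ?_⟩
  show L.q _ = L.q _
  refine (QuotientGroup.eq).2 ?_
  show (b⁻¹ * n)⁻¹ * n ∈ L.A
  rw [show (b⁻¹ * n)⁻¹ * n = n⁻¹ * b * n by group]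
  exact (Subgroup.mem_normalizer_iff''.1 hn b).1 hb

theorem exists_eC : ∃ e : Subgroup.centralizer ({L.zb} : Set L.MA) ≃* GL (Fin 2) (ZMod 3),
    ∀ n, e (L.χ n) = L.ψ n := by
  have hk : L.χ.ker = L.ψ.ker := by
    ext n
    rw [MonoidHom.mem_ker, MonoidHom.mem_ker, L.χ_ker, L.ψ_ker]
  let e1 := QuotientGroup.quotientKerEquivOfSurjective L.χ L.χ_surjective
  let e2 := QuotientGroup.quotientKerEquivOfSurjective L.ψ L.ψ_surjective
  refine ⟨(e1.symm.trans (QuotientGroup.quotientMulEquivOfEq hk)).trans e2, fun n => ?_⟩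
  have h : e1.symm (L.χ n) = QuotientGroup.mk n := by
    rw [MulEquiv.symm_apply_eq]; rfl
  simp only [MulEquiv.trans_apply, h]
  rfl

theorem card_NA : Nat.card L.NA = Nat.card L.MA * 243 := by
  rw [Subgroup.card_eq_card_quotient_mul_card_subgroup (L.A.subgroupOf L.NA),
    Nat.card_congr (Subgroup.subgroupOfEquivOfLe L.A_le_NA).toEquiv, L.card_A]

/-- The centraliser of `y` in `A` has order at most 9. -/
theorem card_cent_y : Nat.card ↥(L.A ⊓ Subgroup.centralizer ({L.y} : Set G)) ≤ 9 := by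
  classical
  have hT : Nat.card ↥(L.D.T ⊓ Subgroup.centralizer ({L.y} : Set G)) ≤ 3 := by
    let f : ↥(L.D.T ⊓ Subgroup.centralizer ({L.y} : Set G)) → Fin 3 :=
      fun t => (L.D.exists_el t.2.1).choose.1
    have hf : Function.Injective f := by
      intro s s' h
      have h1 := (L.D.exists_el s.2.1).choose_spec
      have h2 := (L.D.exists_el s'.2.1).choose_spec
      have e1 : L.y * (s : G) * L.y⁻¹ = s :=
        mul_inv_eq_iff_eq_mul.mpr (Subgroup.mem_centralizer_singleton_iff.1 s.2.2).symm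
      have e2 : L.y * (s' : G) * L.y⁻¹ = s' :=
        mul_inv_eq_iff_eq_mul.mpr (Subgroup.mem_centralizer_singleton_iff.1 s'.2.2).symm
      rw [h1, L.hy_el] at e1
      rw [h2, L.hy_el] at e2
      obtain ⟨a1, a2⟩ := (e3_fix _).2 (L.D.el_injective e1)
      obtain ⟨b1, b2⟩ := (e3_fix _).2 (L.D.el_injective e2)
      refine Subtype.ext ?_
      rw [h1, h2]
      exact congrArg L.D.el (Prod.ext h (Prod.ext (a1.symm.trans (h.trans b1))
        (a2.symm.trans (a1.symm.trans (h.trans (b1.trans b2))))))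
    simpa using Nat.card_le_card_of_injective f hf
  have hS : Nat.card ↥(L.S ⊓ Subgroup.centralizer ({L.y} : Set G)) ≤ 3 := by
    have hd := L.card_S ▸ Subgroup.card_dvd_of_le
      (inf_le_left : L.S ⊓ Subgroup.centralizer ({L.y} : Set G) ≤ L.S)
    have hne : Nat.card ↥(L.S ⊓ Subgroup.centralizer ({L.y} : Set G)) ≠ 9 := by
      intro h
      refine L.y_not_sign (Or.inl fun σ hσ => ?_)
      have htop := Subgroup.eq_of_le_of_card_ge
        (inf_le_left : L.S ⊓ Subgroup.centralizer ({L.y} : Set G) ≤ L.S) (by rw [h, L.card_S])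
      have h' := (htop.ge hσ).2
      exact mul_inv_eq_iff_eq_mul.mpr (Subgroup.mem_centralizer_singleton_iff.1 h').symm
    have key : ∀ n : Fin 10, n.val ∣ 9 → n.val ≠ 9 → n.val ≤ 3 := by decide +kernel
    exact key ⟨_, Nat.lt_succ_of_le (Nat.le_of_dvd (by norm_num) hd)⟩ hd hne
  have hmem : ∀ p : ↥(L.A ⊓ Subgroup.centralizer ({L.y} : Set G)),
      ∃ σ : ↥(L.S ⊓ Subgroup.centralizer ({L.y} : Set G)),
      ∃ t : ↥(L.D.T ⊓ Subgroup.centralizer ({L.y} : Set G)), (p : G) = σ * t := by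
    rintro ⟨p, hpA, hpy⟩
    obtain ⟨σ, hσ, t, ht, rfl⟩ := L.A_split hpA
    have h : L.y * (σ * t) * L.y⁻¹ = σ * t :=
      mul_inv_eq_iff_eq_mul.mpr (Subgroup.mem_centralizer_singleton_iff.1 hpy).symm
    rw [show L.y * (σ * t) * L.y⁻¹ = (L.y * σ * L.y⁻¹) * (L.y * t * L.y⁻¹) by group] at h
    obtain ⟨e1, e2⟩ := L.split_unique (L.S_conj L.hy hσ) hσ (L.hy.2 t ht) ht h
    exact ⟨⟨σ, hσ, Subgroup.mem_centralizer_singleton_iff.2 (mul_inv_eq_iff_eq_mul.1 e1).symm⟩,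
      ⟨t, ht, Subgroup.mem_centralizer_singleton_iff.2 (mul_inv_eq_iff_eq_mul.1 e2).symm⟩, rfl⟩
  choose σ t he using hmem
  calc Nat.card ↥(L.A ⊓ Subgroup.centralizer ({L.y} : Set G))
      ≤ Nat.card (↥(L.S ⊓ Subgroup.centralizer ({L.y} : Set G)) ×
          ↥(L.D.T ⊓ Subgroup.centralizer ({L.y} : Set G))) :=
        Nat.card_le_card_of_injective (fun p => (σ p, t p)) fun p p' h => by
          refine Subtype.ext ?_
          rw [he p, he p', show σ p = σ p' from congrArg Prod.fst h, show t p = t p' from congrArg Prod.snd h]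
    _ ≤ 3 * 3 := by rw [Nat.card_prod]; exact Nat.mul_le_mul hS hT

theorem nine_dvd : 9 ∣ Nat.card L.MA ∧ ¬ 27 ∣ Nat.card L.MA := by
  classical
  haveI : Fact (Nat.Prime 3) := ⟨Nat.prime_three⟩
  refine ⟨?_, fun h => ?_⟩
  swap
  · have h1 : 27 * 243 ∣ 448345497600 :=
      (show 27 * 243 ∣ Nat.card L.NA by rw [L.card_NA]; exact Nat.mul_dvd_mul_right h 243).trans
        (dvd_card (W := W))
    norm_num at h1
  set yN : L.NA := ⟨L.y, L.NT_le (L.mem_NT.2 L.hy)⟩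
  obtain ⟨yb, hyb⟩ : ∃ m, m = L.q yN := ⟨_, rfl⟩
  have hyb3 : orderOf yb = 3 := by
    refine orderOf_eq_prime
      (by rw [hyb, ← map_pow]; exact L.q_eq_one.2 (show L.y ^ 3 ∈ L.A by rw [L.hy3]; exact one_mem _))
      fun h => ?_
    rw [hyb] at h
    exact absurd (Maps.unique L L.maps_y (L.maps_T (L.A_inter_NT (L.q_eq_one.1 h) L.hy)) 0) (by decide)
  set Q0 := Subgroup.comap L.q (Subgroup.zpowers yb) with hQ0
  set Q6 := Q0.map L.NA.subtype with hQ6
  have hQ0card : Nat.card Q0 = 3 ^ 6 := by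
    let f : Q0 →* Subgroup.zpowers yb :=
      MonoidHom.mk' (fun x => ⟨L.q x.1, x.2⟩) fun a b => Subtype.ext (map_mul L.q _ _)
    have hf : Function.Surjective f := by
      rintro ⟨x, hx⟩
      obtain ⟨n, rfl⟩ := QuotientGroup.mk'_surjective _ x
      exact ⟨⟨n, hx⟩, rfl⟩
    have hk : Nat.card f.ker = 243 := by
      rw [← L.card_A]
      exact Nat.card_congr
        { toFun := fun x => ⟨(x.1.1 : G), L.q_eq_one.1 (congrArg Subtype.val x.2)⟩
          invFun := fun a => ⟨⟨⟨a, L.A_le_NA a.2⟩, by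
              rw [hQ0, Subgroup.mem_comap, L.q_eq_one.2 (show ((⟨a, L.A_le_NA a.2⟩ : L.NA) : G) ∈ L.A from a.2)]
              exact one_mem _⟩,
            Subtype.ext (L.q_eq_one.2 (show ((⟨a, L.A_le_NA a.2⟩ : L.NA) : G) ∈ L.A from a.2))⟩
          left_inv := fun x => rfl
          right_inv := fun a => rfl }
    have h := f.ker.card_mul_index
    rw [Subgroup.index_ker, MonoidHom.range_eq_top.2 hf, Subgroup.card_top, Nat.card_zpowers, hyb3,
      hk] at h
    rw [← h]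
    norm_num
  have hQ6card : Nat.card Q6 = 3 ^ 6 := by
    rw [hQ6, Subgroup.card_map_of_injective L.NA.subtype_injective, hQ0card]
  have hAQ : L.A ≤ Q6 := fun a ha => ⟨⟨a, L.A_le_NA ha⟩, by
    rw [hQ0, SetLike.mem_coe, Subgroup.mem_comap,
      L.q_eq_one.2 (show ((⟨a, L.A_le_NA ha⟩ : L.NA) : G) ∈ L.A from ha)]
    exact one_mem _, rfl⟩
  have huniq : ∀ B : Subgroup G, B ≤ Q6 → Nat.card B = 243 →
      (∀ x ∈ B, ∀ x' ∈ B, x * x' = x' * x) → B = L.A := by
    intro B hB hcard hcomm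
    by_contra hne
    obtain ⟨u, hu, huA⟩ : ∃ u ∈ B, u ∉ L.A := by
      by_contra! hall
      exact hne (Subgroup.eq_of_le_of_card_ge hall (by rw [L.card_A, hcard]))
    have hmemQ : ∀ x ∈ B, ∃ hx : x ∈ L.NA, L.q ⟨x, hx⟩ ∈ Subgroup.zpowers yb := by
      intro x hx
      obtain ⟨⟨x', hx'⟩, hxm, rfl⟩ := hB hx
      exact ⟨hx', hxm⟩
    obtain ⟨huN, hum⟩ := hmemQ u hu
    obtain ⟨i, hi⟩ := Subgroup.mem_zpowers_iff.1 hum
    rw [hyb, ← map_zpow] at hi
    have hdiff : (L.y ^ i)⁻¹ * u ∈ L.A := by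
      have := L.q_eq_one.1 (show L.q ((yN ^ i)⁻¹ * ⟨u, huN⟩) = 1 by
        rw [map_mul, map_inv, hi, inv_mul_cancel])
      simpa [yN] using this
    have hi0 : ¬ (3 : ℤ) ∣ i := fun ⟨j, hj⟩ => huA (by
      have hyi : L.y ^ i = 1 := by
        rw [hj, zpow_mul, show (3 : ℤ) = ((3 : ℕ) : ℤ) by rfl, zpow_natCast, L.hy3, one_zpow]
      rwa [hyi, inv_one, one_mul] at hdiff)
    have hle : L.A ⊓ B ≤ L.A ⊓ Subgroup.centralizer ({L.y} : Set G) := by
      intro p hp
      refine ⟨hp.1, Subgroup.mem_centralizer_singleton_iff.2 ?_⟩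
      have h1 : Commute p u := hcomm p hp.2 u hu
      have h2 : Commute p ((L.y ^ i)⁻¹ * u) := L.A_comm hp.1 hdiff
      have h3 : Commute p (L.y ^ i) := by
        have e : L.y ^ i = u * ((L.y ^ i)⁻¹ * u)⁻¹ := by group
        rw [e]; exact h1.mul_right h2.inv_right
      obtain ⟨c, d, hcd⟩ := Int.isCoprime_iff_gcd_eq_one.2
        (show Int.gcd i 3 = 1 by
          rw [Int.gcd_comm]
          exact (Nat.Prime.coprime_iff_not_dvd Nat.prime_three).2
            (fun h => hi0 (Int.natCast_dvd.2 h)))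
      have hy : L.y = (L.y ^ i) ^ c := by
        conv_lhs => rw [← zpow_one L.y, ← hcd]
        rw [zpow_add, mul_comm c i, mul_comm d 3, zpow_mul, zpow_mul,
          show (3 : ℤ) = ((3 : ℕ) : ℤ) by rfl, zpow_natCast, L.hy3, one_zpow, mul_one]
      rw [hy]; exact (h3.zpow_right c).eq
    have h9 : Nat.card ↥(L.A ⊓ B) ≤ 9 :=
      (Nat.le_of_dvd Nat.card_pos (Subgroup.card_dvd_of_le hle)).trans L.card_cent_y
    let f : B →* Subgroup.zpowers yb :=
      MonoidHom.mk' (fun x => ⟨L.q ⟨x, (hmemQ x x.2).1⟩, (hmemQ x x.2).2⟩) fun a b => Subtype.ext (by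
        show L.q _ = L.q _ * L.q _
        rw [← map_mul]; rfl)
    have hker : Nat.card f.ker ≤ 9 := le_trans (Nat.card_le_card_of_injective
      (fun x : f.ker => (⟨(x.1 : G), L.q_eq_one.1 (show L.q ⟨(x.1 : G), (hmemQ x.1 x.1.2).1⟩ = 1 from
        congrArg Subtype.val x.2), x.1.2⟩ : ↥(L.A ⊓ B)))
      fun a b h => Subtype.ext (Subtype.ext (congrArg (fun x : ↥(L.A ⊓ B) => (x : G)) h))) h9
    have hr : Nat.card f.range ≤ 3 := by
      refine le_trans (Subgroup.card_le_card_group _) (le_of_eq ?_)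
      rw [Nat.card_zpowers, hyb3]
    have h := f.ker.card_mul_index
    rw [Subgroup.index_ker, hcard] at h
    have := Nat.mul_le_mul hker hr
    omega
  have hle : Subgroup.normalizer (Q6 : Set G) ≤ L.NA := by
    intro n hn
    have e := huniq (cj n L.A) (by
      rintro _ ⟨a, ha, rfl⟩
      exact (Subgroup.mem_normalizer_iff.1 hn a).1 (hAQ ha)) (by rw [card_cj, L.card_A]) (by
      rintro _ ⟨a, ha, rfl⟩ _ ⟨b, hb, rfl⟩
      rw [← map_mul, ← map_mul, L.A_comm ha hb])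
    exact cj_iff.1 e
  have hdvd := Sylow.prime_dvd_card_quotient_normalizer (p := 3) (n := 6)
    (by rw [W.card_G]; norm_num) hQ6card
  have h7 : 3 ^ 7 ∣ Nat.card (Subgroup.normalizer (Q6 : Set G)) := by
    rw [Subgroup.card_eq_card_quotient_mul_card_subgroup (Q6.comap (Subgroup.normalizer (Q6 : Set G)).subtype)]
    refine (show 3 ^ 7 = 3 * 3 ^ 6 by norm_num) ▸ Nat.mul_dvd_mul hdvd (dvd_of_eq ?_)
    rw [← hQ6card]
    exact (Nat.card_congr (Subgroup.subgroupOfEquivOfLe Subgroup.le_normalizer).toEquiv).symm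
  have h8 := h7.trans (Subgroup.card_dvd_of_le hle)
  rw [L.card_NA, show (3 : ℕ) ^ 7 = 9 * 243 by norm_num] at h8
  exact Nat.dvd_of_mul_dvd_mul_right (by norm_num) h8

theorem m11_data : Cfsg.Spor.IsoM11 L.MA ∧ Nat.card L.MA = 7920 ∧
    ∀ u : L.MA, orderOf u = 2 → IsConj L.zb u := by
  obtain ⟨e, -⟩ := L.exists_eC
  obtain ⟨h1, h2, -, h4⟩ := Eleven.m11 L.orderOf_zb e L.nine_dvd.1 L.nine_dvd.2
  exact ⟨h1, h2, h4⟩

/-- The first line of the torus. -/
noncomputable def X0 : Subgroup G := Subgroup.zpowers (L.D.el (sgl 0))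

theorem X0_le : L.X0 ≤ L.A := Subgroup.zpowers_le.2 (L.T_le_A (L.D.el_mem _))

theorem orderOf_el0 : orderOf (L.D.el (sgl 0)) = 3 := by
  haveI : Fact (Nat.Prime 3) := ⟨Nat.prime_three⟩
  refine orderOf_eq_prime (L.D.T_cube (L.D.el_mem _)) fun e => ?_
  rw [← L.D.el_zero] at e
  exact absurd (L.D.el_injective e) (by decide)

theorem mem_NX {n : G} {π : Fin 3 → Fin 3} (hn : L.Maps n π) (h0 : π 0 = 0) :
    n ∈ Subgroup.normalizer (L.X0 : Set G) := by
  refine Subgroup.mem_normalizer_fintype fun x hx => ?_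
  obtain ⟨i, rfl⟩ := Subgroup.mem_zpowers_iff.1 hx
  obtain ⟨k, hk, he⟩ := hn 0
  rw [← conj_zpow, he, h0]
  refine zpow_mem ?_ i
  rcases (fin3_mul k k hk hk).2.1 with rfl | rfl
  · rw [sk_one]; exact Subgroup.mem_zpowers _
  · rw [sk_two, ← L.D.el_mul]; exact mul_mem (Subgroup.mem_zpowers _) (Subgroup.mem_zpowers _)

theorem A_le_NX : L.A ≤ Subgroup.normalizer (L.X0 : Set G) := fun a ha =>
  Subgroup.mem_normalizer_fintype fun x hx => by
    have hx' : x ∈ L.X0 := hx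
    rw [L.A_comm ha (L.X0_le hx'), mul_inv_cancel_right]
    exact hx'

theorem y_not_NX : L.y ∉ Subgroup.normalizer (L.X0 : Set G) := by
  intro h
  have h1 := (Subgroup.mem_normalizer_iff.1 h _).1 (Subgroup.mem_zpowers (L.D.el (sgl 0)))
  obtain ⟨k, hk, he⟩ := L.maps_y 0
  rw [he] at h1
  obtain ⟨i, hi⟩ := Subgroup.mem_zpowers_iff.1 h1
  have hpow : ∀ c : ℤ, ∃ m : Fin 3, L.D.el (sgl 0) ^ c = L.D.el (sk m 0) := by
    intro c
    induction c with
    | zero => exact ⟨0, by rw [zpow_zero, ← L.D.el_zero]; rfl⟩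
    | succ c ih =>
      obtain ⟨m, hm⟩ := ih
      exact ⟨m + 1, by rw [zpow_add_one, hm, L.D.el_mul, (sk_step m).1]⟩
    | pred c ih =>
      obtain ⟨m, hm⟩ := ih
      exact ⟨m + 2, by rw [zpow_sub_one, hm, L.D.el_inv, L.D.el_mul, (sk_step m).2]⟩
  obtain ⟨m, hm⟩ := hpow i
  rw [hm] at hi
  exact absurd (sk_inj k m _ _ hk (L.D.el_injective hi).symm).1 (by decide)

/-- The stabiliser of the line in `N(A)/A`. -/
noncomputable def St : Subgroup L.MA :=
  ((L.NA ⊓ Subgroup.normalizer (L.X0 : Set G)).subgroupOf L.NA).map L.q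

theorem St_index : L.St.index = ((L.NA ⊓ Subgroup.normalizer (L.X0 : Set G)).subgroupOf L.NA).index := by
  refine Subgroup.index_map_eq _ (QuotientGroup.mk'_surjective _) ?_
  rw [QuotientGroup.ker_mk']
  intro a ha
  exact ⟨a.2, L.A_le_NX ha⟩

theorem St_card_cent :
    Nat.card ↥(L.St ⊓ Subgroup.centralizer ({L.zb} : Set L.MA)) = 16 := by
  classical
  set C := Subgroup.centralizer ({L.zb} : Set L.MA)
  obtain ⟨e, he⟩ : ∃ e : C ≃* GL (Fin 2) (ZMod 3), ∀ n, e (L.χ n) = L.ψ n := L.exists_eC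
  rw [← Nat.card_congr (Subgroup.subgroupOfEquivOfLe (inf_le_right : L.St ⊓ C ≤ C)).toEquiv,
    Nat.card_congr (Subgroup.equivMapOfInjective ((L.St ⊓ C).subgroupOf C) e.toMonoidHom e.injective).toEquiv]
  set K := ((L.St ⊓ C).subgroupOf C).map e.toMonoidHom
  have hmem : ∀ {g : G} (h : L.D.Nm g), g ∈ Subgroup.normalizer (L.X0 : Set G) → L.ψ (L.nt h) ∈ K := by
    intro g h hX
    exact ⟨L.χ (L.nt h), ⟨⟨⟨g, L.NT_le (L.mem_NT.2 h)⟩, ⟨L.NT_le (L.mem_NT.2 h), hX⟩, rfl⟩,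
      (L.χ (L.nt h)).2⟩, he _⟩
  have hyK : L.ψ (L.nt L.hy) ∉ K := by
    rintro ⟨x, ⟨hxS, -⟩, hx⟩
    rw [← he] at hx
    have hx' := e.injective hx
    subst hx'
    obtain ⟨⟨n, hn⟩, ⟨-, hnX⟩, hq⟩ := hxS
    have hd : n⁻¹ * L.y ∈ L.A := by
      have := (QuotientGroup.eq).1 hq
      exact this
    exact L.y_not_NX (by
      have hnX' : n ∈ Subgroup.normalizer (L.X0 : Set G) := hnX
      have := mul_mem hnX' (L.A_le_NX hd)
      rwa [mul_inv_cancel_left] at this)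
  have ha' : L.ψ (L.nt L.a'_nm) = L.ψ (L.nt L.hy) * L.ψ (L.nt L.ha) * (L.ψ (L.nt L.hy))⁻¹ := by
    rw [← map_inv, ← map_mul, ← map_mul]; rfl
  exact card_sixteen L.ψ_a_sq L.ψ_y.1 L.ψ_y.2 L.ψ_s K (hmem L.ha (L.mem_NX L.maps_a rfl))
    (ha' ▸ hmem L.a'_nm (L.mem_NX L.maps_a' rfl)) (hmem L.hs (L.mem_NX L.maps_s (by decide))) hyK

theorem St_le : L.St.index ≤ 121 := by
  classical
  rw [L.St_index, Subgroup.index_eq_card]
  haveI : Fact (Nat.Prime 3) := ⟨Nat.prime_three⟩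
  set H := (L.NA ⊓ Subgroup.normalizer (L.X0 : Set G)).subgroupOf L.NA
  let f : L.NA ⧸ H → {D : Subgroup G // D ≤ L.A ∧ Nat.card D = 3} :=
    Quotient.lift (fun n => ⟨cj (n : G) L.X0, by
      rintro _ ⟨x, hx, rfl⟩
      exact (Subgroup.mem_normalizer_iff.1 n.2 x).1 (L.X0_le hx), by
      rw [card_cj, X0, Nat.card_zpowers, L.orderOf_el0]⟩) fun m n h => by
      refine Subtype.ext ?_
      have h' : m⁻¹ * n ∈ H := QuotientGroup.leftRel_apply.1 h
      have := cj_iff.2 (show ((m⁻¹ * n : L.NA) : G) ∈ Subgroup.normalizer (L.X0 : Set G) from h'.2)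
      show cj (m : G) L.X0 = cj (n : G) L.X0
      conv_lhs => rw [← this]
      rw [← cj_mul]
      congr 1
      simp
  have hf : Function.Injective f := by
    intro x y h
    induction x using QuotientGroup.induction_on with
    | H m =>
      induction y using QuotientGroup.induction_on with
      | H n =>
        refine QuotientGroup.eq.2 ⟨(m⁻¹ * n : L.NA).2, cj_iff.1 ?_⟩
        have h' : cj (m : G) L.X0 = cj (n : G) L.X0 := congrArg Subtype.val h
        show cj ((m : G)⁻¹ * (n : G)) L.X0 = L.X0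
        rw [cj_mul, ← h', ← cj_mul, inv_mul_cancel, cj_one]
  refine (Nat.card_le_card_of_injective f hf).trans ?_
  let g : (Σ D : {D : Subgroup G // D ≤ L.A ∧ Nat.card D = 3}, {x : D.1 // x ≠ 1}) →
      {x : L.A // x ≠ 1} :=
    fun p => ⟨⟨p.2.1, p.1.2.1 p.2.1.2⟩, fun e => p.2.2 (Subtype.ext (congrArg (fun a : L.A => (a : G)) e))⟩
  have hg : Function.Injective g := by
    rintro ⟨⟨D, hD, hD3⟩, ⟨⟨x, hx⟩, hx1⟩⟩ ⟨⟨D', hD', hD3'⟩, ⟨⟨x', hx'⟩, hx1'⟩⟩ h
    have hxx : x = x' := congrArg (fun p : {x : L.A // x ≠ 1} => ((p.1 : L.A) : G)) h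
    subst hxx
    have key : ∀ D : Subgroup G, Nat.card D = 3 → x ∈ D → Subgroup.zpowers x = D := by
      intro D h3 hxD
      refine Subgroup.eq_of_le_of_card_ge (Subgroup.zpowers_le.2 hxD) ?_
      have h1 : orderOf x ∣ 3 := h3 ▸ Subgroup.orderOf_dvd_natCard _ hxD
      rw [Nat.card_zpowers, h3]
      rcases (Nat.dvd_prime Nat.prime_three).1 h1 with e | e
      · exact absurd (Subtype.ext (orderOf_eq_one_iff.1 e)) hx1
      · rw [e]
    have e : D = D' := (key D hD3 hx).symm.trans (key D' hD3' hx')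
    subst e
    rfl
  have hone : ∀ (K : Type _) [Group K] [Finite K], Nat.card {x : K // x ≠ 1} = Nat.card K - 1 := by
    intro K _ _
    haveI := Fintype.ofFinite K
    rw [Nat.card_eq_fintype_card, Nat.card_eq_fintype_card, Fintype.card_subtype_compl,
      Fintype.card_subtype_eq]
  have h := Nat.card_le_card_of_injective g hg
  rw [hone L.A, L.card_A] at h
  haveI := Fintype.ofFinite {D : Subgroup G // D ≤ L.A ∧ Nat.card D = 3}
  rw [Nat.card_sigma, Finset.sum_congr rfl (fun D _ => by rw [hone D.1, D.2.2]), Finset.sum_const,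
    smul_eq_mul, Finset.card_univ, ← Nat.card_eq_fintype_card] at h
  omega

/-- The line normaliser contains a subgroup of order `3^7` containing `A`. -/
theorem exists_sylow : ∃ P : Subgroup G, P ≤ Subgroup.normalizer (L.X0 : Set G) ∧ L.A ≤ P ∧
    Nat.card P = 3 ^ 7 := by
  classical
  haveI : Fact (Nat.Prime 3) := ⟨Nat.prime_three⟩
  obtain ⟨e, -⟩ := L.exists_eC
  obtain ⟨-, hcard, hconj⟩ := L.m11_data
  have hn3 := Eleven.index_not_three L.orderOf_zb e hcard hconj L.St L.St_card_cent L.St_le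
  rw [L.St_index] at hn3
  set H := L.NA ⊓ Subgroup.normalizer (L.X0 : Set G) with hH
  have hHc : 3 ^ 7 ∣ Nat.card H := by
    have h := (H.subgroupOf L.NA).card_mul_index
    rw [Nat.card_congr (Subgroup.subgroupOfEquivOfLe (inf_le_left : H ≤ L.NA)).toEquiv, L.card_NA,
      hcard] at h
    have hco : Nat.Coprime (3 ^ 7) (H.subgroupOf L.NA).index :=
      Nat.Coprime.pow_left _ ((Nat.Prime.coprime_iff_not_dvd Nat.prime_three).2 hn3)
    exact hco.dvd_of_dvd_mul_right (h ▸ (by norm_num))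
  have hA : IsPGroup 3 (L.A.subgroupOf H) := IsPGroup.of_card (n := 5) (by
    rw [Nat.card_congr (Subgroup.subgroupOfEquivOfLe (le_inf L.A_le_NA L.A_le_NX)).toEquiv, L.card_A]
    norm_num)
  obtain ⟨P, hP⟩ := hA.exists_le_sylow
  refine ⟨(P : Subgroup H).map H.subtype,
    (Subgroup.map_subtype_le _).trans inf_le_right,
    fun a ha => ⟨⟨a, L.A_le_NA ha, L.A_le_NX ha⟩, hP ha, rfl⟩, ?_⟩
  rw [Subgroup.card_map_of_injective H.subtype_injective, Sylow.card_eq_multiplicity]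
  congr 1
  refine le_antisymm ?_ ((Nat.Prime.pow_dvd_iff_le_factorization Nat.prime_three Nat.card_pos.ne').1 hHc)
  by_contra hlt
  have h8 : 3 ^ 8 ∣ 448345497600 := ((Nat.Prime.pow_dvd_iff_le_factorization Nat.prime_three
    Nat.card_pos.ne').2 (Nat.lt_of_not_le hlt)).trans (dvd_card (W := W))
  norm_num at h8

end Loc

end Cfsg.Agent.SuzType
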